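import Mathlib
import Cfsg.Agent.Lib.Helper10.BR0

/-!
# S0999 piece BR-G3: `[N(P) : C(P)] ≠ 1` for a Sylow subgroup of prime order in a
non-cyclic simple group (Burnside's transfer theorem)
-/

set_option autoImplicit false

namespace Cfsg.Agent.Lib.Helper10.BR

/-- BR-G3 -/
theorem relIndex_ne_one {G : Type*} [Group G] [Finite G] [IsSimpleGroup G] (hG : ¬ IsCyclic G)
    (p : ℕ) [Fact p.Prime] (P : Sylow p G) (hP : Nat.card P = p) :
    (Subgroup.centralizer ((P : Subgroup G) : Set G)).relIndex
      (Subgroup.normalizer ((P : Subgroup G) : Set G)) ≠ 1 := by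
  intro h
  have hNC : Subgroup.normalizer ((P : Subgroup G) : Set G)
      ≤ Subgroup.centralizer ((P : Subgroup G) : Set G) := Subgroup.relIndex_eq_one.1 h
  have hc := MonoidHom.ker_transferSylow_isComplement' P hNC
  have hp : p.Prime := Fact.out
  have hP' : Nat.card (P : Subgroup G) = p := hP
  rcases (MonoidHom.transferSylow P hNC).normal_ker.eq_bot_or_eq_top with hK | hK
  · rw [hK] at hc
    have hPtop : (P : Subgroup G) = ⊤ := Subgroup.isComplement'_bot_left.1 hc
    have hcard : Nat.card G = p := by
      rw [← hP', hPtop, Subgroup.card_top]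
    exact hG (isCyclic_of_prime_card hcard)
  · rw [hK] at hc
    have hPbot : (P : Subgroup G) = ⊥ := Subgroup.isComplement'_top_left.1 hc
    have h1 : Nat.card (P : Subgroup G) = 1 := by
      rw [hPbot, Subgroup.card_bot]
    have := hp.one_lt
    omega

end Cfsg.Agent.Lib.Helper10.BR
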