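import Mathlib
import Cfsg.Agent.Lib.Helper10.BR0
import Cfsg.Agent.Lib.Helper82.CharCore

/-!
# S0999 piece BR-II4: in configuration (II) every `θ ∈ Y` has `Σ_P θ = p` and `Σ_N θ = 0`
-/

set_option autoImplicit false

namespace Cfsg.Agent.Lib.Helper10.BR

open Cfsg
open Cfsg.Agent.Lib.Helper83 (trivIrr)
open scoped ComplexConjugate

namespace BRII4aux

theorem psum_one_ind {G : Type*} [Group G] [Fintype G] (H : Subgroup G)
    [DecidablePred (· ∈ H)] (f : G → ℂ) :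
    psum H f 1 = ∑ g : G, (if g ∈ H then f g else 0) := by
  classical
  rw [psum_eq_sum, ← Finset.sum_filter]
  simp only [one_mul]
  exact (Finset.sum_subtype _ (by simp) f).symm

theorem card_ind {G : Type*} [Group G] [Fintype G] (H : Subgroup G) [DecidablePred (· ∈ H)] :
    ∑ g : G, (if g ∈ H then (1 : ℂ) else 0) = (Nat.card H : ℂ) := by
  classical
  rw [Finset.sum_boole, Nat.card_eq_fintype_card, Fintype.card_subtype]

end BRII4aux

section T

variable {G : Type*} [Group G] [Fintype G] {p e t : ℕ} {P : Subgroup G} {ε : ℤ} {x₀ : ℕ}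
  {A B Y D : Finset (IrrCharacter G)}

/-- BR-II4 -/
theorem linY_II_of (h : Tab G p e t P ε x₀ A B Y D) (hε : ε = -1) (hx : x₀ = p - e)
    (ha : A.card * t + 2 = e)
    (hlinA : ∀ χ ∈ A, psum P (χ : G → ℂ) 1 = ((t * p : ℕ) : ℂ))
    (hlinY : ∑ θ ∈ Y, psum P (θ : G → ℂ) 1 = (t : ℂ) * (x₀ : ℂ) - ((p : ℂ) - 1) * (ε : ℂ))
    (hBv : ∀ χ ∈ B, ∀ y ∈ Subgroup.normalizer (P : Set G), y ∉ P → (χ : G → ℂ) y = 0)
    (hreg : ∀ y ∈ Subgroup.normalizer (P : Set G), y ∉ P → ¬ p ∣ orderOf y) :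
    ∀ θ ∈ Y, psum P (θ : G → ℂ) 1 = (p : ℂ) ∧
      psum (Subgroup.normalizer (P : Set G)) (θ : G → ℂ) 1 = 0 := by
  classical
  have hp := h.hp
  have hp0 : 0 < p := hp.pos
  have hPN : P ≤ Subgroup.normalizer (P : Set G) := Subgroup.le_normalizer
  -- multiplicities of the trivial character on `P` and on `N`
  have hcP : ∀ ψ : IrrCharacter G, ∃ m : ℕ, psum P (ψ : G → ℂ) 1 = ((p * m : ℕ) : ℂ) := by
    intro ψ
    obtain ⟨m, hm⟩ := Cfsg.Agent.Lib.Helper82.irr_sum_subgroup_eq P ψ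
    refine ⟨m, ?_⟩
    rw [BRII4aux.psum_one_ind, hm, h.cardP]
    push_cast
    ring
  have hcN : ∀ ψ : IrrCharacter G, ∃ m : ℕ,
      psum (Subgroup.normalizer (P : Set G)) (ψ : G → ℂ) 1 = ((e * p * m : ℕ) : ℂ) := by
    intro ψ
    obtain ⟨m, hm⟩ := Cfsg.Agent.Lib.Helper82.irr_sum_subgroup_eq
      (Subgroup.normalizer (P : Set G)) ψ
    refine ⟨m, ?_⟩
    rw [BRII4aux.psum_one_ind, hm, h.cardN]
    push_cast
    ring
  choose cP hcP using hcP
  choose cN hcN using hcN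
  -- the key identity for `θ ∈ Y`
  have key : ∀ θ ∈ Y, e * p + (∑ χ ∈ A, e * p * cN χ) + e * p * cN θ
      = p + A.card * (t * p) + p * cP θ := by
    intro θ hθ
    have hΦ : ∀ g : G,
        (if g ∈ Subgroup.normalizer (P : Set G)
          then (1 + ∑ χ ∈ A, (χ : G → ℂ) g + (θ : G → ℂ) g) else 0)
        = (if g ∈ P then (1 + ∑ χ ∈ A, (χ : G → ℂ) g + (θ : G → ℂ) g) else 0) := by
      intro g
      by_cases hgP : g ∈ P
      · rw [if_pos (hPN hgP), if_pos hgP]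
      · rw [if_neg hgP]
        by_cases hgN : g ∈ Subgroup.normalizer (P : Set G)
        · rw [if_pos hgN]
          have h1 := h.t1 θ hθ g (hreg g hgN hgP)
          have h2 : ∑ χ ∈ B, (χ : G → ℂ) g = 0 :=
            Finset.sum_eq_zero (fun χ hχ => hBv χ hχ g hgN hgP)
          rw [h2, hε] at h1
          push_cast at h1
          linear_combination -h1
        · rw [if_neg hgN]
    have hsplit : ∀ (H : Subgroup G),
        ∑ g : G, (if g ∈ H then (1 + ∑ χ ∈ A, (χ : G → ℂ) g + (θ : G → ℂ) g) else 0)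
        = (Nat.card H : ℂ) + ∑ χ ∈ A, psum H (χ : G → ℂ) 1 + psum H (θ : G → ℂ) 1 := by
      intro H
      simp only [BRII4aux.psum_one_ind]
      rw [Finset.sum_comm, ← BRII4aux.card_ind H, ← Finset.sum_add_distrib,
        ← Finset.sum_add_distrib]
      refine Finset.sum_congr rfl (fun g _ => ?_)
      by_cases hg : g ∈ H
      · simp [hg]
      · simp [hg]
    have e1 := hsplit (Subgroup.normalizer (P : Set G))
    have e2 := hsplit P
    rw [Finset.sum_congr rfl (fun g _ => hΦ g), e2] at e1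
    rw [h.cardP, h.cardN, Finset.sum_congr rfl (fun χ hχ => hlinA χ hχ), hcP θ, hcN θ,
      Finset.sum_congr rfl (fun χ _ => hcN χ), Finset.sum_const, nsmul_eq_mul] at e1
    have e3 : ((p + A.card * (t * p) + p * cP θ : ℕ) : ℂ)
        = ((e * p + (∑ χ ∈ A, e * p * cN χ) + e * p * cN θ : ℕ) : ℂ) := by
      push_cast
      push_cast at e1
      linear_combination e1
    exact (Nat.cast_injective e3).symm
  -- `cP θ = 1 + e * (Σ_A cN + cN θ)`
  have key2 : ∀ θ ∈ Y, cP θ = 1 + e * (∑ χ ∈ A, cN χ) + e * cN θ := by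
    intro θ hθ
    have k := key θ hθ
    have k1 : ∑ χ ∈ A, e * p * cN χ = p * (e * ∑ χ ∈ A, cN χ) := by
      rw [Finset.mul_sum, Finset.mul_sum]
      exact Finset.sum_congr rfl (fun _ _ => by ring)
    rw [k1] at k
    have k2 : p * (e + e * (∑ χ ∈ A, cN χ) + e * cN θ) = p * (1 + A.card * t + cP θ) := by
      linear_combination k
    have k3 := Nat.eq_of_mul_eq_mul_left hp0 k2
    generalize e * (∑ χ ∈ A, cN χ) = X at k3 ⊢
    generalize e * cN θ = Z at k3 ⊢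
    generalize A.card * t = W at k3 ha
    omega
  -- `Σ_Y cP = t`
  have hsumY : ∑ θ ∈ Y, cP θ = t := by
    have e1 : ∑ θ ∈ Y, psum P (θ : G → ℂ) 1 = ((p * ∑ θ ∈ Y, cP θ : ℕ) : ℂ) := by
      rw [Finset.sum_congr rfl (fun θ _ => hcP θ)]
      push_cast
      rw [Finset.mul_sum]
    rw [e1, hε] at hlinY
    have hle : e ≤ p := by
      have h1 := h.het
      have h2 := h.ht
      have h3 : e ≤ e * t := Nat.le_mul_of_pos_right e (by omega)
      omega
    have hx' : (x₀ : ℂ) = (p : ℂ) - (e : ℂ) := by rw [hx, Nat.cast_sub hle]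
    have het' : ((e : ℂ) * (t : ℂ)) = (p : ℂ) - 1 := by
      have h1 := h.het
      rw [← Nat.cast_mul, h1, Nat.cast_sub hp.one_lt.le, Nat.cast_one]
    have e2 : ((p * ∑ θ ∈ Y, cP θ : ℕ) : ℂ) = ((p * t : ℕ) : ℂ) := by
      rw [hlinY, hx']
      push_cast
      linear_combination (-1 : ℂ) * het'
    exact Nat.eq_of_mul_eq_mul_left hp0 (Nat.cast_injective e2)
  have hall : ∀ θ ∈ Y, cN θ = 0 ∧ cP θ = 1 := by
    have hs : ∑ θ ∈ Y, cP θ = ∑ θ ∈ Y, (1 + e * (∑ χ ∈ A, cN χ) + e * cN θ) :=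
      Finset.sum_congr rfl key2
    rw [hsumY, Finset.sum_add_distrib, Finset.sum_add_distrib, Finset.sum_const,
      Finset.sum_const, h.cardY, smul_eq_mul, smul_eq_mul, mul_one, ← Finset.mul_sum] at hs
    have h0 : t * (e * ∑ χ ∈ A, cN χ) = 0 ∧ e * ∑ θ ∈ Y, cN θ = 0 := by
      generalize t * (e * ∑ χ ∈ A, cN χ) = X at hs ⊢
      generalize e * ∑ θ ∈ Y, cN θ = Z at hs ⊢
      omega
    have he := h.he
    have ht := h.ht
    have hSA0 : ∑ χ ∈ A, cN χ = 0 := by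
      rcases Nat.mul_eq_zero.1 h0.1 with h' | h'
      · omega
      · rcases Nat.mul_eq_zero.1 h' with h'' | h''
        · omega
        · exact h''
    have hcN0 : ∑ θ ∈ Y, cN θ = 0 := by
      rcases Nat.mul_eq_zero.1 h0.2 with h' | h'
      · omega
      · exact h'
    intro θ hθ
    have hc : cN θ = 0 := (Finset.sum_eq_zero_iff.1 hcN0) θ hθ
    refine ⟨hc, ?_⟩
    rw [key2 θ hθ, hSA0, hc, mul_zero]
    norm_num
  intro θ hθ
  obtain ⟨h1, h2⟩ := hall θ hθ
  refine ⟨?_, ?_⟩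
  · rw [hcP θ, h2, mul_one]
  · rw [hcN θ, h1, mul_zero, Nat.cast_zero]

end T

end Cfsg.Agent.Lib.Helper10.BR
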