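import Mathlib
import Cfsg.Agent.Lib.Helper10.BWDefs
import Cfsg.Agent.Lib.Helper82.CharCore
import Cfsg.Agent.Lib.Helper83.IrrBasic
import Cfsg.Agent.Lib.Helper21.Loc2

/-!
# S0997 case B2 (project BW), piece BW-CP (helper74)

A character of the principal block of degree less than `p` is trivial on the `p`-regular
elements of `C_G(P)`, `P` a Sylow `p`-subgroup.
-/

set_option autoImplicit false

namespace Cfsg.Agent.Lib.Helper10.BW

open Cfsg
open scoped ComplexConjugate

universe u

variable {G : Type u} [Group G] [Fintype G]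

/-- BW-CP -/
theorem cp_ker (p : ℕ) [Fact p.Prime] (M : Ideal AlgInt) (hM : IsPModular p M)
    (P : Sylow p G) (χ : IrrCharacter G) (hχ : χ ∈ principalBlock M G)
    (hdeg : charDegree (χ : G → ℂ) < p) (y : G)
    (hy : y ∈ Subgroup.centralizer ((P : Subgroup G) : Set G)) (hyp : ¬ p ∣ orderOf y) :
    (χ : G → ℂ) y = (χ : G → ℂ) 1 := by
  classical
  obtain ⟨hd1, hd0⟩ := Cfsg.Agent.Lib.Helper82.irr_charDegree χ
  have hp : p.Prime := Fact.out
  have hpd : ¬ p ∣ charDegree (χ : G → ℂ) := fun h => by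
    have := Nat.le_of_dvd (Nat.pos_of_ne_zero hd0) h
    omega
  have hdC : ((charDegree (χ : G → ℂ) : ℕ) : ℂ) ≠ 0 := by exact_mod_cast hd0
  have hnorm : ∀ g : G, ‖(χ : G → ℂ) g‖ ≤ (charDegree (χ : G → ℂ) : ℝ) := fun g =>
    Cfsg.Agent.Lib.Helper83.irr_norm_le χ.2 g
  -- step 1: `χ 1 - χ h` lies in the local ideal for `h ∈ ⟨y⟩`
  have hloc : ∀ h ∈ Subgroup.zpowers y,
      MemLocalIdeal M ((χ : G → ℂ) 1 - (χ : G → ℂ) h) := by
    intro h hh
    have hsb : SameBlock M (fun _ : G => (1 : ℂ)) (χ : G → ℂ) := hχ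
    have h1 := hsb h
    have hPle : (P : Subgroup G) ≤ Subgroup.centralizer ({h} : Set G) := by
      intro u hu
      rw [Subgroup.mem_centralizer_iff]
      intro b hb
      rw [Set.mem_singleton_iff] at hb
      subst hb
      have hhc : b ∈ Subgroup.centralizer ((P : Subgroup G) : Set G) :=
        (Subgroup.zpowers_le.2 hy) hh
      rw [Subgroup.mem_centralizer_iff] at hhc
      exact (hhc u hu).symm
    have hidx : ¬ p ∣ (Subgroup.centralizer ({h} : Set G)).index := by
      intro hdv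
      exact P.not_dvd_index (dvd_trans hdv (Subgroup.index_dvd_of_le hPle))
    have hidx0 : ((Subgroup.centralizer ({h} : Set G)).index : ℂ) ≠ 0 := by
      have : (Subgroup.centralizer ({h} : Set G)).index ≠ 0 := Subgroup.index_ne_zero_of_finite
      exact_mod_cast this
    have hdiff : (χ : G → ℂ) 1 - (χ : G → ℂ) h
        = ((((Subgroup.centralizer ({h} : Set G)).index : ℕ) : ℂ)⁻¹ *
            ((charDegree (χ : G → ℂ) : ℕ) : ℂ)) *
          (centralChar (fun _ : G => (1 : ℂ)) h - centralChar (χ : G → ℂ) h) := by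
      unfold centralChar
      rw [← hd1]
      field_simp
    rw [hdiff]
    exact Cfsg.Agent.Lib.Helper21.locIdeal_mul_left hM
      (Cfsg.Agent.Lib.Helper21.locRing_mul hM
        (Cfsg.Agent.Lib.Helper21.locRing_inv_natCast hM hidx)
        (Cfsg.Agent.Lib.Helper21.locRing_natCast hM _)) h1
  -- step 2: the multiplicity of the trivial character of `⟨y⟩`
  obtain ⟨m, hm⟩ := Cfsg.Agent.Lib.Helper82.irr_sum_subgroup_eq (Subgroup.zpowers y) χ
  have hcardH : Nat.card (Subgroup.zpowers y) = orderOf y := Nat.card_zpowers y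
  have hcount : ∀ c : ℂ, ∑ t : G, (if t ∈ Subgroup.zpowers y then c else 0)
      = (Nat.card (Subgroup.zpowers y) : ℂ) * c := by
    intro c
    rw [← Finset.sum_filter, Finset.sum_const, nsmul_eq_mul, Nat.card_eq_fintype_card,
      Fintype.card_subtype]
  have hcountR : ∀ c : ℝ, ∑ t : G, (if t ∈ Subgroup.zpowers y then c else 0)
      = (Nat.card (Subgroup.zpowers y) : ℝ) * c := by
    intro c
    rw [← Finset.sum_filter, Finset.sum_const, nsmul_eq_mul, Nat.card_eq_fintype_card,
      Fintype.card_subtype]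
  have hn0 : 0 < orderOf y := orderOf_pos y
  have hmle : m ≤ charDegree (χ : G → ℂ) := by
    have h1 : ‖∑ t : G, (if t ∈ Subgroup.zpowers y then (χ : G → ℂ) t else 0)‖
        ≤ ∑ t : G, (if t ∈ Subgroup.zpowers y then (charDegree (χ : G → ℂ) : ℝ) else 0) := by
      refine le_trans (norm_sum_le _ _) (Finset.sum_le_sum fun t _ => ?_)
      split_ifs
      · exact hnorm t
      · simp
    rw [hm, hcountR, hcardH, norm_mul, Complex.norm_natCast, Complex.norm_natCast] at h1
    have h2 : (m : ℝ) ≤ (charDegree (χ : G → ℂ) : ℝ) := by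
      have hn0' : (0 : ℝ) < (orderOf y : ℝ) := by exact_mod_cast hn0
      exact le_of_mul_le_mul_left h1 hn0'
    exact_mod_cast h2
  have hmeq : m = charDegree (χ : G → ℂ) := by
    have h1 : MemLocalIdeal M (∑ t : G, (if t ∈ Subgroup.zpowers y then
        ((χ : G → ℂ) 1 - (χ : G → ℂ) t) else 0)) := by
      apply Cfsg.Agent.Lib.Helper21.locIdeal_sum hM
      intro t _
      split_ifs with ht
      · exact hloc t ht
      · exact Cfsg.Agent.Lib.Helper21.locIdeal_zero hM
    have h2 : ∑ t : G, (if t ∈ Subgroup.zpowers y then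
        ((χ : G → ℂ) 1 - (χ : G → ℂ) t) else 0)
        = ((orderOf y * (charDegree (χ : G → ℂ) - m) : ℕ) : ℂ) := by
      have h3 : ∀ t : G, (if t ∈ Subgroup.zpowers y then
          ((χ : G → ℂ) 1 - (χ : G → ℂ) t) else 0)
          = (if t ∈ Subgroup.zpowers y then (χ : G → ℂ) 1 else 0)
            - (if t ∈ Subgroup.zpowers y then (χ : G → ℂ) t else 0) := by
        intro t
        split_ifs <;> simp
      rw [Finset.sum_congr rfl (fun t _ => h3 t), Finset.sum_sub_distrib, hcount, hm, hcardH,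
        ← hd1]
      push_cast [Nat.cast_sub hmle]
      ring
    rw [h2, Cfsg.Agent.Lib.Helper21.locIdeal_natCast_iff hM] at h1
    have h4 : p ∣ charDegree (χ : G → ℂ) - m :=
      (hp.dvd_mul.1 h1).resolve_left hyp
    have h5 : charDegree (χ : G → ℂ) - m = 0 :=
      Nat.eq_zero_of_dvd_of_lt h4 (by omega)
    omega
  -- step 3: every value on `⟨y⟩` is the degree
  have hre : (((χ : G → ℂ) y).re : ℝ) = (charDegree (χ : G → ℂ) : ℝ) := by
    have hsum : ∑ t : G, (if t ∈ Subgroup.zpowers y then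
        ((charDegree (χ : G → ℂ) : ℝ) - ((χ : G → ℂ) t).re) else 0) = 0 := by
      have h3 : ∀ t : G, (if t ∈ Subgroup.zpowers y then
          ((charDegree (χ : G → ℂ) : ℝ) - ((χ : G → ℂ) t).re) else 0)
          = (if t ∈ Subgroup.zpowers y then (charDegree (χ : G → ℂ) : ℝ) else 0)
            - (if t ∈ Subgroup.zpowers y then (χ : G → ℂ) t else 0).re := by
        intro t
        split_ifs <;> simp
      rw [Finset.sum_congr rfl (fun t _ => h3 t), Finset.sum_sub_distrib, hcountR,
        ← Complex.re_sum, hm, hcardH, hmeq]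
      have : ((orderOf y : ℂ) * ((charDegree (χ : G → ℂ) : ℕ) : ℂ)).re
          = (orderOf y : ℝ) * (charDegree (χ : G → ℂ) : ℝ) := by
        rw [← Nat.cast_mul, Complex.natCast_re]
        push_cast
        ring
      rw [this, sub_self]
    have hnn : ∀ t ∈ (Finset.univ : Finset G), 0 ≤ (if t ∈ Subgroup.zpowers y then
        ((charDegree (χ : G → ℂ) : ℝ) - ((χ : G → ℂ) t).re) else 0) := by
      intro t _
      split_ifs
      · have := (Complex.re_le_norm ((χ : G → ℂ) t)).trans (hnorm t)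
        linarith
      · exact le_refl _
    have h0 := (Finset.sum_eq_zero_iff_of_nonneg hnn).1 hsum y (Finset.mem_univ y)
    rw [if_pos (Subgroup.mem_zpowers y)] at h0
    linarith
  have him : ((χ : G → ℂ) y).im = 0 := by
    have h1 := hnorm y
    have h2 : ‖(χ : G → ℂ) y‖ ^ 2 = ((χ : G → ℂ) y).re ^ 2 + ((χ : G → ℂ) y).im ^ 2 := by
      rw [Complex.sq_norm, Complex.normSq_apply]
      ring
    have h3 : ‖(χ : G → ℂ) y‖ ^ 2 ≤ (charDegree (χ : G → ℂ) : ℝ) ^ 2 :=
      pow_le_pow_left₀ (norm_nonneg _) h1 2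
    rw [h2, hre] at h3
    have h4 : ((χ : G → ℂ) y).im ^ 2 ≤ 0 := by linarith
    have h5 : ((χ : G → ℂ) y).im ^ 2 = 0 := le_antisymm h4 (sq_nonneg _)
    exact pow_eq_zero_iff (two_ne_zero) |>.1 h5
  rw [← hd1]
  apply Complex.ext
  · rw [hre, Complex.natCast_re]
  · rw [him, Complex.natCast_im]

end Cfsg.Agent.Lib.Helper10.BW
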