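import Mathlib
import Cfsg.Agent.Lib.Helper4.FCDefs

/-! Project FC (S4146, architect helper4), piece LF1 (helper74): for `x ∈ H` in the context of
Lemma F, `cs x = α β` with `α = |A : C_A(x)| ∈ {1, n}` and `β = |H : C_H(x)| ∈ {1, m}`. -/

namespace Cfsg.Agent.Lib.Helper4.FC

universe u

theorem lf1_helper74_arith (n m α β : ℕ) (hn : 1 < n) (hm : 1 < m) (hnm : n.Coprime m)
    (hα : α ∣ n) (hβ : β.Coprime n)
    (h : α * β = 1 ∨ α * β = n ∨ α * β = m ∨ α * β = n * m) :
    (α = 1 ∨ α = n) ∧ (β = 1 ∨ β = m) := by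
  rcases h with h | h | h | h
  · have h1 : α = 1 := Nat.dvd_one.mp ⟨β, h.symm⟩
    have h2 : β = 1 := Nat.dvd_one.mp ⟨α, by rw [mul_comm]; exact h.symm⟩
    exact ⟨Or.inl h1, Or.inl h2⟩
  · have hβn : β ∣ n := ⟨α, by rw [mul_comm]; exact h.symm⟩
    have hβ1 : β = 1 := Nat.Coprime.eq_one_of_dvd hβ hβn
    rw [hβ1, mul_one] at h
    exact ⟨Or.inr h, Or.inl hβ1⟩
  · have hαm : α ∣ m := ⟨β, h.symm⟩
    have hα1 : α = 1 := Nat.Coprime.eq_one_of_dvd (Nat.Coprime.coprime_dvd_left hα hnm) hαm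
    rw [hα1, one_mul] at h
    exact ⟨Or.inl hα1, Or.inr h⟩
  · have hβnm : β ∣ n * m := ⟨α, by rw [mul_comm β α]; exact h.symm⟩
    have hβm : β ∣ m := Nat.Coprime.dvd_of_dvd_mul_left hβ hβnm
    have hαn : α ≤ n := Nat.le_of_dvd (by omega) hα
    have hβm' : β ≤ m := Nat.le_of_dvd (by omega) hβm
    have hnα : n ≤ α := by
      have h1 : n * m ≤ α * m := by
        rw [← h]
        exact Nat.mul_le_mul_left α hβm'
      exact Nat.le_of_mul_le_mul_right h1 (by omega)
    have hαe : α = n := le_antisymm hαn hnα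
    rw [hαe] at h
    have hβe : β = m := Nat.eq_of_mul_eq_mul_left (by omega) h
    exact ⟨Or.inr hαe, Or.inr hβe⟩

theorem fc_lf1 : SplitStmt.{u} → LF1Stmt.{u} := by
  intro hsplit G _ _ n m A H x hctx hxH
  obtain ⟨hfour, hAn, hAab, hcop, hAH, hsup, hAcs, hrel⟩ := hctx
  obtain ⟨hn1, hm1, hnm, hcs, -, -, -⟩ := hfour
  have := hAn
  have hsp := hsplit G A H x hAn hAH hsup hxH
  have hα : (Cen x).relIndex A ∣ n := by
    rw [← hrel]
    exact Subgroup.relIndex_dvd_of_le_left A (Subgroup.center_le_centralizer _)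
  have hcompl : Subgroup.IsComplement' H A := by
    apply Subgroup.isComplement'_of_disjoint_and_mul_eq_univ
    · rw [disjoint_iff, inf_comm]
      exact hAH
    · rw [← Subgroup.mul_normal H A, sup_comm, hsup]
      rfl
  have hHcard : A.index = Nat.card H := hcompl.index_eq_card
  have hβH : (Cen x).relIndex H ∣ A.index := by
    rw [hHcard]
    exact Subgroup.relIndex_dvd_card _ _
  have hnA : n ∣ Nat.card A := by
    rw [← hrel]
    exact Subgroup.relIndex_dvd_card _ _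
  have hβ : ((Cen x).relIndex H).Coprime n :=
    Nat.Coprime.coprime_dvd_left hβH (Nat.Coprime.coprime_dvd_right hnA hcop.symm)
  have har := lf1_helper74_arith n m _ _ hn1 hm1 hnm hα hβ (by rw [← hsp]; exact hcs x)
  exact ⟨har.1, har.2, hsp⟩

end Cfsg.Agent.Lib.Helper4.FC
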