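import Mathlib

set_option autoImplicit false

/-! Derived length of linear `p`-groups (helper74).

Main results:
* `charp_claim`: in characteristic `p`, a finite `p`-group acting on a space of dimension `≤ n`
  has `derivedSeries P (Nat.log 2 n + 1)` inside the kernel of the action.
-/

namespace Cfsg.Agent.Lib.Helper74.LinDL

open scoped commutatorElement

universe u v w

section CharP

variable {K : Type w} [Field K] (p : ℕ) [Fact p.Prime]

/-- A finite `p`-group acting on a nonzero space in characteristic `p` fixes a nonzero vector. -/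
theorem exists_fixed_vector [CharP K p] :
    ∀ (m : ℕ) {P : Type u} [Group P] [Finite P], IsPGroup p P → Nat.card P ≤ m →
      ∀ {V : Type v} [AddCommGroup V] [Module K V] [Nontrivial V] (ρ : Representation K P V),
        ∃ v : V, v ≠ 0 ∧ ∀ g, ρ g v = v := by
  intro m
  induction m with
  | zero =>
    intro P _ _ hP hm V _ _ _ ρ
    exact absurd hm (by have := Nat.card_pos (α := P); omega)
  | succ m ih =>
    intro P _ _ hP hm V _ _ _ ρ
    by_cases htriv : Subsingleton P
    · obtain ⟨v, hv⟩ := exists_ne (0 : V)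
      refine ⟨v, hv, fun g => ?_⟩
      rw [Subsingleton.elim g 1, map_one]; rfl
    · rw [not_subsingleton_iff_nontrivial] at htriv
      obtain ⟨M, hM⟩ : ∃ M : Subgroup P, IsCoatom M := by
        rcases eq_top_or_exists_le_coatom (⊥ : Subgroup P) with h | ⟨M, hM, -⟩
        · exact absurd h bot_ne_top
        · exact ⟨M, hM⟩
      have hnil : Group.IsNilpotent P := hP.isNilpotent
      have hnorm : M.Normal :=
        Subgroup.NormalizerCondition.normal_of_coatom M Group.normalizerCondition_of_isNilpotent hM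
      have hcard : Nat.card M ≤ m := by
        have h1 : Nat.card M ≤ Nat.card P := Subgroup.card_le_card_group M
        have h2 : Nat.card M ≠ Nat.card P := fun h => hM.1 (Subgroup.eq_top_of_card_eq M h)
        omega
      obtain ⟨v₀, hv₀, hfix⟩ := ih (hP.to_subgroup M) hcard (ρ.comp M.subtype)
      have hfix' : ∀ g ∈ M, ρ g v₀ = v₀ := fun g hg => hfix ⟨g, hg⟩
      obtain ⟨x, hx⟩ : ∃ x, x ∉ M := by
        by_contra hcon
        push Not at hcon
        exact hM.1 (eq_top_iff.2 fun g _ => hcon g)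
      obtain ⟨N, hN⟩ := hP x
      obtain ⟨T, hTdef⟩ : ∃ T : Module.End K V, T = ρ x - 1 := ⟨_, rfl⟩
      have hT : T ^ (p ^ N) = 0 := by
        have h1 : ((Polynomial.X : Polynomial K) - 1) ^ (p ^ N) = Polynomial.X ^ (p ^ N) - 1 := by
          rw [sub_pow_char_pow, one_pow]
        have h2 := congrArg (Polynomial.aeval (ρ x)) h1
        simp only [map_pow, map_sub, Polynomial.aeval_X, map_one] at h2
        rw [hTdef, h2, ← map_pow, hN, map_one, sub_self]
      -- all T^j v₀ are fixed by M
      have hTfix : ∀ j : ℕ, ∀ g ∈ M, ρ g ((T ^ j) v₀) = (T ^ j) v₀ := by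
        intro j
        induction j with
        | zero => intro g hg; simpa using hfix' g hg
        | succ j ihj =>
          intro g hg
          rw [pow_succ', Module.End.mul_apply]
          obtain ⟨w, hw⟩ : ∃ w, w = (T ^ j) v₀ := ⟨_, rfl⟩
          rw [← hw] at ihj ⊢
          have h1 : x⁻¹ * g * x ∈ M := by
            have := hnorm.conj_mem g hg x⁻¹
            simpa using this
          have h2 : ρ g (ρ x w) = ρ x w := by
            have h3 : ρ g (ρ x w) = ρ x (ρ (x⁻¹ * g * x) w) := by
              rw [← Module.End.mul_apply, ← Module.End.mul_apply, ← map_mul, ← map_mul]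
              congr 2; group
            rw [h3, ihj _ h1]
          rw [hTdef, LinearMap.sub_apply, Module.End.one_apply, map_sub, h2, ihj g hg]
      -- minimal k with T^k v₀ = 0
      have hex : ∃ k : ℕ, (T ^ k) v₀ = 0 := ⟨p ^ N, by rw [hT]; rfl⟩
      classical
      obtain ⟨k, hk, hkmin⟩ : ∃ k : ℕ, (T ^ k) v₀ = 0 ∧ ∀ j < k, (T ^ j) v₀ ≠ 0 :=
        ⟨Nat.find hex, Nat.find_spec hex, fun j hj => Nat.find_min hex hj⟩
      have hk0 : k ≠ 0 := by
        rintro rfl
        exact hv₀ (by simpa using hk)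
      obtain ⟨k', rfl⟩ : ∃ k', k = k' + 1 := ⟨k - 1, by omega⟩
      refine ⟨(T ^ k') v₀, hkmin k' (by omega), ?_⟩
      have hxv : ρ x ((T ^ k') v₀) = (T ^ k') v₀ := by
        rw [pow_succ', Module.End.mul_apply, hTdef] at hk
        rw [LinearMap.sub_apply, Module.End.one_apply, sub_eq_zero] at hk
        rw [hTdef]; exact hk
      let H : Subgroup P :=
        { carrier := {g | ρ g ((T ^ k') v₀) = (T ^ k') v₀}
          one_mem' := by simp
          mul_mem' := by
            intro a b ha hb
            simp only [Set.mem_ofPred_eq] at ha hb ⊢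
            rw [map_mul, Module.End.mul_apply, hb, ha]
          inv_mem' := by
            intro a ha
            simp only [Set.mem_ofPred_eq] at ha ⊢
            conv_lhs => rw [← ha]
            rw [← Module.End.mul_apply, ← map_mul, inv_mul_cancel, map_one, Module.End.one_apply] }
      have hMH : M ≤ H := fun g hg => hTfix k' g hg
      have hxH : x ∈ H := hxv
      have hlt : M < H := lt_of_le_of_ne hMH (fun h => hx (h ▸ hxH))
      have hH : H = ⊤ := hM.2 H hlt
      intro g
      have : g ∈ H := hH ▸ Subgroup.mem_top g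
      exact this

section Chain

variable {P : Type u} [Group P] {V : Type v} [AddCommGroup V] [Module K V]
  (ρ : Representation K P V)

/-- The ascending chain `0 = W₀ ≤ W₁ ≤ …` where `W_{j+1}/W_j` is the fixed space of `V/W_j`. -/
def chain : ℕ → Submodule K V
  | 0 => ⊥
  | (j + 1) => ⨅ g : P, (chain j).comap (ρ g - 1)

theorem mem_chain_succ (j : ℕ) (v : V) :
    v ∈ chain ρ (j + 1) ↔ ∀ g, ρ g v - v ∈ chain ρ j := by
  simp [chain, Submodule.mem_iInf]

theorem chain_inv (j : ℕ) : ∀ (g : P) (v : V), v ∈ chain ρ j → ρ g v ∈ chain ρ j := by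
  induction j with
  | zero =>
    intro g v hv
    have : v = 0 := by simpa [chain] using hv
    rw [this, map_zero]; exact zero_mem _
  | succ j ih =>
    intro g v hv
    rw [mem_chain_succ] at hv ⊢
    intro h
    have h1 : ρ h (ρ g v) - ρ g v = ρ g (ρ (g⁻¹ * h * g) v - v) := by
      rw [map_sub, ← Module.End.mul_apply, ← Module.End.mul_apply, ← map_mul, ← map_mul]
      congr 3; group
    rw [h1]; exact ih g _ (hv _)

theorem chain_le_succ (j : ℕ) : chain ρ j ≤ chain ρ (j + 1) := by
  intro v hv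
  rw [mem_chain_succ]
  intro g
  exact sub_mem (chain_inv ρ j g v hv) hv

theorem chain_mono : Monotone (chain ρ) := monotone_nat_of_le_succ (chain_le_succ ρ)

theorem chain_lt [Finite P] [CharP K p] (hP : IsPGroup p P) (j : ℕ) (hj : chain ρ j ≠ ⊤) :
    chain ρ j < chain ρ (j + 1) := by
  have hinv : ∀ g, chain ρ j ≤ (chain ρ j).comap (ρ g) := fun g v hv => chain_inv ρ j g v hv
  have hnt : Nontrivial (V ⧸ chain ρ j) :=
    Submodule.Quotient.nontrivial_iff.2 hj
  obtain ⟨w, hw0, hw⟩ :=
    exists_fixed_vector (K := K) p (Nat.card P) hP le_rfl (ρ.quotient (chain ρ j) hinv)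
  obtain ⟨v, rfl⟩ := Submodule.Quotient.mk_surjective _ w
  refine lt_of_le_of_ne (chain_le_succ ρ j) ?_
  intro heq
  apply hw0
  rw [Submodule.Quotient.mk_eq_zero, heq, mem_chain_succ]
  intro g
  have h1 := hw g
  rw [Representation.quotient_apply, Submodule.mapQ_apply, Submodule.Quotient.eq] at h1
  exact h1

theorem chain_top_or [Finite P] [CharP K p] [FiniteDimensional K V] (hP : IsPGroup p P)
    (j : ℕ) : chain ρ j = ⊤ ∨ j ≤ Module.finrank K (chain ρ j) := by
  induction j with
  | zero => right; exact Nat.zero_le _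
  | succ j ih =>
    by_cases hj : chain ρ j = ⊤
    · left
      exact top_le_iff.1 (hj ▸ chain_le_succ ρ j)
    · right
      have h1 : j ≤ Module.finrank K (chain ρ j) := ih.resolve_left hj
      have h2 := Submodule.finrank_lt_finrank_of_lt (chain_lt p ρ hP j hj)
      omega

theorem chain_eq_top [Finite P] [CharP K p] [FiniteDimensional K V] (hP : IsPGroup p P)
    {k : ℕ} (hk : Module.finrank K V ≤ k) : chain ρ k = ⊤ := by
  rcases chain_top_or p ρ hP (Module.finrank K V) with h | h
  · exact top_le_iff.1 (h ▸ chain_mono ρ hk)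
  · have h1 : chain ρ (Module.finrank K V) = ⊤ :=
      Submodule.eq_top_of_finrank_eq (le_antisymm (Submodule.finrank_le _) h)
    exact top_le_iff.1 (h1 ▸ chain_mono ρ hk)

/-- The subgroup of elements shifting the chain down by `k` steps. -/
def Q (k : ℕ) : Subgroup P where
  carrier := {g | ∀ j, ∀ v ∈ chain ρ j, ρ g v - v ∈ chain ρ (j - k)}
  one_mem' := by
    intro j v _
    simp
  mul_mem' := by
    intro g h hg hh j v hv
    have h1 : ρ (g * h) v - v = ρ g (ρ h v - v) + (ρ g v - v) := by
      rw [map_mul, Module.End.mul_apply, map_sub]; abel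
    rw [h1]; exact add_mem (chain_inv ρ _ g _ (hh j v hv)) (hg j v hv)
  inv_mem' := by
    intro g hg j v hv
    have h1 : ρ g⁻¹ v - v = - ρ g⁻¹ (ρ g v - v) := by
      rw [map_sub, ← Module.End.mul_apply, ← map_mul, inv_mul_cancel, map_one,
        Module.End.one_apply]; abel
    rw [h1]; exact neg_mem (chain_inv ρ _ g⁻¹ _ (hg j v hv))

theorem mem_Q (k : ℕ) (g : P) :
    g ∈ Q ρ k ↔ ∀ j, ∀ v ∈ chain ρ j, ρ g v - v ∈ chain ρ (j - k) := Iff.rfl

theorem Q_comm (a b : ℕ) : ⁅Q ρ a, Q ρ b⁆ ≤ Q ρ (a + b) := by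
  rw [Subgroup.commutator_le]
  intro g hg h hh
  rw [mem_Q] at hg hh ⊢
  intro j v hv
  obtain ⟨u, hu⟩ : ∃ u, u = ρ (g⁻¹ * h⁻¹) v := ⟨_, rfl⟩
  have hu' : u ∈ chain ρ j := hu ▸ chain_inv ρ j _ v hv
  have key : ρ ⁅g, h⁆ v - v =
      (ρ g (ρ h u - u) - (ρ h u - u)) - (ρ h (ρ g u - u) - (ρ g u - u)) := by
    have e1 : ρ g (ρ h u) = ρ ⁅g, h⁆ v := by
      rw [hu, ← Module.End.mul_apply, ← Module.End.mul_apply, ← map_mul, ← map_mul]
      congr 2; rw [commutatorElement_def]; group
    have e2 : ρ h (ρ g u) = v := by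
      rw [hu, ← Module.End.mul_apply, ← Module.End.mul_apply, ← map_mul, ← map_mul]
      have : h * g * (g⁻¹ * h⁻¹) = 1 := by group
      rw [this, map_one, Module.End.one_apply]
    rw [map_sub, map_sub, e1, e2]; abel
  rw [key]
  refine sub_mem ?_ ?_
  · have h1 := hh j u hu'
    have h2 := hg (j - b) _ h1
    rwa [Nat.sub_sub, add_comm b a] at h2
  · have h1 := hg j u hu'
    have h2 := hh (j - a) _ h1
    rwa [Nat.sub_sub] at h2

theorem derivedSeries_le_Q (i : ℕ) : derivedSeries P i ≤ Q ρ (2 ^ i) := by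
  induction i with
  | zero =>
    intro g _
    rw [mem_Q]
    intro j v hv
    cases j with
    | zero =>
      have : v = 0 := by simpa [chain] using hv
      rw [this, map_zero, sub_zero]; exact zero_mem _
    | succ j =>
      rw [mem_chain_succ] at hv
      simpa using hv g
  | succ i ih =>
    rw [derivedSeries_succ]
    refine (Subgroup.commutator_mono ih ih).trans ?_
    have : 2 ^ (i + 1) = 2 ^ i + 2 ^ i := by ring
    rw [this]; exact Q_comm ρ _ _

theorem Q_le_ker {k : ℕ} (hk : chain ρ k = ⊤) : Q ρ k ≤ MonoidHom.ker ρ := by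
  intro g hg
  rw [mem_Q] at hg
  rw [MonoidHom.mem_ker]
  ext v
  have h1 := hg k v (hk ▸ Submodule.mem_top)
  rw [Nat.sub_self] at h1
  have h2 : ρ g v - v = 0 := by simpa [chain] using h1
  rw [Module.End.one_apply]; exact sub_eq_zero.1 h2

end Chain

/-- Characteristic `p`: a finite `p`-group acting on a space of dimension `≤ n` has
`derivedSeries P (Nat.log 2 n + 1)` inside the kernel. -/
theorem charp_claim [CharP K p] {P : Type u} [Group P] [Finite P] (hP : IsPGroup p P)
    {V : Type v} [AddCommGroup V] [Module K V] [FiniteDimensional K V]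
    (ρ : Representation K P V) (n : ℕ) (hn : Module.finrank K V ≤ n) :
    derivedSeries P (Nat.log 2 n + 1) ≤ MonoidHom.ker ρ := by
  have h1 : n < 2 ^ (Nat.log 2 n + 1) := Nat.lt_pow_succ_log_self (by norm_num) n
  exact (derivedSeries_le_Q ρ _).trans (Q_le_ker ρ (chain_eq_top p ρ hP (by omega)))

end CharP

section Coprime

variable {K : Type w} [Field K] (p : ℕ) [Fact p.Prime]

omit [Fact p.Prime] in
/-- In a finite `p`-group acting linearly over a field where `p ≠ 0`, every element acts
semisimply. -/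
theorem isSemisimple_rho (hpK : (p : K) ≠ 0) {P : Type u} [Group P] (hP : IsPGroup p P)
    {V : Type v} [AddCommGroup V] [Module K V] (ρ : Representation K P V) (g : P) :
    Module.End.IsSemisimple (ρ g) := by
  obtain ⟨k, hk⟩ := hP g
  have hq : ((p ^ k : ℕ) : K) ≠ 0 := by rw [Nat.cast_pow]; exact pow_ne_zero _ hpK
  have hsep : (Polynomial.X ^ (p ^ k) - Polynomial.C (1 : K)).Separable :=
    Polynomial.separable_X_pow_sub_C 1 hq one_ne_zero
  refine Module.End.isSemisimple_of_squarefree_aeval_eq_zero hsep.squarefree ?_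
  have h1 : (ρ g) ^ (p ^ k) = 1 := by rw [← map_pow, hk, map_one]
  simp [h1]

/-- A finite `p`-group with non-commutative image has a normal subgroup with commutative but
non-central image. -/
theorem exists_abelian_normal {P : Type u} [Group P] [Finite P] (hP : IsPGroup p P)
    {E : Type*} [Monoid E] (ρ : P →* E) (hna : ¬ ∀ g h, ρ g * ρ h = ρ h * ρ g) :
    ∃ A : Subgroup P, A.Normal ∧ (∀ a ∈ A, ∀ b ∈ A, ρ a * ρ b = ρ b * ρ a) ∧
      ∃ a ∈ A, ∃ g, ρ a * ρ g ≠ ρ g * ρ a := by
  let Z : Subgroup P :=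
    { carrier := {z | ∀ g, ρ z * ρ g = ρ g * ρ z}
      one_mem' := by intro g; simp
      mul_mem' := by
        intro a b ha hb g
        rw [map_mul, mul_assoc, hb g, ← mul_assoc, ha g, mul_assoc]
      inv_mem' := by
        intro a ha g
        have h1 : ρ a⁻¹ * ρ a = 1 := by rw [← map_mul, inv_mul_cancel, map_one]
        have h2 : ρ a * ρ a⁻¹ = 1 := by rw [← map_mul, mul_inv_cancel, map_one]
        calc ρ a⁻¹ * ρ g = ρ a⁻¹ * ρ g * (ρ a * ρ a⁻¹) := by rw [h2, mul_one]
          _ = ρ a⁻¹ * (ρ g * ρ a) * ρ a⁻¹ := by simp only [mul_assoc]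
          _ = ρ a⁻¹ * (ρ a * ρ g) * ρ a⁻¹ := by rw [ha g]
          _ = (ρ a⁻¹ * ρ a) * ρ g * ρ a⁻¹ := by simp only [mul_assoc]
          _ = ρ g * ρ a⁻¹ := by rw [h1, one_mul] }
  have hZmem : ∀ z, z ∈ Z ↔ ∀ g, ρ z * ρ g = ρ g * ρ z := fun z => Iff.rfl
  have hZn : Z.Normal := by
    constructor
    intro z hz h g
    have hz' := (hZmem z).1 hz
    have e1 : ρ (h * z * h⁻¹) = ρ z := by
      rw [map_mul, map_mul, ← hz' h, mul_assoc, ← map_mul, mul_inv_cancel, map_one, mul_one]
    rw [e1]; exact hz' g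
  have hZtop : Z ≠ ⊤ := by
    intro h
    apply hna
    intro g k
    have : g ∈ Z := h ▸ Subgroup.mem_top g
    exact this k
  have hnt : Nontrivial (P ⧸ Z) := QuotientGroup.nontrivial_iff.2 hZtop
  have hcn := (hP.to_quotient Z).center_nontrivial
  obtain ⟨⟨abar, habar⟩, hne⟩ := exists_ne (1 : Subgroup.center (P ⧸ Z))
  obtain ⟨a, rfl⟩ := QuotientGroup.mk_surjective abar
  have haZ : a ∉ Z := by
    intro h
    apply hne
    apply Subtype.ext
    exact (QuotientGroup.eq_one_iff a).2 h
  let A : Subgroup P := (Subgroup.zpowers (a : P ⧸ Z)).comap (QuotientGroup.mk' Z)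
  have hAn : A.Normal := by
    have hzn : (Subgroup.zpowers (a : P ⧸ Z)).Normal := by
      constructor
      intro x hx y
      have hxc : x ∈ Subgroup.center (P ⧸ Z) := (Subgroup.zpowers_le.2 habar) hx
      rw [Subgroup.mem_center_iff] at hxc
      have : y * x * y⁻¹ = x := by rw [hxc y, mul_assoc, mul_inv_cancel, mul_one]
      rw [this]; exact hx
    exact Subgroup.Normal.comap hzn _
  have hAdecomp : ∀ x ∈ A, ∃ k : ℤ, ∃ z ∈ Z, x = a ^ k * z := by
    intro x hx
    obtain ⟨k, hk⟩ := Subgroup.mem_zpowers_iff.1 hx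
    refine ⟨k, (a ^ k)⁻¹ * x, ?_, by group⟩
    rw [← QuotientGroup.eq]
    simpa using hk
  refine ⟨A, hAn, ?_, a, ?_, ?_⟩
  · intro x hx y hy
    obtain ⟨k, z, hz, rfl⟩ := hAdecomp x hx
    obtain ⟨l, z', hz', rfl⟩ := hAdecomp y hy
    rw [hZmem] at hz hz'
    simp only [map_mul]
    have hkl : ρ (a ^ k) * ρ (a ^ l) = ρ (a ^ l) * ρ (a ^ k) := by
      rw [← map_mul, ← map_mul, ← zpow_add, ← zpow_add, add_comm]
    calc ρ (a ^ k) * ρ z * (ρ (a ^ l) * ρ z')
        = ρ (a ^ k) * (ρ z * ρ (a ^ l)) * ρ z' := by simp only [mul_assoc]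
      _ = ρ (a ^ k) * (ρ (a ^ l) * ρ z) * ρ z' := by rw [hz]
      _ = (ρ (a ^ k) * ρ (a ^ l)) * (ρ z * ρ z') := by simp only [mul_assoc]
      _ = (ρ (a ^ l) * ρ (a ^ k)) * (ρ z' * ρ z) := by rw [hz z', hkl]
      _ = ρ (a ^ l) * (ρ (a ^ k) * ρ z') * ρ z := by simp only [mul_assoc]
      _ = ρ (a ^ l) * (ρ z' * ρ (a ^ k)) * ρ z := by rw [← hz' (a ^ k)]
      _ = ρ (a ^ l) * ρ z' * (ρ (a ^ k) * ρ z) := by simp only [mul_assoc]
  · show (QuotientGroup.mk' Z a) ∈ Subgroup.zpowers (a : P ⧸ Z)
    exact Subgroup.mem_zpowers _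
  · by_contra hcon
    push Not at hcon
    exact haZ hcon

/-- A normal coatom of a solvable group contains the commutator subgroup. -/
theorem commutator_le_of_isCoatom {P : Type u} [Group P] [Group.IsSolvable P] (M : Subgroup P)
    [M.Normal] (hM : IsCoatom M) : commutator P ≤ M := by
  have hnt : Nontrivial (P ⧸ M) := QuotientGroup.nontrivial_iff.2 hM.1
  have h1 : commutator (P ⧸ M) < ⊤ := Group.IsSolvable.commutator_lt_top_of_nontrivial (P ⧸ M)
  have h2 : M ≤ (commutator (P ⧸ M)).comap (QuotientGroup.mk' M) := by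
    intro x hx
    rw [Subgroup.mem_comap]
    have : QuotientGroup.mk' M x = 1 := (QuotientGroup.eq_one_iff x).2 hx
    rw [this]; exact one_mem _
  have h3 : (commutator (P ⧸ M)).comap (QuotientGroup.mk' M) ≠ ⊤ := by
    intro h
    apply h1.ne
    rw [eq_top_iff]
    intro y _
    obtain ⟨x, rfl⟩ := QuotientGroup.mk_surjective y
    have : x ∈ (commutator (P ⧸ M)).comap (QuotientGroup.mk' M) := h ▸ Subgroup.mem_top x
    exact this
  have h4 : (commutator (P ⧸ M)).comap (QuotientGroup.mk' M) = M := by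
    by_contra hne
    exact h3 (hM.2 _ (lt_of_le_of_ne h2 (Ne.symm hne)))
  intro x hx
  rw [← h4, Subgroup.mem_comap]
  have h5 : (commutator P).map (QuotientGroup.mk' M) ≤ commutator (P ⧸ M) := by
    rw [commutator_def, commutator_def, Subgroup.map_commutator]
    exact Subgroup.commutator_mono le_top le_top
  exact h5 (Subgroup.mem_map_of_mem _ hx)

theorem derivedSeries_succ_le_map {P : Type u} [Group P] (M : Subgroup P)
    (hM : commutator P ≤ M) (k : ℕ) :
    derivedSeries P (k + 1) ≤ (derivedSeries M k).map M.subtype := by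
  induction k with
  | zero =>
    rw [derivedSeries_succ, derivedSeries_zero, derivedSeries_zero, ← MonoidHom.range_eq_map,
      Subgroup.range_subtype]
    exact hM
  | succ k ih =>
    rw [derivedSeries_succ, derivedSeries_succ (G := M), Subgroup.map_commutator]
    exact Subgroup.commutator_mono ih ih

section Twist

variable {P : Type u} [Group P] (A : Subgroup P) [A.Normal] {X : Type*}

/-- The action of `P` on functions on the normal subgroup `A`. -/
def tw (g : P) (χ : A → X) : A → X := fun a => χ (MulAut.conjNormal g⁻¹ a)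

theorem tw_mul (g h : P) (χ : A → X) : tw A (g * h) χ = tw A g (tw A h χ) := by
  funext a
  simp [tw, mul_inv_rev, map_mul]

theorem tw_one (χ : A → X) : tw A 1 χ = χ := by
  funext a
  simp [tw]

end Twist

section Weights

variable {P : Type u} [Group P] {V : Type v} [AddCommGroup V] [Module K V]
  (ρ : Representation K P V) (A : Subgroup P)

/-- Simultaneous (generalised) eigenspace of the operators `ρ a`, `a ∈ A`. -/
def wt (χ : A → K) : Submodule K V := ⨅ a : A, Module.End.maxGenEigenspace (ρ (a : P)) (χ a)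

theorem mem_wt (hss : ∀ g, Module.End.IsSemisimple (ρ g)) (χ : A → K) (v : V) :
    v ∈ wt ρ A χ ↔ ∀ a : A, ρ (a : P) v = χ a • v := by
  simp only [wt, Submodule.mem_iInf]
  refine forall_congr' fun a => ?_
  rw [(hss a).isFinitelySemisimple.maxGenEigenspace_eq_eigenspace, Module.End.mem_eigenspace_iff]

theorem iSup_wt [IsAlgClosed K] [FiniteDimensional K V]
    (hcomm : ∀ a ∈ A, ∀ b ∈ A, ρ a * ρ b = ρ b * ρ a) : ⨆ χ : A → K, wt ρ A χ = ⊤ :=
  Module.End.iSup_iInf_maxGenEigenspace_eq_top_of_iSup_maxGenEigenspace_eq_top_of_commute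
    (fun a : A => ρ (a : P)) (fun a b _ => hcomm a a.2 b b.2)
    (fun _ => Module.End.iSup_maxGenEigenspace_eq_top _)

theorem indep_wt (hcomm : ∀ a ∈ A, ∀ b ∈ A, ρ a * ρ b = ρ b * ρ a) :
    iSupIndep (fun χ : A → K => wt ρ A χ) :=
  Module.End.independent_iInf_maxGenEigenspace_of_forall_mapsTo (fun a : A => ρ (a : P))
    (fun a b φ => Module.End.mapsTo_maxGenEigenspace_of_comm (hcomm b b.2 a a.2) φ)

variable [A.Normal]

theorem map_wt (hss : ∀ g, Module.End.IsSemisimple (ρ g)) (g : P) (χ : A → K) (v : V)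
    (hv : v ∈ wt ρ A χ) : ρ g v ∈ wt ρ A (tw A g χ) := by
  rw [mem_wt ρ A hss] at hv ⊢
  intro a
  have h1 : ρ (a : P) (ρ g v) = ρ g (ρ ((MulAut.conjNormal g⁻¹ a : A) : P) v) := by
    rw [← Module.End.mul_apply, ← Module.End.mul_apply, ← map_mul, ← map_mul,
      MulAut.conjNormal_apply]
    congr 2; group
  rw [h1, hv, map_smul]; rfl

end Weights

set_option maxHeartbeats 1000000 in
/-- Characteristic prime to `p`, algebraically closed field: a finite `p`-group acting on a
space of dimension `≤ n` has `derivedSeries P (Nat.log 2 n + 1)` inside the kernel. -/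
theorem coprime_claim [IsAlgClosed K] (hpK : (p : K) ≠ 0) :
    ∀ (n : ℕ) {P : Type u} [Group P] [Finite P], IsPGroup p P →
      ∀ {V : Type v} [AddCommGroup V] [Module K V] [FiniteDimensional K V]
        (ρ : Representation K P V), Module.finrank K V ≤ n →
        derivedSeries P (Nat.log 2 n + 1) ≤ MonoidHom.ker ρ := by
  intro n
  induction n using Nat.strong_induction_on with
  | _ n ih =>
  intro P _ _ hP V _ _ _ ρ hn
  by_cases hab : ∀ g h, ρ g * ρ h = ρ h * ρ g
  · have h1 : derivedSeries P (Nat.log 2 n + 1) ≤ derivedSeries P 1 :=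
      derivedSeries_antitone P (by omega)
    refine h1.trans ?_
    rw [derivedSeries_succ, derivedSeries_zero, Subgroup.commutator_le]
    intro g _ h _
    rw [MonoidHom.mem_ker, commutatorElement_def, map_mul, map_mul, map_mul, hab g h,
      mul_assoc (ρ h), ← map_mul, mul_inv_cancel, map_one, mul_one, ← map_mul, mul_inv_cancel,
      map_one]
  · obtain ⟨A, hAn, hAcomm, a₀, ha₀, g₀, hne⟩ := exists_abelian_normal p hP ρ hab
    have hss : ∀ g, Module.End.IsSemisimple (ρ g) := isSemisimple_rho p hpK hP ρ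
    have hsup := iSup_wt ρ A hAcomm
    have hind := indep_wt ρ A hAcomm
    obtain ⟨χ₀, hχ₀, g₁, hg₁⟩ : ∃ χ₀ : A → K, wt ρ A χ₀ ≠ ⊥ ∧ ∃ g, tw A g χ₀ ≠ χ₀ := by
      by_contra hcon
      push Not at hcon
      apply hne
      have key : ∀ v : V, (ρ a₀ * ρ g₀) v = (ρ g₀ * ρ a₀) v := by
        intro v
        have hv : v ∈ (⨆ χ : A → K, wt ρ A χ) := hsup ▸ Submodule.mem_top
        refine Submodule.iSup_induction (motive := fun v => (ρ a₀ * ρ g₀) v = (ρ g₀ * ρ a₀) v)
          _ hv ?_ ?_ ?_
        · intro χ w hw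
          by_cases hw0 : w = 0
          · simp [hw0]
          · have hχ : wt ρ A χ ≠ ⊥ := by
              intro h
              rw [h] at hw
              exact hw0 (by simpa using hw)
            have h2 := map_wt ρ A hss g₀ χ w hw
            rw [hcon χ hχ g₀] at h2
            rw [mem_wt ρ A hss] at hw h2
            simp only [Module.End.mul_apply]
            rw [h2 ⟨a₀, ha₀⟩, hw ⟨a₀, ha₀⟩, map_smul]
        · simp
        · intro x y hx hy
          rw [map_add, map_add, hx, hy]
      exact LinearMap.ext key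
    let S : Subgroup P :=
      { carrier := {g | tw A g χ₀ = χ₀}
        one_mem' := tw_one A χ₀
        mul_mem' := by
          intro g h hg hh
          show tw A (g * h) χ₀ = χ₀
          rw [tw_mul, hh, hg]
        inv_mem' := by
          intro g hg
          show tw A g⁻¹ χ₀ = χ₀
          conv_lhs => rw [← hg]
          rw [← tw_mul, inv_mul_cancel, tw_one] }
    have hSmem : ∀ g, g ∈ S ↔ tw A g χ₀ = χ₀ := fun g => Iff.rfl
    have hS : S ≠ ⊤ := by
      intro h
      exact hg₁ ((hSmem g₁).1 (h ▸ Subgroup.mem_top g₁))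
    obtain ⟨M, hM, hSM⟩ := (eq_top_or_exists_le_coatom S).resolve_left hS
    have hnil : Group.IsNilpotent P := hP.isNilpotent
    have hMn : M.Normal :=
      Subgroup.NormalizerCondition.normal_of_coatom M Group.normalizerCondition_of_isNilpotent hM
    have hcomm_le : commutator P ≤ M := commutator_le_of_isCoatom M hM
    obtain ⟨x, hx⟩ : ∃ x, x ∉ M := by
      by_contra hcon
      push Not at hcon
      exact hM.1 (eq_top_iff.2 fun g _ => hcon g)
    -- the `M`-orbit of `χ₀` and its span
    obtain ⟨O₁, hO₁⟩ : ∃ O₁ : Set (A → K), O₁ = {χ | ∃ m ∈ M, χ = tw A m χ₀} := ⟨_, rfl⟩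
    obtain ⟨U₁, hU₁⟩ : ∃ U₁ : Submodule K V, U₁ = ⨆ χ ∈ O₁, wt ρ A χ := ⟨_, rfl⟩
    have hmapU₁ : ∀ g : P, ∀ O₂ : Set (A → K), (∀ χ ∈ O₁, tw A g χ ∈ O₂) →
        U₁.map (ρ g) ≤ ⨆ χ ∈ O₂, wt ρ A χ := by
      intro g O₂ hO₂
      rw [hU₁]
      simp_rw [Submodule.map_iSup]
      refine iSup₂_le fun χ hχ => ?_
      refine le_trans ?_ (le_biSup (fun χ => wt ρ A χ) (hO₂ χ hχ))
      rintro _ ⟨v, hv, rfl⟩
      exact map_wt ρ A hss g _ v hv
    have hU₁inv : ∀ m : M, U₁ ≤ U₁.comap ((ρ.comp M.subtype) m) := by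
      intro m
      rw [← Submodule.map_le_iff_le_comap]
      have h1 := hmapU₁ (m : P) O₁ (by
        intro χ hχ
        rw [hO₁] at hχ ⊢
        obtain ⟨m', hm', rfl⟩ := hχ
        exact ⟨(m : P) * m', M.mul_mem m.2 hm', (tw_mul A _ _ _).symm⟩)
      rw [← hU₁] at h1
      exact h1
    have hdisj : Disjoint U₁ (U₁.map (ρ x)) := by
      have h1 := hmapU₁ x O₁ᶜ (by
        intro χ hχ
        rw [hO₁] at hχ
        obtain ⟨m', hm', rfl⟩ := hχ
        intro hcon
        rw [hO₁] at hcon
        obtain ⟨m'', hm'', heq⟩ := hcon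
        have h2 : m''⁻¹ * (x * m') ∈ S := by
          rw [hSmem, tw_mul, tw_mul, heq, ← tw_mul, inv_mul_cancel, tw_one]
        have h3 := hSM h2
        apply hx
        have h4 : x = m'' * (m''⁻¹ * (x * m')) * m'⁻¹ := by group
        rw [h4]; exact M.mul_mem (M.mul_mem hm'' h3) (M.inv_mem hm'))
      have h2 : Disjoint (⨆ χ ∈ O₁, wt ρ A χ) (⨆ χ ∈ O₁ᶜ, wt ρ A χ) :=
        hind.disjoint_biSup_biSup disjoint_compl_right
      rw [← hU₁] at h2
      exact h2.mono_right h1
    have hfin1 : 2 * Module.finrank K U₁ ≤ n := by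
      have h1 := Submodule.finrank_add_finrank_le_of_disjoint hdisj
      have h2 : Module.finrank K (U₁.map (ρ x)) = Module.finrank K U₁ :=
        LinearEquiv.finrank_eq
          (Submodule.equivMapOfInjective (ρ x) (ρ.apply_bijective x).1 U₁).symm
      omega
    have hχ₀U₁ : wt ρ A χ₀ ≤ U₁ := by
      rw [hU₁]
      exact le_biSup (fun χ => wt ρ A χ)
        (by rw [hO₁]; exact ⟨1, M.one_mem, (tw_one A χ₀).symm⟩ : χ₀ ∈ O₁)
    have hU₁pos : 1 ≤ Module.finrank K U₁ := by
      have : U₁ ≠ ⊥ := fun h => hχ₀ (le_bot_iff.1 (h ▸ hχ₀U₁))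
      exact Submodule.one_le_finrank_iff.2 this
    have hn2 : 2 ≤ n := by omega
    have ihM := ih (n / 2) (by omega) (hP.to_subgroup M)
      (Representation.subrepresentation (ρ.comp M.subtype) U₁ hU₁inv) (by omega)
    have hlog : Nat.log 2 n = Nat.log 2 (n / 2) + 1 :=
      Nat.log_of_one_lt_of_le (by norm_num) hn2
    obtain ⟨k, hk⟩ : ∃ k, k = Nat.log 2 (n / 2) + 1 := ⟨_, rfl⟩
    rw [← hk] at ihM
    obtain ⟨D, hD⟩ : ∃ D : Subgroup P, D = (derivedSeries M k).map M.subtype := ⟨_, rfl⟩
    have hDn : D.Normal := by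
      rw [hD]; infer_instance
    have hDle : derivedSeries P (k + 1) ≤ D := hD ▸ derivedSeries_succ_le_map M hcomm_le k
    have hDU₁ : ∀ d ∈ D, ∀ u ∈ U₁, ρ d u = u := by
      intro d hd u hu
      rw [hD] at hd
      obtain ⟨d, hd, rfl⟩ := hd
      have h1 := ihM hd
      rw [MonoidHom.mem_ker] at h1
      have h2 := congrArg (fun f : Module.End K U₁ => (f ⟨u, hu⟩ : V)) h1
      simpa using h2
    have hDall : ∀ d ∈ D, ∀ g : P, ∀ u ∈ U₁, ρ d (ρ g u) = ρ g u := by
      intro d hd g u hu
      have h1 : g⁻¹ * d * g ∈ D := by simpa using hDn.conj_mem d hd g⁻¹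
      have h2 : ρ d (ρ g u) = ρ g (ρ (g⁻¹ * d * g) u) := by
        rw [← Module.End.mul_apply, ← Module.End.mul_apply, ← map_mul, ← map_mul]
        congr 2; group
      rw [h2, hDU₁ _ h1 u hu]
    -- the other weights
    obtain ⟨O, hO⟩ : ∃ O : Set (A → K), O = {χ | ∃ g : P, χ = tw A g χ₀} := ⟨_, rfl⟩
    obtain ⟨U', hU'⟩ : ∃ U' : Submodule K V, U' = ⨆ χ ∈ Oᶜ, wt ρ A χ := ⟨_, rfl⟩
    have hU'inv : ∀ g, U' ≤ U'.comap (ρ g) := by
      intro g
      rw [← Submodule.map_le_iff_le_comap, hU']
      simp_rw [Submodule.map_iSup]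
      refine iSup₂_le fun χ hχ => ?_
      have hmem : tw A g χ ∈ Oᶜ := by
        intro hcon
        rw [hO] at hcon
        obtain ⟨g', hg'⟩ := hcon
        apply hχ
        rw [hO]
        refine ⟨g⁻¹ * g', ?_⟩
        rw [tw_mul, ← hg', ← tw_mul, inv_mul_cancel, tw_one]
      refine le_trans ?_ (le_biSup (fun χ => wt ρ A χ) hmem)
      rintro _ ⟨v, hv, rfl⟩
      exact map_wt ρ A hss g _ v hv
    have hU'fin : Module.finrank K U' ≤ n - 1 := by
      have hd : Disjoint (wt ρ A χ₀) U' := by
        rw [hU']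
        refine hind.disjoint_biSup ?_
        intro hcon
        apply hcon
        rw [hO]
        exact ⟨1, (tw_one A χ₀).symm⟩
      have h1 := Submodule.finrank_add_finrank_le_of_disjoint hd
      have h2 : 1 ≤ Module.finrank K (wt ρ A χ₀) := Submodule.one_le_finrank_iff.2 hχ₀
      omega
    have ihU' := ih (n - 1) (by omega) hP (ρ.subrepresentation U' hU'inv) hU'fin
    intro d hd
    rw [MonoidHom.mem_ker]
    have hd1 : d ∈ D := hDle (by rw [hk, ← hlog]; exact hd)
    have hd2 : d ∈ derivedSeries P (Nat.log 2 (n - 1) + 1) :=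
      derivedSeries_antitone P
        (by have := Nat.log_mono_right (b := 2) (Nat.sub_le n 1); omega) hd
    have hd3 := ihU' hd2
    rw [MonoidHom.mem_ker] at hd3
    have hd3' : ∀ u ∈ U', ρ d u = u := by
      intro u hu
      have h2 := congrArg (fun f : Module.End K U' => (f ⟨u, hu⟩ : V)) hd3
      simpa using h2
    have key : ∀ v : V, ρ d v = v := by
      intro v
      have hv : v ∈ (⨆ χ : A → K, wt ρ A χ) := hsup ▸ Submodule.mem_top
      refine Submodule.iSup_induction (motive := fun v => ρ d v = v) _ hv ?_ ?_ ?_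
      · intro χ w hw
        by_cases hχ : χ ∈ O
        · rw [hO] at hχ
          obtain ⟨g, rfl⟩ := hχ
          have h1 : ρ g⁻¹ w ∈ wt ρ A χ₀ := by
            have := map_wt ρ A hss g⁻¹ _ w hw
            rwa [← tw_mul, inv_mul_cancel, tw_one] at this
          have h2 : w = ρ g (ρ g⁻¹ w) := by
            rw [← Module.End.mul_apply, ← map_mul, mul_inv_cancel, map_one,
              Module.End.one_apply]
          rw [h2]; exact hDall d hd1 g _ (hχ₀U₁ h1)
        · apply hd3'
          rw [hU']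
          exact (le_biSup (fun χ => wt ρ A χ) (show χ ∈ Oᶜ from hχ)) hw
      · simp
      · intro x y hx hy
        rw [map_add, hx, hy]
    exact LinearMap.ext key

end Coprime

section Final

/-- Over an algebraically closed field, a finite `p`-group acting on a space of dimension `≤ n`
has `derivedSeries P (Nat.log 2 n + 1)` inside the kernel. -/
theorem rep_claim {K : Type w} [Field K] [IsAlgClosed K] (p : ℕ) [Fact p.Prime]
    {P : Type u} [Group P] [Finite P] (hP : IsPGroup p P)
    {V : Type v} [AddCommGroup V] [Module K V] [FiniteDimensional K V]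
    (ρ : Representation K P V) (n : ℕ) (hn : Module.finrank K V ≤ n) :
    derivedSeries P (Nat.log 2 n + 1) ≤ MonoidHom.ker ρ := by
  by_cases h : (p : K) = 0
  · have hc : CharP K p := (CharP.charP_iff_prime_eq_zero (Fact.out)).2 h
    exact charp_claim p hP ρ n hn
  · exact coprime_claim p h n hP ρ hn

/-- The representation on `Fin n → K` attached to a matrix representation over a subfield. -/
noncomputable def matRep {P : Type u} [Group P] {F : Type v} [Field F] (K : Type w) [Field K]
    [Algebra F K] {n : ℕ} (ρ : P →* Matrix.GeneralLinearGroup (Fin n) F) :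
    Representation K P (Fin n → K) where
  toFun g := Matrix.toLin' ((ρ g).1.map (algebraMap F K))
  map_one' := by
    rw [map_one, Units.val_one, Matrix.map_one _ (map_zero _) (map_one _), Matrix.toLin'_one]
    rfl
  map_mul' a b := by
    rw [map_mul, Units.val_mul, Matrix.map_mul, Matrix.toLin'_mul]
    rfl

theorem matRep_ker {P : Type u} [Group P] {F : Type v} [Field F] (K : Type w) [Field K]
    [Algebra F K] {n : ℕ} (ρ : P →* Matrix.GeneralLinearGroup (Fin n) F) :
    MonoidHom.ker (matRep K ρ) = MonoidHom.ker ρ := by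
  ext g
  rw [MonoidHom.mem_ker, MonoidHom.mem_ker]
  constructor
  · intro h
    have h1 : Matrix.toLin' ((ρ g).1.map (algebraMap F K)) = Matrix.toLin' (1 : Matrix (Fin n) (Fin n) K) := by
      rw [Matrix.toLin'_one]; exact h
    have h2 := Matrix.toLin'.injective h1
    have h3 : (ρ g).1.map (algebraMap F K) = (1 : Matrix (Fin n) (Fin n) F).map (algebraMap F K) := by
      rw [h2, Matrix.map_one _ (map_zero _) (map_one _)]
    apply Units.ext
    exact Matrix.map_injective (algebraMap F K).injective h3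
  · intro h
    show Matrix.toLin' ((ρ g).1.map (algebraMap F K)) = 1
    rw [h, Units.val_one, Matrix.map_one _ (map_zero _) (map_one _), Matrix.toLin'_one]
    rfl

/-- A finite `p`-group mapped to `GL_n(F)`: the term `Nat.log 2 n + 1` of its derived series lies
in the kernel. -/
theorem gl_claim (p : ℕ) [Fact p.Prime] {P : Type u} [Group P] [Finite P] (hP : IsPGroup p P)
    {F : Type v} [Field F] {n : ℕ} (ρ : P →* Matrix.GeneralLinearGroup (Fin n) F) :
    derivedSeries P (Nat.log 2 n + 1) ≤ MonoidHom.ker ρ := by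
  rw [← matRep_ker (AlgebraicClosure F) ρ]
  exact rep_claim p hP (matRep (AlgebraicClosure F) ρ) n (by rw [Module.finrank_fin_fun])

end Final

end Cfsg.Agent.Lib.Helper74.LinDL
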