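import Mathlib
import Cfsg.Agent.Lib.Helper45.NRankDefs
import Cfsg.Agent.Lib.Helper45.NRankDefs2

set_option autoImplicit false

namespace Cfsg.Agent.Lib.Helper74.NRank

open Cfsg.Agent.Lib.Helper45.NRank

universe u v

/-- an element of a group lies in a subgroup as soon as two coprime powers do -/
theorem mem_of_coprime_pow {G : Type*} [Group G] (H : Subgroup G) (g : G) {m n : ℕ}
    (h : Nat.Coprime m n) (hm : g ^ m ∈ H) (hn : g ^ n ∈ H) : g ∈ H := by
  have e : g = (g ^ m) ^ (Nat.gcdA m n) * (g ^ n) ^ (Nat.gcdB m n) := by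
    rw [← zpow_natCast, ← zpow_natCast, ← zpow_mul, ← zpow_mul, ← zpow_add,
      ← Nat.gcd_eq_gcd_ab, h, Nat.cast_one, zpow_one]
  rw [e]
  exact H.mul_mem (H.zpow_mem hm _) (H.zpow_mem hn _)

section

variable {F : Type u} [Field F] {V : Type v} [AddCommGroup V] [Module F V]
  [FiniteDimensional F V]

/-- three vectors of a plane are linearly dependent -/
theorem dep3 (U : Submodule F V) (hU2 : Module.finrank F U = 2) {x y z : V}
    (hx : x ∈ U) (hy : y ∈ U) (hz : z ∈ U) :
    ∃ c0 c1 c2 : F, c0 • x + c1 • y + c2 • z = 0 ∧ ¬ (c0 = 0 ∧ c1 = 0 ∧ c2 = 0) := by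
  by_contra hcon
  push_neg at hcon
  have hli : LinearIndependent F ![x, y, z] := by
    rw [Fintype.linearIndependent_iff]
    intro g hg
    rw [Fin.sum_univ_three] at hg
    have h3 := hcon (g 0) (g 1) (g 2) (by simpa using hg)
    intro i
    fin_cases i
    · exact h3.1
    · exact h3.2.1
    · exact h3.2.2
  have h1 := finrank_span_eq_card hli
  have h2 : Submodule.span F (Set.range ![x, y, z]) ≤ U := by
    rw [Submodule.span_le]
    rintro _ ⟨i, rfl⟩
    fin_cases i
    · exact hx
    · exact hy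
    · exact hz
  have h3 := Submodule.finrank_mono h2
  rw [h1, hU2] at h3
  simp at h3

/-- a nonzero subspace of the plane `U` stable under `a²` is `U` -/
theorem plane_irred (a : V ≃ₗ[F] V) (U : Submodule F V) (hU2 : Module.finrank F U = 2)
    (hfix : ∀ u ∈ U, ∀ c : F, a (a u) = c • u → u = 0)
    (U' : Submodule F V) (hle : U' ≤ U) {x : V} (hx : x ∈ U') (hx0 : x ≠ 0)
    (hinv : ∀ y ∈ U', a (a y) ∈ U') : U ≤ U' := by
  have hli : LinearIndependent F ![x, a (a x)] := by
    rw [LinearIndependent.pair_iff]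
    intro s t hst
    have ht : t = 0 := by
      by_contra ht
      apply hx0
      apply hfix x (hle hx) (-(t⁻¹ * s))
      have h1 : t • a (a x) = -(s • x) := by
        rw [eq_neg_iff_add_eq_zero, add_comm]
        exact hst
      have h2 : a (a x) = t⁻¹ • (t • a (a x)) := by
        rw [smul_smul, inv_mul_cancel₀ ht, one_smul]
      rw [h2, h1, smul_neg, smul_smul, neg_smul]
    refine ⟨?_, ht⟩
    rw [ht, zero_smul, add_zero] at hst
    rcases smul_eq_zero.1 hst with h | h
    · exact h
    · exact absurd h hx0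
  have h1 := finrank_span_eq_card hli
  have h2 : Submodule.span F (Set.range ![x, a (a x)]) ≤ U' := by
    rw [Submodule.span_le]
    rintro _ ⟨i, rfl⟩
    fin_cases i
    · exact hx
    · exact hinv x hx
  have h3 := Submodule.finrank_mono h2
  rw [h1] at h3
  have h4 : Module.finrank F U ≤ Module.finrank F U' := by
    rw [hU2]
    simpa using h3
  exact (Submodule.eq_of_le_of_finrank_le hle h4).ge

/-- B3B: a `2`-dimensional irreducible block of a `2`-element permuting an independent spanning
family of subspaces lies in one of them -/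
theorem block_in_part {F : Type u} [Field F] {V : Type v} [AddCommGroup V] [Module F V]
    [FiniteDimensional F V] {ι : Type*} (J : ι → Submodule F V) (hind : iSupIndep J)
    (hsup : (⨆ i, J i) = ⊤) (a : V ≃ₗ[F] V) (σ : Equiv.Perm ι)
    (hσ : ∀ i, (J i).map ((a : V ≃ₗ[F] V) : V →ₗ[F] V) = J (σ i))
    (k : ℕ) (hk : a ^ (2 ^ k) = 1)
    (U : Submodule F V) (hU2 : Module.finrank F U = 2) (hUa : ∀ u ∈ U, a u ∈ U)
    (hrange : ∀ v : V, a v - v ∈ U)
    (hfix : ∀ u ∈ U, ∀ c : F, a (a u) = c • u → u = 0) :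
    ∃ i, U ≤ J i := by
  classical
  -- basic facts
  have ha_mem : ∀ j, ∀ v ∈ J j, a v ∈ J (σ j) := by
    intro j v hv
    rw [← hσ j]
    exact Submodule.mem_map_of_mem hv
  have ha0 : ∀ v : V, v ≠ 0 → a v ≠ 0 := by
    intro v hv h
    exact hv (a.map_eq_zero_iff.1 h)
  have hdisj : ∀ i j, i ≠ j → ∀ x, x ∈ J i → x ∈ J j → x = 0 := by
    intro i j hij x hxi hxj
    exact Submodule.disjoint_def.1 (hind.pairwiseDisjoint hij) x hxi hxj
  have sep : ∀ j, ∀ x ∈ J j, ∀ y ∈ (⨆ l, ⨆ (_ : l ≠ j), J l), x + y = 0 → x = 0 := by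
    intro j x hx y hy hxy
    have hxy' : x = -y := eq_neg_of_add_eq_zero_left hxy
    exact Submodule.disjoint_def.1 (hind j) x hx (by rw [hxy']; exact neg_mem hy)
  have mem_other : ∀ j l, l ≠ j → ∀ x ∈ J l, x ∈ (⨆ l, ⨆ (_ : l ≠ j), J l) := by
    intro j l hl x hx
    exact Submodule.mem_iSup_of_mem l (Submodule.mem_iSup_of_mem hl hx)
  have hUne : ∃ u ∈ U, u ≠ 0 := by
    have hne : U ≠ ⊥ := by
      intro h
      rw [h, finrank_bot] at hU2
      omega
    exact (Submodule.ne_bot_iff U).1 hne
  -- powers of `a` move `J i` along `σ`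
  have hpow : ∀ (n : ℕ) (i : ι) (w : V), w ∈ J i → (a ^ n) w ∈ J ((σ ^ n) i) := by
    intro n
    induction n with
    | zero =>
      intro i w hw
      simpa using hw
    | succ n ih =>
      intro i w hw
      rw [pow_succ', pow_succ', LinearEquiv.mul_apply, Equiv.Perm.mul_apply]
      exact ha_mem _ _ (ih i w hw)
  have hσk : ∀ i, ∀ w ∈ J i, w ≠ 0 → (σ ^ (2 ^ k)) i = i := by
    intro i w hw hw0
    by_contra hne
    have h1 := hpow (2 ^ k) i w hw
    rw [hk] at h1
    have h1' : w ∈ J ((σ ^ (2 ^ k)) i) := h1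
    exact hw0 (hdisj _ _ hne w h1' hw)
  -- Step 1: a nonzero `J i` is fixed by `σ`
  have step1 : ∀ i, ∀ w ∈ J i, w ≠ 0 → σ i = i := by
    intro i w hw hw0
    by_contra hne
    by_cases h2 : σ (σ i) = i
    · -- orbit of length two
      have claim : ∀ j, ∀ w' ∈ J j, w' ≠ 0 → σ j ≠ j → σ (σ j) = j →
          ∀ u ∈ U, ∃ v ∈ J j, a v - v = u := by
        intro j w' hw' hw'0 hj hjj u hu
        have hT : U ≤ (J j).map ((a : V →ₗ[F] V) - LinearMap.id) := by
          refine plane_irred a U hU2 hfix _ ?_ (x := a w' - w')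
            (Submodule.mem_map.2 ⟨w', hw', rfl⟩) ?_ ?_
          · rintro _ ⟨v, _, rfl⟩
            exact hrange v
          · intro h
            apply hw'0
            have h' : a w' = w' := sub_eq_zero.1 h
            exact hdisj _ _ hj w' (by rw [← h']; exact ha_mem j w' hw') hw'
          · rintro _ ⟨v, hv, rfl⟩
            refine Submodule.mem_map.2 ⟨a (a v), ?_, ?_⟩
            · have := ha_mem _ _ (ha_mem j v hv)
              rwa [hjj] at this
            · simp
        obtain ⟨v, hv, hvu⟩ := Submodule.mem_map.1 (hT hu)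
        exact ⟨v, hv, hvu⟩
      obtain ⟨u, hu, hu0⟩ := hUne
      have hσi : σ (σ i) ≠ σ i := fun h => hne (σ.injective h)
      obtain ⟨v, hv, hvu⟩ := claim i w hw hw0 hne h2 u hu
      obtain ⟨v1, hv1, hv1u⟩ := claim (σ i) (a w) (ha_mem i w hw) (ha0 w hw0) hσi
        (by rw [h2]) u hu
      have hav : a v ∈ J (σ i) := ha_mem i v hv
      have hav1 : a v1 ∈ J i := by
        have := ha_mem (σ i) v1 hv1
        rwa [h2] at this
      have e : a v + v1 = v + a v1 := by
        have : a v - v = a v1 - v1 := by rw [hvu, hv1u]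
        rw [sub_eq_sub_iff_add_eq_add] at this
        rw [this, add_comm]
      have hz : v + a v1 = 0 :=
        hdisj i (σ i) (Ne.symm hne) _ (add_mem hv hav1) (by rw [← e]; exact add_mem hav hv1)
      have hz' : a v + v1 = 0 := by rw [e]; exact hz
      have e1 : a v1 = -v := by
        rw [eq_neg_iff_add_eq_zero, add_comm]
        exact hz
      have e2 : a v = -v1 := eq_neg_of_add_eq_zero_left hz'
      have e3 : a (a v) = v := by rw [e2, map_neg, e1, neg_neg]
      apply hu0
      apply hfix u hu 1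
      rw [one_smul, ← hvu, map_sub, map_sub, e3]
    · -- orbit of length at least three
      have h3 : σ (σ (σ i)) ≠ i := by
        intro h
        apply hne
        have hm3 : σ ^ 3 ∈ MulAction.stabilizer (Equiv.Perm ι) i := by
          rw [MulAction.mem_stabilizer_iff, Equiv.Perm.smul_def]
          simpa [pow_succ] using h
        have hmk : σ ^ (2 ^ k) ∈ MulAction.stabilizer (Equiv.Perm ι) i := by
          rw [MulAction.mem_stabilizer_iff, Equiv.Perm.smul_def]
          exact hσk i w hw hw0
        have hcop : Nat.Coprime 3 (2 ^ k) := Nat.Coprime.pow_right k (by decide)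
        have := mem_of_coprime_pow _ σ hcop hm3 hmk
        rwa [MulAction.mem_stabilizer_iff, Equiv.Perm.smul_def] at this
      have h21 : σ (σ i) ≠ σ i := fun h => hne (σ.injective h)
      have h31 : σ (σ (σ i)) ≠ σ i := fun h => h2 (σ.injective h)
      have h32 : σ (σ (σ i)) ≠ σ (σ i) := fun h => hne (σ.injective (σ.injective h))
      have hw1 : a w ∈ J (σ i) := ha_mem _ _ hw
      have hw2 : a (a w) ∈ J (σ (σ i)) := ha_mem _ _ hw1
      have hw3 : a (a (a w)) ∈ J (σ (σ (σ i))) := ha_mem _ _ hw2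
      obtain ⟨c0, c1, c2, hrel, hnz⟩ := dep3 U hU2 (hrange w) (hrange (a w)) (hrange (a (a w)))
      apply hnz
      have hc0 : c0 = 0 := by
        have hs := sep i (-(c0 • w)) (neg_mem (Submodule.smul_mem _ _ hw))
          (c0 • a w - c1 • a w + c1 • a (a w) - c2 • a (a w) + c2 • a (a (a w)))
          (add_mem (sub_mem (add_mem (sub_mem
            (mem_other i _ hne _ (Submodule.smul_mem _ _ hw1))
            (mem_other i _ hne _ (Submodule.smul_mem _ _ hw1)))
            (mem_other i _ h2 _ (Submodule.smul_mem _ _ hw2)))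
            (mem_other i _ h2 _ (Submodule.smul_mem _ _ hw2)))
            (mem_other i _ h3 _ (Submodule.smul_mem _ _ hw3)))
          (by rw [← hrel]; simp only [smul_sub]; abel)
        rcases smul_eq_zero.1 (neg_eq_zero.1 hs) with h | h
        · exact h
        · exact absurd h hw0
      have hc2 : c2 = 0 := by
        have hs := sep (σ (σ (σ i))) (c2 • a (a (a w))) (Submodule.smul_mem _ _ hw3)
          (c0 • a w - c0 • w + c1 • a (a w) - c1 • a w - c2 • a (a w))
          (sub_mem (sub_mem (add_mem (sub_mem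
            (mem_other _ _ (Ne.symm h31) _ (Submodule.smul_mem _ _ hw1))
            (mem_other _ _ (Ne.symm h3) _ (Submodule.smul_mem _ _ hw)))
            (mem_other _ _ (Ne.symm h32) _ (Submodule.smul_mem _ _ hw2)))
            (mem_other _ _ (Ne.symm h31) _ (Submodule.smul_mem _ _ hw1)))
            (mem_other _ _ (Ne.symm h32) _ (Submodule.smul_mem _ _ hw2)))
          (by rw [← hrel]; simp only [smul_sub]; abel)
        rcases smul_eq_zero.1 hs with h | h
        · exact h
        · exact absurd h (ha0 _ (ha0 _ (ha0 _ hw0)))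
      have hc1 : c1 = 0 := by
        rw [hc0, hc2, zero_smul, zero_smul, zero_add, add_zero] at hrel
        have hs := sep (σ (σ i)) (c1 • a (a w)) (Submodule.smul_mem _ _ hw2)
          (-(c1 • a w)) (neg_mem (mem_other _ _ (Ne.symm h21) _ (Submodule.smul_mem _ _ hw1)))
          (by rw [← hrel]; simp only [smul_sub]; abel)
        rcases smul_eq_zero.1 hs with h | h
        · exact h
        · exact absurd h (ha0 _ (ha0 _ hw0))
      exact ⟨hc0, hc1, hc2⟩
  -- Step 2
  have hP : ∀ v : V, a v - v ∈ ⨆ i, (U ⊓ J i) := by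
    intro v
    have hv : v ∈ ⨆ i, J i := by
      rw [hsup]
      exact Submodule.mem_top
    refine Submodule.iSup_induction J (motive := fun v => a v - v ∈ ⨆ i, (U ⊓ J i)) hv ?_ ?_ ?_
    · intro i x hx
      by_cases hx0 : x = 0
      · rw [hx0, map_zero, sub_zero]
        exact zero_mem _
      · have hi := step1 i x hx hx0
        have hax : a x ∈ J i := by
          have := ha_mem i x hx
          rwa [hi] at this
        exact Submodule.mem_iSup_of_mem i ⟨hrange x, sub_mem hax hx⟩
    · rw [map_zero, sub_zero]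
      exact zero_mem _
    · intro x y hx hy
      have e : a (x + y) - (x + y) = (a x - x) + (a y - y) := by
        rw [map_add]
        abel
      rw [e]
      exact add_mem hx hy
  obtain ⟨u, hu, hu0⟩ := hUne
  have hau : a u - u ≠ 0 := by
    intro h
    have h' : a u = u := sub_eq_zero.1 h
    apply hu0
    apply hfix u hu 1
    rw [h', h', one_smul]
  have hne : (⨆ i, (U ⊓ J i)) ≠ ⊥ := by
    intro h
    have := hP u
    rw [h, Submodule.mem_bot] at this
    exact hau this
  obtain ⟨i, hi⟩ : ∃ i, U ⊓ J i ≠ ⊥ := by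
    by_contra hcon
    push_neg at hcon
    exact hne (iSup_eq_bot.2 hcon)
  obtain ⟨x, hx, hx0⟩ := (Submodule.ne_bot_iff _).1 hi
  have hσi := step1 i x hx.2 hx0
  refine ⟨i, le_trans (plane_irred a U hU2 hfix (U ⊓ J i) inf_le_left hx hx0 ?_) inf_le_right⟩
  intro y hy
  refine ⟨hUa _ (hUa _ hy.1), ?_⟩
  have h1 : a y ∈ J i := by
    have := ha_mem i y hy.2
    rwa [hσi] at this
  have h2 := ha_mem i (a y) h1
  rwa [hσi] at h2

end

end Cfsg.Agent.Lib.Helper74.NRank
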