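import Mathlib
import Cfsg.Prelude.Def_GeometricClasses
import Cfsg.Prelude.Def_LieClassical
import Cfsg.Agent.Lib.Helper71.Asch0
import Cfsg.Agent.Lib.Helper71.Asch5

/-! Project SU4 (S5784), piece Q3MON, sub-project Q3 (helper74): definitions.
Standard coordinates: the 2-qubit Pauli group `Rs = ⟨i•1, Z1, Z2, X1, X2⟩` (64 elements) in
`GL_4(F)`, `F` a field with an element `i`, `i * i = -1` (in the application `|F| = 9`).
Index convention: `k = 2 * k₁ + k₂`; `Z1 = diag(1,1,-1,-1)`, `Z2 = diag(1,-1,1,-1)`,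
`X1 e_k = e_{k xor 2}`, `X2 e_k = e_{k xor 1}`; `q3xor t k = t xor k`. -/

set_option autoImplicit false

namespace Cfsg.Agent.Lib.Helper74.SU4Q3

open Matrix Cfsg.Geo Cfsg.Agent.Lib.Helper71.Asch

def q3Z1 (F : Type*) [Field F] : Matrix (Fin 4) (Fin 4) F :=
  !![1, 0, 0, 0; 0, 1, 0, 0; 0, 0, -1, 0; 0, 0, 0, -1]

def q3Z2 (F : Type*) [Field F] : Matrix (Fin 4) (Fin 4) F :=
  !![1, 0, 0, 0; 0, -1, 0, 0; 0, 0, 1, 0; 0, 0, 0, -1]

def q3X1 (F : Type*) [Field F] : Matrix (Fin 4) (Fin 4) F :=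
  !![0, 0, 1, 0; 0, 0, 0, 1; 1, 0, 0, 0; 0, 1, 0, 0]

def q3X2 (F : Type*) [Field F] : Matrix (Fin 4) (Fin 4) F :=
  !![0, 1, 0, 0; 1, 0, 0, 0; 0, 0, 0, 1; 0, 0, 1, 0]

/-- permutation matrix of a 3-cycle: `T Z1 = Z2 T`, `T Z2 = (Z1 Z2) T`, `T (Z1 Z2) = Z1 T`,
`T X1 = (X1 X2) T`, `T X2 = X1 T`. -/
def q3T (F : Type*) [Field F] : Matrix (Fin 4) (Fin 4) F :=
  !![1, 0, 0, 0; 0, 0, 0, 1; 0, 1, 0, 0; 0, 0, 1, 0]

def q3Tinv (F : Type*) [Field F] : Matrix (Fin 4) (Fin 4) F :=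
  !![1, 0, 0, 0; 0, 0, 1, 0; 0, 0, 0, 1; 0, 1, 0, 0]

/-- Hadamard on the first qubit: `Hd Z1 = X1 Hd`, `Hd X1 = Z1 Hd`, `Hd Z2 = Z2 Hd`,
`Hd X2 = X2 Hd`, `Hd * Hd = 2 • 1` (`= -1` when `3 = 0`). -/
def q3Hd (F : Type*) [Field F] : Matrix (Fin 4) (Fin 4) F :=
  !![1, 0, 1, 0; 0, 1, 0, 1; 1, 0, -1, 0; 0, 1, 0, -1]

/-- `Dd = diag(1, 1, i, -i)`: commutes with `Z1`, `Z2`; `Dd X2 = Z1 X2 Dd`,
`Dd X1 = ((-i) • (Z1 Z2)) X1 Dd`, `Dd (X1 X2) = (i • Z2) (X1 X2) Dd`. -/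
def q3Dd {F : Type*} [Field F] (i : F) : Matrix (Fin 4) (Fin 4) F :=
  !![1, 0, 0, 0; 0, 1, 0, 0; 0, 0, i, 0; 0, 0, 0, -i]

def q3Ddinv {F : Type*} [Field F] (i : F) : Matrix (Fin 4) (Fin 4) F :=
  !![1, 0, 0, 0; 0, 1, 0, 0; 0, 0, -i, 0; 0, 0, 0, i]

/-- `q3xor t k = t xor k` on `Fin 4`. -/
def q3xor (t k : Fin 4) : Fin 4 :=
  ![![0, 1, 2, 3], ![1, 0, 3, 2], ![2, 3, 0, 1], ![3, 2, 1, 0]] t k

variable {F : Type*} [Field F]

theorem q3Z1_sq : q3Z1 F * q3Z1 F = 1 := by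
  ext a b
  fin_cases a <;> fin_cases b <;> simp [q3Z1, Matrix.mul_apply, Fin.sum_univ_four]

theorem q3Z2_sq : q3Z2 F * q3Z2 F = 1 := by
  ext a b
  fin_cases a <;> fin_cases b <;> simp [q3Z2, Matrix.mul_apply, Fin.sum_univ_four]

theorem q3X1_sq : q3X1 F * q3X1 F = 1 := by
  ext a b
  fin_cases a <;> fin_cases b <;> simp [q3X1, Matrix.mul_apply, Fin.sum_univ_four]

theorem q3X2_sq : q3X2 F * q3X2 F = 1 := by
  ext a b
  fin_cases a <;> fin_cases b <;> simp [q3X2, Matrix.mul_apply, Fin.sum_univ_four]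

theorem q3T_mul_inv : q3T F * q3Tinv F = 1 := by
  ext a b
  fin_cases a <;> fin_cases b <;> simp [q3T, q3Tinv, Matrix.mul_apply, Fin.sum_univ_four]

theorem q3Tinv_mul : q3Tinv F * q3T F = 1 := by
  ext a b
  fin_cases a <;> fin_cases b <;> simp [q3T, q3Tinv, Matrix.mul_apply, Fin.sum_univ_four]

theorem q3Hd_sq (h3 : (3 : F) = 0) : q3Hd F * (-q3Hd F) = 1 := by
  ext a b
  fin_cases a <;> fin_cases b <;> simp [q3Hd, Matrix.mul_apply, Fin.sum_univ_four]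
  all_goals linear_combination (-1 : F) * h3

theorem q3Hd_sq' (h3 : (3 : F) = 0) : (-q3Hd F) * q3Hd F = 1 := by
  rw [Matrix.neg_mul, ← Matrix.mul_neg]
  exact q3Hd_sq h3

theorem q3Dd_mul_inv (i : F) (hi : i * i = -1) : q3Dd i * q3Ddinv i = 1 := by
  ext a b
  fin_cases a <;> fin_cases b <;> simp [q3Dd, q3Ddinv, Matrix.mul_apply, Fin.sum_univ_four, hi]

theorem q3Ddinv_mul (i : F) (hi : i * i = -1) : q3Ddinv i * q3Dd i = 1 := by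
  ext a b
  fin_cases a <;> fin_cases b <;> simp [q3Dd, q3Ddinv, Matrix.mul_apply, Fin.sum_univ_four, hi]

theorem q3I_mul (i : F) (hi : i * i = -1) :
    (i • (1 : Matrix (Fin 4) (Fin 4) F)) * ((-i) • (1 : Matrix (Fin 4) (Fin 4) F)) = 1 := by
  rw [Matrix.smul_mul, Matrix.one_mul, smul_smul, mul_neg, hi, neg_neg, one_smul]

theorem q3I_mul' (i : F) (hi : i * i = -1) :
    ((-i) • (1 : Matrix (Fin 4) (Fin 4) F)) * (i • (1 : Matrix (Fin 4) (Fin 4) F)) = 1 := by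
  rw [Matrix.smul_mul, Matrix.one_mul, smul_smul, neg_mul, hi, neg_neg, one_smul]

/-- the generators as elements of `GL_4(F)` -/
def gZ1 (F : Type*) [Field F] : GL (Fin 4) F := ⟨q3Z1 F, q3Z1 F, q3Z1_sq, q3Z1_sq⟩
def gZ2 (F : Type*) [Field F] : GL (Fin 4) F := ⟨q3Z2 F, q3Z2 F, q3Z2_sq, q3Z2_sq⟩
def gX1 (F : Type*) [Field F] : GL (Fin 4) F := ⟨q3X1 F, q3X1 F, q3X1_sq, q3X1_sq⟩
def gX2 (F : Type*) [Field F] : GL (Fin 4) F := ⟨q3X2 F, q3X2 F, q3X2_sq, q3X2_sq⟩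
def gT (F : Type*) [Field F] : GL (Fin 4) F := ⟨q3T F, q3Tinv F, q3T_mul_inv, q3Tinv_mul⟩
def gI (i : F) (hi : i * i = -1) : GL (Fin 4) F :=
  ⟨i • 1, (-i) • 1, q3I_mul i hi, q3I_mul' i hi⟩
def gDd (i : F) (hi : i * i = -1) : GL (Fin 4) F :=
  ⟨q3Dd i, q3Ddinv i, q3Dd_mul_inv i hi, q3Ddinv_mul i hi⟩
def gHd (h3 : (3 : F) = 0) : GL (Fin 4) F := ⟨q3Hd F, -q3Hd F, q3Hd_sq h3, q3Hd_sq' h3⟩

/-- the standard 2-qubit Pauli group `4 ∘ 2^{1+4}` -/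
def Rs (i : F) (hi : i * i = -1) : Subgroup (GL (Fin 4) F) :=
  Subgroup.closure {gI i hi, gZ1 F, gZ2 F, gX1 F, gX2 F}

/-- "Pauli type": monomial with support `{(t xor k, k)}` and entries `c k` with `c k ^ 4 = 1`,
all `c k ^ 2` equal, and product `1`.  (`Rs` is exactly the set of `g` with `PT g.1`.) -/
def PT (M : Matrix (Fin 4) (Fin 4) F) : Prop :=
  ∃ (t : Fin 4) (c : Fin 4 → F), (∀ j k, M j k = if j = q3xor t k then c k else 0) ∧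
    (∀ k, c k ^ 4 = 1) ∧ (∀ k, c k ^ 2 = c 0 ^ 2) ∧ c 0 * c 1 * c 2 * c 3 = 1

/-- a subgroup of a finite group that is mapped into itself by conjugation with `g` is normalised
by `g` -/
theorem q3_finn {G : Type*} [Group G] [Finite G] (S : Subgroup G) (g : G)
    (h : ∀ x ∈ S, g * x * g⁻¹ ∈ S) : g ∈ Subgroup.normalizer (S : Set G) := by
  classical
  have hinj : Function.Injective (fun x : S => (⟨g * x.1 * g⁻¹, h x.1 x.2⟩ : S)) := by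
    intro x y hxy
    have h1 : g * x.1 * g⁻¹ = g * y.1 * g⁻¹ := congrArg Subtype.val hxy
    apply Subtype.ext
    exact mul_left_cancel (mul_right_cancel h1)
  have hsurj := Finite.injective_iff_surjective.mp hinj
  rw [Subgroup.mem_normalizer_iff]
  intro y
  refine ⟨h y, fun hy => ?_⟩
  obtain ⟨x, hx⟩ := hsurj ⟨g * y * g⁻¹, hy⟩
  have h1 : g * x.1 * g⁻¹ = g * y * g⁻¹ := congrArg Subtype.val hx
  have h2 : x.1 = y := mul_left_cancel (mul_right_cancel h1)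
  rw [← h2]
  exact x.2

end Cfsg.Agent.Lib.Helper74.SU4Q3
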