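import Mathlib
import Cfsg.Prelude.Def_GeometricClasses
import Cfsg.Prelude.Def_LieClassical
import Cfsg.Agent.Lib.Helper71.Asch0
import Cfsg.Agent.Lib.Helper71.Asch5
import Cfsg.Agent.Lib.Helper74.SU4Q3Defs

/-! Project SU4 (S5784, 10u), piece Q3MON, sub-board Q3 (helper74): sub-piece `CMT`.
FILLED (helper37, job 4719); statement, name, namespace unchanged (you may add
imports and helper lemmas with names prefixed `q3cmt_`); land on origin/main; mark the job done;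
msg helper74.  Definitions: `SU4Q3Defs.lean` (`q3Z1 q3Z2 q3X1 q3X2 q3T q3Hd q3Dd`, the `GL` elements
`gI gZ1 gZ2 gX1 gX2 gT gDd gHd`, `Rs = closure of gI, gZ1, gZ2, gX1, gX2`, `PT`, `q3xor`, `q3_finn`).
Explicit 4x4 identities: `ext a b; fin_cases a <;> fin_cases b <;> simp [q3Z1, ..., Matrix.mul_apply,
Fin.sum_univ_four]`; equalities in `GL`: `Units.ext`.

EASY. Entrywise (`congrFun (congrFun h a) b` + `simp [q3Z1, Matrix.mul_apply, Fin.sum_univ_four]`):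
commuting with `Z1` kills the entries `M a b` with `a ∈ {0,1}, b ∈ {2,3}` or vice versa (`M a b = -M a b`,
`2 ≠ 0`), with `Z2` the remaining off-diagonal ones; `X1`: `M 0 0 = M 2 2`, `M 1 1 = M 3 3`;
`X2`: `M 0 0 = M 1 1`.  So `M = M 0 0 • 1`. -/

set_option autoImplicit false

namespace Cfsg.Agent.Lib.Helper74.SU4Q3

open Matrix Cfsg.Geo Cfsg.Agent.Lib.Helper71.Asch

variable {F : Type*} [Field F] [Fintype F]

omit [Fintype F] in
theorem q3cmt_MZ1 (M : Matrix (Fin 4) (Fin 4) F) (a : Fin 4) :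
    (M * q3Z1 F) a 0 = M a 0 ∧ (M * q3Z1 F) a 1 = M a 1 ∧ (M * q3Z1 F) a 2 = -M a 2 ∧
    (M * q3Z1 F) a 3 = -M a 3 := by
  simp [q3Z1, Matrix.mul_apply, Fin.sum_univ_four]

omit [Fintype F] in
theorem q3cmt_Z1M (M : Matrix (Fin 4) (Fin 4) F) (b : Fin 4) :
    (q3Z1 F * M) 0 b = M 0 b ∧ (q3Z1 F * M) 1 b = M 1 b ∧ (q3Z1 F * M) 2 b = -M 2 b ∧
    (q3Z1 F * M) 3 b = -M 3 b := by
  simp [q3Z1, Matrix.mul_apply, Fin.sum_univ_four]

omit [Fintype F] in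
theorem q3cmt_MZ2 (M : Matrix (Fin 4) (Fin 4) F) (a : Fin 4) :
    (M * q3Z2 F) a 0 = M a 0 ∧ (M * q3Z2 F) a 1 = -M a 1 ∧ (M * q3Z2 F) a 2 = M a 2 ∧
    (M * q3Z2 F) a 3 = -M a 3 := by
  simp [q3Z2, Matrix.mul_apply, Fin.sum_univ_four]

omit [Fintype F] in
theorem q3cmt_Z2M (M : Matrix (Fin 4) (Fin 4) F) (b : Fin 4) :
    (q3Z2 F * M) 0 b = M 0 b ∧ (q3Z2 F * M) 1 b = -M 1 b ∧ (q3Z2 F * M) 2 b = M 2 b ∧
    (q3Z2 F * M) 3 b = -M 3 b := by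
  simp [q3Z2, Matrix.mul_apply, Fin.sum_univ_four]

omit [Fintype F] in
theorem q3cmt_MX1 (M : Matrix (Fin 4) (Fin 4) F) (a : Fin 4) :
    (M * q3X1 F) a 2 = M a 0 ∧ (M * q3X1 F) a 3 = M a 1 := by
  simp [q3X1, Matrix.mul_apply, Fin.sum_univ_four]

omit [Fintype F] in
theorem q3cmt_X1M (M : Matrix (Fin 4) (Fin 4) F) (b : Fin 4) :
    (q3X1 F * M) 0 b = M 2 b ∧ (q3X1 F * M) 1 b = M 3 b := by
  simp [q3X1, Matrix.mul_apply, Fin.sum_univ_four]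

omit [Fintype F] in
theorem q3cmt_MX2 (M : Matrix (Fin 4) (Fin 4) F) (a : Fin 4) :
    (M * q3X2 F) a 1 = M a 0 := by
  simp [q3X2, Matrix.mul_apply, Fin.sum_univ_four]

omit [Fintype F] in
theorem q3cmt_X2M (M : Matrix (Fin 4) (Fin 4) F) (b : Fin 4) :
    (q3X2 F * M) 0 b = M 1 b := by
  simp [q3X2, Matrix.mul_apply, Fin.sum_univ_four]

theorem q3_cmt (h2 : (2 : F) ≠ 0) (M : Matrix (Fin 4) (Fin 4) F)
    (h1 : M * q3Z1 F = q3Z1 F * M) (h2' : M * q3Z2 F = q3Z2 F * M)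
    (h3 : M * q3X1 F = q3X1 F * M) (h4 : M * q3X2 F = q3X2 F * M) :
    ∃ c : F, M = c • (1 : Matrix (Fin 4) (Fin 4) F) := by
  have hz : ∀ x : F, -x = x → x = 0 := fun x h => by
    have h' : 2 * x = 0 := by linear_combination -h
    exact (mul_eq_zero.mp h').resolve_left h2
  have hz' : ∀ x : F, x = -x → x = 0 := fun x h => hz x h.symm
  have e1 : ∀ a b, (M * q3Z1 F) a b = (q3Z1 F * M) a b := fun a b => by rw [h1]
  have e2 : ∀ a b, (M * q3Z2 F) a b = (q3Z2 F * M) a b := fun a b => by rw [h2']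
  have e3 : ∀ a b, (M * q3X1 F) a b = (q3X1 F * M) a b := fun a b => by rw [h3]
  have e4 : ∀ a b, (M * q3X2 F) a b = (q3X2 F * M) a b := fun a b => by rw [h4]
  have m02 : M 0 2 = 0 := hz _ (by
    have h := e1 0 2
    rw [(q3cmt_MZ1 M 0).2.2.1, (q3cmt_Z1M M 2).1] at h
    exact h)
  have m03 : M 0 3 = 0 := hz _ (by
    have h := e1 0 3
    rw [(q3cmt_MZ1 M 0).2.2.2, (q3cmt_Z1M M 3).1] at h
    exact h)
  have m12 : M 1 2 = 0 := hz _ (by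
    have h := e1 1 2
    rw [(q3cmt_MZ1 M 1).2.2.1, (q3cmt_Z1M M 2).2.1] at h
    exact h)
  have m13 : M 1 3 = 0 := hz _ (by
    have h := e1 1 3
    rw [(q3cmt_MZ1 M 1).2.2.2, (q3cmt_Z1M M 3).2.1] at h
    exact h)
  have m20 : M 2 0 = 0 := hz' _ (by
    have h := e1 2 0
    rw [(q3cmt_MZ1 M 2).1, (q3cmt_Z1M M 0).2.2.1] at h
    exact h)
  have m21 : M 2 1 = 0 := hz' _ (by
    have h := e1 2 1
    rw [(q3cmt_MZ1 M 2).2.1, (q3cmt_Z1M M 1).2.2.1] at h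
    exact h)
  have m30 : M 3 0 = 0 := hz' _ (by
    have h := e1 3 0
    rw [(q3cmt_MZ1 M 3).1, (q3cmt_Z1M M 0).2.2.2] at h
    exact h)
  have m31 : M 3 1 = 0 := hz' _ (by
    have h := e1 3 1
    rw [(q3cmt_MZ1 M 3).2.1, (q3cmt_Z1M M 1).2.2.2] at h
    exact h)
  have m01 : M 0 1 = 0 := hz _ (by
    have h := e2 0 1
    rw [(q3cmt_MZ2 M 0).2.1, (q3cmt_Z2M M 1).1] at h
    exact h)
  have m10 : M 1 0 = 0 := hz' _ (by
    have h := e2 1 0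
    rw [(q3cmt_MZ2 M 1).1, (q3cmt_Z2M M 0).2.1] at h
    exact h)
  have m23 : M 2 3 = 0 := hz _ (by
    have h := e2 2 3
    rw [(q3cmt_MZ2 M 2).2.2.2, (q3cmt_Z2M M 3).2.2.1] at h
    exact h)
  have m32 : M 3 2 = 0 := hz' _ (by
    have h := e2 3 2
    rw [(q3cmt_MZ2 M 3).2.2.1, (q3cmt_Z2M M 2).2.2.2] at h
    exact h)
  have m22 : M 2 2 = M 0 0 := by
    have h := e3 0 2
    rw [(q3cmt_MX1 M 0).1, (q3cmt_X1M M 2).1] at h
    exact h.symm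
  have m33 : M 3 3 = M 1 1 := by
    have h := e3 1 3
    rw [(q3cmt_MX1 M 1).2, (q3cmt_X1M M 3).2] at h
    exact h.symm
  have m11 : M 1 1 = M 0 0 := by
    have h := e4 0 1
    rw [q3cmt_MX2 M 0, q3cmt_X2M M 1] at h
    exact h.symm
  refine ⟨M 0 0, ?_⟩
  ext a b
  fin_cases a <;> fin_cases b <;>
    simp [m01, m02, m03, m10, m11, m12, m13, m20, m21, m22, m23, m30, m31, m32, m33]

end Cfsg.Agent.Lib.Helper74.SU4Q3
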