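import Mathlib
import Cfsg.Prelude.Def_GeometricClasses
import Cfsg.Prelude.Def_LieClassical
import Cfsg.Agent.Lib.Helper71.Asch0
import Cfsg.Agent.Lib.Helper71.Asch5
import Cfsg.Agent.Lib.Helper74.SU4Q3Defs

/-! Project SU4 (S5784, 10u), piece Q3MON, sub-board Q3 (helper74): sub-piece `COMM`.
FILLED (helper38). Instructions were: replace the body in this ONE file (keep statement, name, namespace; you may add
imports and helper lemmas with names prefixed `q3comm_`); land on origin/main; mark the job done;
msg helper74.  Definitions: `SU4Q3Defs.lean` (`q3Z1 q3Z2 q3X1 q3X2 q3T q3Hd q3Dd`, the `GL` elements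
`gI gZ1 gZ2 gX1 gX2 gT gDd gHd`, `Rs = closure of gI, gZ1, gZ2, gX1, gX2`, `PT`, `q3xor`, `q3_finn`).
Explicit 4x4 identities: `ext a b; fin_cases a <;> fin_cases b <;> simp [q3Z1, ..., Matrix.mul_apply,
Fin.sum_univ_four]`; equalities in `GL`: `Units.ext`.

MEDIUM. The five generators commute pairwise up to the scalar `-1` (`gI` is central; `Z1 X1 = -X1 Z1`,
`Z2 X2 = -X2 Z2`, all other pairs commute).  Route: `scalars (Fin 4) F` is normal (`Cfsg.Geo.scalars_normal`)
and central; in the quotient `GL ⧸ scalars` the images of the generators commute, so the image of `Rs`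
(`MonoidHom.map_closure`) is commutative (`Subgroup.closure` of a commuting set:
`Subgroup.closureCommGroupOfComm` / closure induction), hence every commutator of elements of `Rs`
is in the kernel `scalars` (`Subgroup.commutator_le`).  Alternative: show by closure induction that
every `g ∈ Rs` satisfies `∀ s ∈ gens, g * s * g⁻¹ * s⁻¹ ∈ {1, -1}`-type statements. -/

set_option autoImplicit false

namespace Cfsg.Agent.Lib.Helper74.SU4Q3

open Matrix Cfsg.Geo Cfsg.Agent.Lib.Helper71.Asch

variable {F : Type*} [Field F] [Fintype F]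

theorem q3_comm (i : F) (hi : i * i = -1) : ⁅Rs i hi, Rs i hi⁆ ≤ scalars (Fin 4) F := by
  classical
  have hm1 : (-1 : GL (Fin 4) F) ∈ scalars (Fin 4) F := by
    rw [mem_scalars_iff]
    exact ⟨-1, by simp⟩
  have hker : ∀ g : GL (Fin 4) F, g ∈ scalars (Fin 4) F →
      QuotientGroup.mk' (scalars (Fin 4) F) g = 1 := by
    intro g hg
    have : g ∈ (QuotientGroup.mk' (scalars (Fin 4) F)).ker := by
      rw [QuotientGroup.ker_mk']; exact hg
    exact MonoidHom.mem_ker.1 this
  have hneg : ∀ x : GL (Fin 4) F, QuotientGroup.mk' (scalars (Fin 4) F) (-x) =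
      QuotientGroup.mk' (scalars (Fin 4) F) x := by
    intro x
    rw [← neg_one_mul, map_mul, hker _ hm1, one_mul]
  -- commutation of the generators modulo scalars
  have cI : ∀ b : GL (Fin 4) F, Commute (QuotientGroup.mk' (scalars (Fin 4) F) (gI i hi))
      (QuotientGroup.mk' (scalars (Fin 4) F) b) := by
    intro b
    have e : gI i hi * b = b * gI i hi := by
      apply Units.ext
      rw [Units.val_mul, Units.val_mul]
      show (i • (1 : Matrix (Fin 4) (Fin 4) F)) * b.1 = b.1 * (i • (1 : Matrix (Fin 4) (Fin 4) F))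
      rw [Matrix.smul_mul, Matrix.mul_smul, Matrix.one_mul, Matrix.mul_one]
    show _ * _ = _ * _
    rw [← map_mul, ← map_mul, e]
  have c12 : Commute (QuotientGroup.mk' (scalars (Fin 4) F) (gZ1 F))
      (QuotientGroup.mk' (scalars (Fin 4) F) (gZ2 F)) := by
    have e : gZ1 F * gZ2 F = gZ2 F * gZ1 F := by
      apply Units.ext
      rw [Units.val_mul, Units.val_mul]
      show q3Z1 F * q3Z2 F = q3Z2 F * q3Z1 F
      ext a b
      fin_cases a <;> fin_cases b <;> simp [q3Z1, q3Z2, Matrix.mul_apply, Fin.sum_univ_four]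
    show _ * _ = _ * _
    rw [← map_mul, ← map_mul, e]
  have c1x1 : Commute (QuotientGroup.mk' (scalars (Fin 4) F) (gZ1 F))
      (QuotientGroup.mk' (scalars (Fin 4) F) (gX1 F)) := by
    have e : gZ1 F * gX1 F = -(gX1 F * gZ1 F) := by
      apply Units.ext
      rw [Units.val_neg, Units.val_mul, Units.val_mul]
      show q3Z1 F * q3X1 F = -(q3X1 F * q3Z1 F)
      ext a b
      fin_cases a <;> fin_cases b <;> simp [q3Z1, q3X1, Matrix.mul_apply, Fin.sum_univ_four]
    show _ * _ = _ * _
    rw [← map_mul, ← map_mul, e, hneg]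
  have c1x2 : Commute (QuotientGroup.mk' (scalars (Fin 4) F) (gZ1 F))
      (QuotientGroup.mk' (scalars (Fin 4) F) (gX2 F)) := by
    have e : gZ1 F * gX2 F = gX2 F * gZ1 F := by
      apply Units.ext
      rw [Units.val_mul, Units.val_mul]
      show q3Z1 F * q3X2 F = q3X2 F * q3Z1 F
      ext a b
      fin_cases a <;> fin_cases b <;> simp [q3Z1, q3X2, Matrix.mul_apply, Fin.sum_univ_four]
    show _ * _ = _ * _
    rw [← map_mul, ← map_mul, e]
  have c2x1 : Commute (QuotientGroup.mk' (scalars (Fin 4) F) (gZ2 F))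
      (QuotientGroup.mk' (scalars (Fin 4) F) (gX1 F)) := by
    have e : gZ2 F * gX1 F = gX1 F * gZ2 F := by
      apply Units.ext
      rw [Units.val_mul, Units.val_mul]
      show q3Z2 F * q3X1 F = q3X1 F * q3Z2 F
      ext a b
      fin_cases a <;> fin_cases b <;> simp [q3Z2, q3X1, Matrix.mul_apply, Fin.sum_univ_four]
    show _ * _ = _ * _
    rw [← map_mul, ← map_mul, e]
  have c2x2 : Commute (QuotientGroup.mk' (scalars (Fin 4) F) (gZ2 F))
      (QuotientGroup.mk' (scalars (Fin 4) F) (gX2 F)) := by
    have e : gZ2 F * gX2 F = -(gX2 F * gZ2 F) := by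
      apply Units.ext
      rw [Units.val_neg, Units.val_mul, Units.val_mul]
      show q3Z2 F * q3X2 F = -(q3X2 F * q3Z2 F)
      ext a b
      fin_cases a <;> fin_cases b <;> simp [q3Z2, q3X2, Matrix.mul_apply, Fin.sum_univ_four]
    show _ * _ = _ * _
    rw [← map_mul, ← map_mul, e, hneg]
  have cx1x2 : Commute (QuotientGroup.mk' (scalars (Fin 4) F) (gX1 F))
      (QuotientGroup.mk' (scalars (Fin 4) F) (gX2 F)) := by
    have e : gX1 F * gX2 F = gX2 F * gX1 F := by
      apply Units.ext
      rw [Units.val_mul, Units.val_mul]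
      show q3X1 F * q3X2 F = q3X2 F * q3X1 F
      ext a b
      fin_cases a <;> fin_cases b <;> simp [q3X1, q3X2, Matrix.mul_apply, Fin.sum_univ_four]
    show _ * _ = _ * _
    rw [← map_mul, ← map_mul, e]
  have hgen : ∀ a ∈ ({gI i hi, gZ1 F, gZ2 F, gX1 F, gX2 F} : Set (GL (Fin 4) F)),
      ∀ b ∈ ({gI i hi, gZ1 F, gZ2 F, gX1 F, gX2 F} : Set (GL (Fin 4) F)),
      Commute (QuotientGroup.mk' (scalars (Fin 4) F) a)
        (QuotientGroup.mk' (scalars (Fin 4) F) b) := by
    intro a ha b hb
    simp only [Set.mem_insert_iff, Set.mem_singleton_iff] at ha hb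
    rcases ha with rfl | rfl | rfl | rfl | rfl
    · exact cI b
    · rcases hb with rfl | rfl | rfl | rfl | rfl
      · exact (cI _).symm
      · exact Commute.refl _
      · exact c12
      · exact c1x1
      · exact c1x2
    · rcases hb with rfl | rfl | rfl | rfl | rfl
      · exact (cI _).symm
      · exact c12.symm
      · exact Commute.refl _
      · exact c2x1
      · exact c2x2
    · rcases hb with rfl | rfl | rfl | rfl | rfl
      · exact (cI _).symm
      · exact c1x1.symm
      · exact c2x1.symm
      · exact Commute.refl _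
      · exact cx1x2
    · rcases hb with rfl | rfl | rfl | rfl | rfl
      · exact (cI _).symm
      · exact c1x2.symm
      · exact c2x2.symm
      · exact cx1x2.symm
      · exact Commute.refl _
  have hcomm1 : ∀ y ∈ Rs i hi, ∀ a ∈ ({gI i hi, gZ1 F, gZ2 F, gX1 F, gX2 F} : Set (GL (Fin 4) F)),
      Commute (QuotientGroup.mk' (scalars (Fin 4) F) a)
        (QuotientGroup.mk' (scalars (Fin 4) F) y) := by
    intro y hy a ha
    unfold Rs at hy
    induction hy using Subgroup.closure_induction with
    | mem b hb => exact hgen a ha b hb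
    | one => rw [map_one]; exact Commute.one_right _
    | mul u v _ _ hu hv => rw [map_mul]; exact Commute.mul_right hu hv
    | inv u _ hu => rw [map_inv]; exact Commute.inv_right hu
  have hcomm : ∀ x ∈ Rs i hi, ∀ y ∈ Rs i hi,
      Commute (QuotientGroup.mk' (scalars (Fin 4) F) x)
        (QuotientGroup.mk' (scalars (Fin 4) F) y) := by
    intro x hx y hy
    unfold Rs at hx
    induction hx using Subgroup.closure_induction with
    | mem a ha => exact hcomm1 y hy a ha
    | one => rw [map_one]; exact Commute.one_left _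
    | mul u v _ _ hu hv => rw [map_mul]; exact Commute.mul_left hu hv
    | inv u _ hu => rw [map_inv]; exact Commute.inv_left hu
  rw [Subgroup.commutator_le]
  intro x hx y hy
  have hk : x * y * x⁻¹ * y⁻¹ ∈ (QuotientGroup.mk' (scalars (Fin 4) F)).ker := by
    rw [MonoidHom.mem_ker, map_mul, map_mul, map_mul, map_inv, map_inv,
      (hcomm x hx y hy).eq]
    group
  rw [QuotientGroup.ker_mk'] at hk
  rw [commutatorElement_def]
  exact hk

end Cfsg.Agent.Lib.Helper74.SU4Q3
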