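import Mathlib
import Cfsg.Prelude.Def_GeometricClasses
import Cfsg.Prelude.Def_LieClassical
import Cfsg.Agent.Lib.Helper71.Asch0
import Cfsg.Agent.Lib.Helper71.Asch5
import Cfsg.Agent.Lib.Helper74.SU4Q3Defs

/-! Project SU4 (S5784, 10u), piece Q3MON, sub-board Q3 (helper74): sub-piece `DCONJ`.
PLACEHOLDER: replace the `sorry` in this ONE file (keep statement, name, namespace; you may add
imports and helper lemmas with names prefixed `q3dconj_`); land on origin/main; mark the job done;
msg helper74.  Definitions: `SU4Q3Defs.lean` (`q3Z1 q3Z2 q3X1 q3X2 q3T q3Hd q3Dd`, the `GL` elements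
`gI gZ1 gZ2 gX1 gX2 gT gDd gHd`, `Rs = closure of gI, gZ1, gZ2, gX1, gX2`, `PT`, `q3xor`, `q3_finn`).
Explicit 4x4 identities: `ext a b; fin_cases a <;> fin_cases b <;> simp [q3Z1, ..., Matrix.mul_apply,
Fin.sum_univ_four]`; equalities in `GL`: `Units.ext`.

EASY-MEDIUM. For each `t`: the 12 entries `a j k` with `j ≠ q3xor t k` are `0` (`by_contra` + `ha` +
`decide`/`simp [q3xor]`); then `ext j k; fin_cases j <;> fin_cases k <;>
simp [q3Dd, q3Z1, q3Z2, Matrix.mul_apply, Fin.sum_univ_four, ...]`, remaining goals are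
`a j k = (-i) * i * a j k`-type identities closed with `hi` (`linear_combination (±a j k) * hi`).
(Verified numerically over `F_9`.) -/

set_option autoImplicit false

namespace Cfsg.Agent.Lib.Helper74.SU4Q3

open Matrix Cfsg.Geo Cfsg.Agent.Lib.Helper71.Asch

variable {F : Type*} [Field F] [Fintype F]

theorem q3_dconj (i : F) (hi : i * i = -1) (a : Matrix (Fin 4) (Fin 4) F) (t : Fin 4)
    (ha : ∀ j k, a j k ≠ 0 → j = q3xor t k) :
    (t = 1 → q3Dd i * a = q3Z1 F * a * q3Dd i) ∧
    (t = 2 → q3Dd i * a = ((-i) • (q3Z1 F * q3Z2 F)) * a * q3Dd i) ∧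
    (t = 3 → q3Dd i * a = (i • q3Z2 F) * a * q3Dd i) := by
  have hz : ∀ j k, j ≠ q3xor t k → a j k = 0 := fun j k h => by
    by_contra h'
    exact h (ha j k h')
  refine ⟨?_, ?_, ?_⟩
  · rintro rfl
    have z00 : a 0 0 = 0 := hz 0 0 (by decide)
    have z02 : a 0 2 = 0 := hz 0 2 (by decide)
    have z03 : a 0 3 = 0 := hz 0 3 (by decide)
    have z11 : a 1 1 = 0 := hz 1 1 (by decide)
    have z12 : a 1 2 = 0 := hz 1 2 (by decide)
    have z13 : a 1 3 = 0 := hz 1 3 (by decide)
    have z20 : a 2 0 = 0 := hz 2 0 (by decide)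
    have z21 : a 2 1 = 0 := hz 2 1 (by decide)
    have z22 : a 2 2 = 0 := hz 2 2 (by decide)
    have z30 : a 3 0 = 0 := hz 3 0 (by decide)
    have z31 : a 3 1 = 0 := hz 3 1 (by decide)
    have z33 : a 3 3 = 0 := hz 3 3 (by decide)
    ext j k
    fin_cases j <;> fin_cases k <;>
      simp only [Matrix.mul_apply, Fin.sum_univ_four, Matrix.smul_apply, smul_eq_mul] <;>
      simp [q3Dd, q3Z1, q3Z2, z00, z02, z03, z11, z12, z13, z20, z21, z22, z30, z31, z33] <;>
      first | ring1 | linear_combination (a 0 1) * hi | linear_combination (-(a 0 1)) * hi | linear_combination (a 1 0) * hi | linear_combination (-(a 1 0)) * hi | linear_combination (a 2 3) * hi | linear_combination (-(a 2 3)) * hi | linear_combination (a 3 2) * hi | linear_combination (-(a 3 2)) * hi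
  · rintro rfl
    have z00 : a 0 0 = 0 := hz 0 0 (by decide)
    have z01 : a 0 1 = 0 := hz 0 1 (by decide)
    have z03 : a 0 3 = 0 := hz 0 3 (by decide)
    have z10 : a 1 0 = 0 := hz 1 0 (by decide)
    have z11 : a 1 1 = 0 := hz 1 1 (by decide)
    have z12 : a 1 2 = 0 := hz 1 2 (by decide)
    have z21 : a 2 1 = 0 := hz 2 1 (by decide)
    have z22 : a 2 2 = 0 := hz 2 2 (by decide)
    have z23 : a 2 3 = 0 := hz 2 3 (by decide)
    have z30 : a 3 0 = 0 := hz 3 0 (by decide)
    have z32 : a 3 2 = 0 := hz 3 2 (by decide)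
    have z33 : a 3 3 = 0 := hz 3 3 (by decide)
    ext j k
    fin_cases j <;> fin_cases k <;>
      simp only [Matrix.mul_apply, Fin.sum_univ_four, Matrix.smul_apply, smul_eq_mul] <;>
      simp [q3Dd, q3Z1, q3Z2, z00, z01, z03, z10, z11, z12, z21, z22, z23, z30, z32, z33] <;>
      first | ring1 | linear_combination (a 0 2) * hi | linear_combination (-(a 0 2)) * hi | linear_combination (a 1 3) * hi | linear_combination (-(a 1 3)) * hi | linear_combination (a 2 0) * hi | linear_combination (-(a 2 0)) * hi | linear_combination (a 3 1) * hi | linear_combination (-(a 3 1)) * hi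
  · rintro rfl
    have z00 : a 0 0 = 0 := hz 0 0 (by decide)
    have z01 : a 0 1 = 0 := hz 0 1 (by decide)
    have z02 : a 0 2 = 0 := hz 0 2 (by decide)
    have z10 : a 1 0 = 0 := hz 1 0 (by decide)
    have z11 : a 1 1 = 0 := hz 1 1 (by decide)
    have z13 : a 1 3 = 0 := hz 1 3 (by decide)
    have z20 : a 2 0 = 0 := hz 2 0 (by decide)
    have z22 : a 2 2 = 0 := hz 2 2 (by decide)
    have z23 : a 2 3 = 0 := hz 2 3 (by decide)
    have z31 : a 3 1 = 0 := hz 3 1 (by decide)
    have z32 : a 3 2 = 0 := hz 3 2 (by decide)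
    have z33 : a 3 3 = 0 := hz 3 3 (by decide)
    ext j k
    fin_cases j <;> fin_cases k <;>
      simp only [Matrix.mul_apply, Fin.sum_univ_four, Matrix.smul_apply, smul_eq_mul] <;>
      simp [q3Dd, q3Z1, q3Z2, z00, z01, z02, z10, z11, z13, z20, z22, z23, z31, z32, z33] <;>
      first | ring1 | linear_combination (a 0 3) * hi | linear_combination (-(a 0 3)) * hi | linear_combination (a 1 2) * hi | linear_combination (-(a 1 2)) * hi | linear_combination (a 2 1) * hi | linear_combination (-(a 2 1)) * hi | linear_combination (a 3 0) * hi | linear_combination (-(a 3 0)) * hi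

end Cfsg.Agent.Lib.Helper74.SU4Q3
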