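import Mathlib
import Cfsg.Prelude.Def_GeometricClasses
import Cfsg.Prelude.Def_LieClassical
import Cfsg.Agent.Lib.Helper71.Asch0
import Cfsg.Agent.Lib.Helper71.Asch5
import Cfsg.Agent.Lib.Helper74.SU4Q3Defs

/-! Project SU4 (S5784, 10u), piece Q3MON, sub-board Q3 (helper74): sub-piece `DNORM`.
FILLED by helper66 (job 4730; statement, name, namespace unchanged; helper lemmas prefixed
`q3dnorm_`).  Definitions: `SU4Q3Defs.lean` (`q3Z1 q3Z2 q3X1 q3X2 q3T q3Hd q3Dd`, the `GL` elements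
`gI gZ1 gZ2 gX1 gX2 gT gDd gHd`, `Rs = closure of gI, gZ1, gZ2, gX1, gX2`, `PT`, `q3xor`, `q3_finn`).
Explicit 4x4 identities: `ext a b; fin_cases a <;> fin_cases b <;> simp [q3Z1, ..., Matrix.mul_apply,
Fin.sum_univ_four]`; equalities in `GL`: `Units.ext`.

EASY-MEDIUM. As elements of `GL`: `gDd` commutes with `gI`, `gZ1`, `gZ2` (diagonal);
`gDd * gX2 = (gZ1 * gX2) * gDd`; `gDd * gX1 = (gI ^ 3 * gZ1 * gZ2 * gX1) * gDd`
(matrix: `Dd * X1 = ((-i) • (Z1 * Z2)) * X1 * Dd`; `gI ^ 3` has matrix `(i*i*i) • 1 = (-i) • 1`).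
`Units.ext` + explicit 4x4 identities (use `hi`); then `mul_inv_eq_of_eq_mul`; right sides are in the
closure.  (Verified numerically over `F_9`.) -/

set_option autoImplicit false
set_option linter.unusedSectionVars false

namespace Cfsg.Agent.Lib.Helper74.SU4Q3

open Matrix Cfsg.Geo Cfsg.Agent.Lib.Helper71.Asch

variable {F : Type*} [Field F] [Fintype F]

theorem q3dnorm_gI_mem (i : F) (hi : i * i = -1) : gI i hi ∈ Rs i hi :=
  Subgroup.subset_closure (by simp)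

theorem q3dnorm_gZ1_mem (i : F) (hi : i * i = -1) : gZ1 F ∈ Rs i hi :=
  Subgroup.subset_closure (by simp)

theorem q3dnorm_gZ2_mem (i : F) (hi : i * i = -1) : gZ2 F ∈ Rs i hi :=
  Subgroup.subset_closure (by simp)

theorem q3dnorm_gX1_mem (i : F) (hi : i * i = -1) : gX1 F ∈ Rs i hi :=
  Subgroup.subset_closure (by simp)

theorem q3dnorm_gX2_mem (i : F) (hi : i * i = -1) : gX2 F ∈ Rs i hi :=
  Subgroup.subset_closure (by simp)

theorem q3dnorm_comm_I (i : F) (hi : i * i = -1) : gDd i hi * gI i hi = gI i hi * gDd i hi := by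
  apply Units.ext
  change q3Dd i * (i • (1 : Matrix (Fin 4) (Fin 4) F)) = (i • (1 : Matrix (Fin 4) (Fin 4) F)) * q3Dd i
  rw [Matrix.mul_smul, Matrix.smul_mul, Matrix.mul_one, Matrix.one_mul]

theorem q3dnorm_comm_Z1 (i : F) (hi : i * i = -1) : gDd i hi * gZ1 F = gZ1 F * gDd i hi := by
  apply Units.ext
  change q3Dd i * q3Z1 F = q3Z1 F * q3Dd i
  ext a b
  fin_cases a <;> fin_cases b <;> simp [q3Dd, q3Z1, Matrix.mul_apply, Fin.sum_univ_four]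

theorem q3dnorm_comm_Z2 (i : F) (hi : i * i = -1) : gDd i hi * gZ2 F = gZ2 F * gDd i hi := by
  apply Units.ext
  change q3Dd i * q3Z2 F = q3Z2 F * q3Dd i
  ext a b
  fin_cases a <;> fin_cases b <;> simp [q3Dd, q3Z2, Matrix.mul_apply, Fin.sum_univ_four]

theorem q3dnorm_X2 (i : F) (hi : i * i = -1) :
    gDd i hi * gX2 F = (gZ1 F * gX2 F) * gDd i hi := by
  apply Units.ext
  change q3Dd i * q3X2 F = (q3Z1 F * q3X2 F) * q3Dd i
  ext a b
  fin_cases a <;> fin_cases b <;>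
    simp [q3Dd, q3Z1, q3X2, Matrix.mul_apply, Fin.sum_univ_four]

theorem q3dnorm_I3 (i : F) (hi : i * i = -1) :
    (i • (1 : Matrix (Fin 4) (Fin 4) F)) * (i • (1 : Matrix (Fin 4) (Fin 4) F)) *
      (i • (1 : Matrix (Fin 4) (Fin 4) F)) = (-i) • (1 : Matrix (Fin 4) (Fin 4) F) := by
  rw [Matrix.smul_mul, Matrix.one_mul, smul_smul, Matrix.smul_mul, Matrix.one_mul, smul_smul, hi]
  congr 1
  ring

theorem q3dnorm_X1 (i : F) (hi : i * i = -1) :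
    gDd i hi * gX1 F =
      (gI i hi * gI i hi * gI i hi * gZ1 F * gZ2 F * gX1 F) * gDd i hi := by
  apply Units.ext
  change q3Dd i * q3X1 F =
    ((i • (1 : Matrix (Fin 4) (Fin 4) F)) * (i • (1 : Matrix (Fin 4) (Fin 4) F)) *
      (i • (1 : Matrix (Fin 4) (Fin 4) F)) * q3Z1 F * q3Z2 F * q3X1 F) * q3Dd i
  rw [q3dnorm_I3 i hi]
  ext a b
  fin_cases a <;> fin_cases b <;>
    simp [q3Dd, q3Z1, q3Z2, q3X1, Matrix.mul_apply, Fin.sum_univ_four, hi]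

theorem q3_dnorm (i : F) (hi : i * i = -1) :
    gDd i hi * gI i hi * (gDd i hi)⁻¹ ∈ Rs i hi ∧ gDd i hi * gZ1 F * (gDd i hi)⁻¹ ∈ Rs i hi ∧
    gDd i hi * gZ2 F * (gDd i hi)⁻¹ ∈ Rs i hi ∧ gDd i hi * gX1 F * (gDd i hi)⁻¹ ∈ Rs i hi ∧
    gDd i hi * gX2 F * (gDd i hi)⁻¹ ∈ Rs i hi := by
  have hI := q3dnorm_gI_mem i hi
  have hZ1 := q3dnorm_gZ1_mem i hi
  have hZ2 := q3dnorm_gZ2_mem i hi
  have hX1 := q3dnorm_gX1_mem i hi
  have hX2 := q3dnorm_gX2_mem i hi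
  refine ⟨?_, ?_, ?_, ?_, ?_⟩
  · rw [mul_inv_eq_of_eq_mul (q3dnorm_comm_I i hi)]
    exact hI
  · rw [mul_inv_eq_of_eq_mul (q3dnorm_comm_Z1 i hi)]
    exact hZ1
  · rw [mul_inv_eq_of_eq_mul (q3dnorm_comm_Z2 i hi)]
    exact hZ2
  · rw [mul_inv_eq_of_eq_mul (q3dnorm_X1 i hi)]
    exact (Rs i hi).mul_mem ((Rs i hi).mul_mem ((Rs i hi).mul_mem ((Rs i hi).mul_mem
      ((Rs i hi).mul_mem hI hI) hI) hZ1) hZ2) hX1
  · rw [mul_inv_eq_of_eq_mul (q3dnorm_X2 i hi)]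
    exact (Rs i hi).mul_mem hZ1 hX2

end Cfsg.Agent.Lib.Helper74.SU4Q3
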