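import Mathlib
import Cfsg.Prelude.Def_GeometricClasses
import Cfsg.Prelude.Def_LieClassical
import Cfsg.Agent.Lib.Helper71.Asch0
import Cfsg.Agent.Lib.Helper71.Asch5
import Cfsg.Agent.Lib.Helper74.SU4Q3Defs

/-! Project SU4 (S5784, 10u), piece Q3MON, sub-board Q3 (helper74): sub-piece `GU` (helper95).
The 2-qubit Pauli group `Rs` preserves the hermitian form `∑ u_j v_j ^ 3`: each of the five
generators does (`Z1, Z2` change signs of coordinates, `X1, X2` permute coordinates, and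
`i * i ^ 3 = (i * i) ^ 2 = 1`). -/

set_option autoImplicit false
set_option linter.unusedSectionVars false

namespace Cfsg.Agent.Lib.Helper74.SU4Q3

open Matrix Cfsg.Geo Cfsg.Agent.Lib.Helper71.Asch

variable {F : Type*} [Field F] [Fintype F]

theorem q3gu_I (i : F) (hi : i * i = -1) (u v : Fin 4 → F) :
    Cfsg.hermForm 4 F 3 ((i • (1 : Matrix (Fin 4) (Fin 4) F)) *ᵥ u)
      ((i • (1 : Matrix (Fin 4) (Fin 4) F)) *ᵥ v) = Cfsg.hermForm 4 F 3 u v := by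
  rw [Matrix.smul_mulVec, Matrix.smul_mulVec, Matrix.one_mulVec, Matrix.one_mulVec]
  simp only [Cfsg.hermForm, Fin.sum_univ_four, Pi.smul_apply, smul_eq_mul]
  linear_combination ((i * i - 1) *
    (u 0 * v 0 ^ 3 + u 1 * v 1 ^ 3 + u 2 * v 2 ^ 3 + u 3 * v 3 ^ 3)) * hi

theorem q3gu_Z1 (u v : Fin 4 → F) :
    Cfsg.hermForm 4 F 3 (q3Z1 F *ᵥ u) (q3Z1 F *ᵥ v) = Cfsg.hermForm 4 F 3 u v := by
  simp [Cfsg.hermForm, Matrix.mulVec, dotProduct, Fin.sum_univ_four, q3Z1] <;> ring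

theorem q3gu_Z2 (u v : Fin 4 → F) :
    Cfsg.hermForm 4 F 3 (q3Z2 F *ᵥ u) (q3Z2 F *ᵥ v) = Cfsg.hermForm 4 F 3 u v := by
  simp [Cfsg.hermForm, Matrix.mulVec, dotProduct, Fin.sum_univ_four, q3Z2] <;> ring

theorem q3gu_X1 (u v : Fin 4 → F) :
    Cfsg.hermForm 4 F 3 (q3X1 F *ᵥ u) (q3X1 F *ᵥ v) = Cfsg.hermForm 4 F 3 u v := by
  simp [Cfsg.hermForm, Matrix.mulVec, dotProduct, Fin.sum_univ_four, q3X1] <;> ring

theorem q3gu_X2 (u v : Fin 4 → F) :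
    Cfsg.hermForm 4 F 3 (q3X2 F *ᵥ u) (q3X2 F *ᵥ v) = Cfsg.hermForm 4 F 3 u v := by
  simp [Cfsg.hermForm, Matrix.mulVec, dotProduct, Fin.sum_univ_four, q3X2] <;> ring

theorem q3_gu (i : F) (hi : i * i = -1) : Rs i hi ≤ Cfsg.GU 4 F 3 := by
  unfold Rs
  rw [Subgroup.closure_le]
  intro g hg
  show ∀ u v, Cfsg.hermForm 4 F 3 (Units.coeHom (Matrix (Fin 4) (Fin 4) F) g *ᵥ u)
    (Units.coeHom (Matrix (Fin 4) (Fin 4) F) g *ᵥ v) = Cfsg.hermForm 4 F 3 u v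
  intro u v
  rw [Units.coeHom_apply]
  simp only [Set.mem_insert_iff, Set.mem_singleton_iff] at hg
  rcases hg with rfl | rfl | rfl | rfl | rfl
  · exact q3gu_I i hi u v
  · exact q3gu_Z1 u v
  · exact q3gu_Z2 u v
  · exact q3gu_X1 u v
  · exact q3gu_X2 u v

end Cfsg.Agent.Lib.Helper74.SU4Q3
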