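import Mathlib
import Cfsg.Prelude.Def_GeometricClasses
import Cfsg.Prelude.Def_LieClassical
import Cfsg.Agent.Lib.Helper71.Asch0
import Cfsg.Agent.Lib.Helper71.Asch5
import Cfsg.Agent.Lib.Helper74.SU4Q3Defs

/-! Project SU4 (S5784, 10u), piece Q3MON, sub-board Q3 (helper74): sub-piece `HNORM`
(filled in by helper11).  Definitions: `SU4Q3Defs.lean` (`q3Z1 q3Z2 q3X1 q3X2 q3T q3Hd q3Dd`, the `GL` elements
`gI gZ1 gZ2 gX1 gX2 gT gDd gHd`, `Rs = closure of gI, gZ1, gZ2, gX1, gX2`, `PT`, `q3xor`, `q3_finn`).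
Explicit 4x4 identities: `ext a b; fin_cases a <;> fin_cases b <;> simp [q3Z1, ..., Matrix.mul_apply,
Fin.sum_univ_four]`; equalities in `GL`: `Units.ext`.

EASY. As elements of `GL`: `gHd * gI = gI * gHd`, `gHd * gZ1 = gX1 * gHd`, `gHd * gZ2 = gZ2 * gHd`,
`gHd * gX1 = gZ1 * gHd`, `gHd * gX2 = gX2 * gHd` (`Units.ext` + explicit 4x4 identities, no `h3`
needed for these); then `mul_inv_eq_of_eq_mul`; right sides are generators.  (Verified numerically.) -/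

set_option autoImplicit false

namespace Cfsg.Agent.Lib.Helper74.SU4Q3

open Matrix Cfsg.Geo Cfsg.Agent.Lib.Helper71.Asch

variable {F : Type*} [Field F] [Fintype F]

theorem q3hnorm_I (i : F) (hi : i * i = -1) (h3 : (3 : F) = 0) :
    gHd h3 * gI i hi = gI i hi * gHd h3 := by
  apply Units.ext
  show q3Hd F * (i • (1 : Matrix (Fin 4) (Fin 4) F)) = (i • (1 : Matrix (Fin 4) (Fin 4) F)) * q3Hd F
  rw [Matrix.mul_smul, Matrix.mul_one, Matrix.smul_mul, Matrix.one_mul]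

theorem q3hnorm_Z1 (h3 : (3 : F) = 0) : gHd h3 * gZ1 F = gX1 F * gHd h3 := by
  apply Units.ext
  show q3Hd F * q3Z1 F = q3X1 F * q3Hd F
  ext a b
  fin_cases a <;> fin_cases b <;>
    simp [q3Hd, q3Z1, q3X1, Matrix.mul_apply, Fin.sum_univ_four]

theorem q3hnorm_Z2 (h3 : (3 : F) = 0) : gHd h3 * gZ2 F = gZ2 F * gHd h3 := by
  apply Units.ext
  show q3Hd F * q3Z2 F = q3Z2 F * q3Hd F
  ext a b
  fin_cases a <;> fin_cases b <;>
    simp [q3Hd, q3Z2, Matrix.mul_apply, Fin.sum_univ_four]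

theorem q3hnorm_X1 (h3 : (3 : F) = 0) : gHd h3 * gX1 F = gZ1 F * gHd h3 := by
  apply Units.ext
  show q3Hd F * q3X1 F = q3Z1 F * q3Hd F
  ext a b
  fin_cases a <;> fin_cases b <;>
    simp [q3Hd, q3Z1, q3X1, Matrix.mul_apply, Fin.sum_univ_four]

theorem q3hnorm_X2 (h3 : (3 : F) = 0) : gHd h3 * gX2 F = gX2 F * gHd h3 := by
  apply Units.ext
  show q3Hd F * q3X2 F = q3X2 F * q3Hd F
  ext a b
  fin_cases a <;> fin_cases b <;>
    simp [q3Hd, q3X2, Matrix.mul_apply, Fin.sum_univ_four]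

theorem q3_hnorm (i : F) (hi : i * i = -1) (h3 : (3 : F) = 0) :
    gHd h3 * gI i hi * (gHd h3)⁻¹ ∈ Rs i hi ∧ gHd h3 * gZ1 F * (gHd h3)⁻¹ ∈ Rs i hi ∧
    gHd h3 * gZ2 F * (gHd h3)⁻¹ ∈ Rs i hi ∧ gHd h3 * gX1 F * (gHd h3)⁻¹ ∈ Rs i hi ∧
    gHd h3 * gX2 F * (gHd h3)⁻¹ ∈ Rs i hi := by
  have mI : gI i hi ∈ Rs i hi := Subgroup.subset_closure (Set.mem_insert _ _)
  have mZ1 : gZ1 F ∈ Rs i hi :=
    Subgroup.subset_closure (Set.mem_insert_of_mem _ (Set.mem_insert _ _))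
  have mZ2 : gZ2 F ∈ Rs i hi :=
    Subgroup.subset_closure (Set.mem_insert_of_mem _ (Set.mem_insert_of_mem _ (Set.mem_insert _ _)))
  have mX1 : gX1 F ∈ Rs i hi :=
    Subgroup.subset_closure (Set.mem_insert_of_mem _ (Set.mem_insert_of_mem _
      (Set.mem_insert_of_mem _ (Set.mem_insert _ _))))
  have mX2 : gX2 F ∈ Rs i hi :=
    Subgroup.subset_closure (Set.mem_insert_of_mem _ (Set.mem_insert_of_mem _
      (Set.mem_insert_of_mem _ (Set.mem_insert_of_mem _ (Set.mem_singleton _)))))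
  refine ⟨?_, ?_, ?_, ?_, ?_⟩
  · rw [mul_inv_eq_of_eq_mul (q3hnorm_I i hi h3)]
    exact mI
  · rw [mul_inv_eq_of_eq_mul (q3hnorm_Z1 h3)]
    exact mX1
  · rw [mul_inv_eq_of_eq_mul (q3hnorm_Z2 h3)]
    exact mZ2
  · rw [mul_inv_eq_of_eq_mul (q3hnorm_X1 h3)]
    exact mZ1
  · rw [mul_inv_eq_of_eq_mul (q3hnorm_X2 h3)]
    exact mX2

end Cfsg.Agent.Lib.Helper74.SU4Q3
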