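import Mathlib
import Cfsg.Prelude.Def_GeometricClasses
import Cfsg.Prelude.Def_LieClassical
import Cfsg.Agent.Lib.Helper71.Asch0
import Cfsg.Agent.Lib.Helper71.Asch5
import Cfsg.Agent.Lib.Helper74.SU4Q3Defs

/-! Project SU4 (S5784, 10u), piece Q3MON, sub-board Q3 (helper74): sub-piece `IRR`.
FILLED by helper2 (job 4720; helper lemmas prefixed `q3irr_`).  Definitions: `SU4Q3Defs.lean` (`q3Z1 q3Z2 q3X1 q3X2 q3T q3Hd q3Dd`, the `GL` elements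
`gI gZ1 gZ2 gX1 gX2 gT gDd gHd`, `Rs = closure of gI, gZ1, gZ2, gX1, gX2`, `PT`, `q3xor`, `q3_finn`).
Explicit 4x4 identities: `ext a b; fin_cases a <;> fin_cases b <;> simp [q3Z1, ..., Matrix.mul_apply,
Fin.sum_univ_four]`; equalities in `GL`: `Units.ext`.

MEDIUM. `ActsIrreducibly S := ∀ W, (∀ s ∈ S, W.map (Matrix.toLin' s) ≤ W) → W = ⊥ ∨ W = ⊤`.
`q3Z1 F, q3Z2 F, q3X1 F, q3X2 F ∈ matrixSet (Rs i hi)` (images of `gZ1 F` etc., which are in the closure).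
Let `W ≠ ⊥` be invariant, `w ∈ W`, `w k ≠ 0` for some `k`.  `W` is closed under `Z1 *ᵥ ·`, `Z2 *ᵥ ·`,
`X1 *ᵥ ·`, `X2 *ᵥ ·`.  The vector `w ± Z1 w ± Z2 w + (±)(±) Z1 Z2 w` (signs = the signs of `Z1`, `Z2`
at `k`) equals `4 • w k • e_k`, so `e_k = Pi.single k 1 ∈ W` (`4 = 2 * 2 ≠ 0`); then `X1`, `X2`
give all four `Pi.single j 1 ∈ W`, so `W = ⊤` (every `v = ∑ j, v j • Pi.single j 1`). -/

set_option autoImplicit false

namespace Cfsg.Agent.Lib.Helper74.SU4Q3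

open Matrix Cfsg.Geo Cfsg.Agent.Lib.Helper71.Asch

variable {F : Type*} [Field F] [Fintype F]

omit [Fintype F] in
theorem q3irr_mulVec_mem {W : Submodule F (Fin 4 → F)} {S : Set (Matrix (Fin 4) (Fin 4) F)}
    (hW : ∀ s ∈ S, W.map (Matrix.toLin' s) ≤ W) {s : Matrix (Fin 4) (Fin 4) F} (hs : s ∈ S)
    {w : Fin 4 → F} (hw : w ∈ W) : s *ᵥ w ∈ W := by
  have h1 := hW s hs (Submodule.mem_map_of_mem hw)
  rwa [Matrix.toLin'_apply] at h1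

omit [Fintype F] in
theorem q3irr_mulVec_apply (M : Matrix (Fin 4) (Fin 4) F) (w : Fin 4 → F) (j : Fin 4) :
    (M *ᵥ w) j = M j 0 * w 0 + M j 1 * w 1 + M j 2 * w 2 + M j 3 * w 3 := by
  show ∑ k, M j k * w k = _
  rw [Fin.sum_univ_four]

omit [Fintype F] in
theorem q3irr_proj (w : Fin 4 → F) :
    w + q3Z1 F *ᵥ w + q3Z2 F *ᵥ w + q3Z1 F *ᵥ (q3Z2 F *ᵥ w) = (4 * w 0) • Pi.single 0 1 ∧
    w + q3Z1 F *ᵥ w - q3Z2 F *ᵥ w - q3Z1 F *ᵥ (q3Z2 F *ᵥ w) = (4 * w 1) • Pi.single 1 1 ∧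
    w - q3Z1 F *ᵥ w + q3Z2 F *ᵥ w - q3Z1 F *ᵥ (q3Z2 F *ᵥ w) = (4 * w 2) • Pi.single 2 1 ∧
    w - q3Z1 F *ᵥ w - q3Z2 F *ᵥ w + q3Z1 F *ᵥ (q3Z2 F *ᵥ w) = (4 * w 3) • Pi.single 3 1 := by
  have e0 : vecHead w = w 0 := rfl
  have e1 : vecHead (vecTail w) = w 1 := rfl
  have e2 : vecHead (vecTail (vecTail w)) = w 2 := rfl
  have e3 : vecHead (vecTail (vecTail (vecTail w))) = w 3 := rfl
  refine ⟨?_, ?_, ?_, ?_⟩ <;> funext j <;> fin_cases j <;>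
    simp [q3Z1, q3Z2, e0, e1, e2, e3] <;> ring

omit [Fintype F] in
theorem q3irr_X :
    q3X2 F *ᵥ Pi.single 1 1 = Pi.single 0 1 ∧ q3X1 F *ᵥ Pi.single 2 1 = Pi.single 0 1 ∧
    q3X2 F *ᵥ Pi.single 3 1 = Pi.single 2 1 ∧ q3X2 F *ᵥ Pi.single 0 1 = Pi.single 1 1 ∧
    q3X1 F *ᵥ Pi.single 0 1 = Pi.single 2 1 ∧ q3X1 F *ᵥ Pi.single 1 1 = Pi.single 3 1 := by
  refine ⟨?_, ?_, ?_, ?_, ?_, ?_⟩ <;> funext a <;> fin_cases a <;>
    simp [q3X1, q3X2]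

omit [Fintype F] in
theorem q3irr_single_mem {W : Submodule F (Fin 4 → F)} (k : Fin 4) (c : F) (hc : c ≠ 0)
    (h : c • (Pi.single k 1 : Fin 4 → F) ∈ W) : (Pi.single k 1 : Fin 4 → F) ∈ W := by
  have h1 : (Pi.single k 1 : Fin 4 → F) = c⁻¹ • (c • (Pi.single k 1 : Fin 4 → F)) := by
    rw [smul_smul, inv_mul_cancel₀ hc, one_smul]
  rw [h1]
  exact W.smul_mem _ h

theorem q3_irr (h2 : (2 : F) ≠ 0) (i : F) (hi : i * i = -1) :
    ActsIrreducibly (matrixSet (Rs i hi)) := by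
  intro W hW
  by_cases hbot : W = ⊥
  · exact Or.inl hbot
  right
  have hZ1 : q3Z1 F ∈ matrixSet (Rs i hi) :=
    ⟨gZ1 F, Subgroup.subset_closure (Set.mem_insert_of_mem _ (Set.mem_insert _ _)), rfl⟩
  have hZ2 : q3Z2 F ∈ matrixSet (Rs i hi) :=
    ⟨gZ2 F, Subgroup.subset_closure
      (Set.mem_insert_of_mem _ (Set.mem_insert_of_mem _ (Set.mem_insert _ _))), rfl⟩
  have hX1 : q3X1 F ∈ matrixSet (Rs i hi) :=
    ⟨gX1 F, Subgroup.subset_closure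
      (Set.mem_insert_of_mem _ (Set.mem_insert_of_mem _ (Set.mem_insert_of_mem _
        (Set.mem_insert _ _)))), rfl⟩
  have hX2 : q3X2 F ∈ matrixSet (Rs i hi) :=
    ⟨gX2 F, Subgroup.subset_closure
      (Set.mem_insert_of_mem _ (Set.mem_insert_of_mem _ (Set.mem_insert_of_mem _
        (Set.mem_insert_of_mem _ (Set.mem_singleton _))))), rfl⟩
  have mZ1 : ∀ w ∈ W, q3Z1 F *ᵥ w ∈ W := fun w hw => q3irr_mulVec_mem hW hZ1 hw
  have mZ2 : ∀ w ∈ W, q3Z2 F *ᵥ w ∈ W := fun w hw => q3irr_mulVec_mem hW hZ2 hw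
  have mX1 : ∀ w ∈ W, q3X1 F *ᵥ w ∈ W := fun w hw => q3irr_mulVec_mem hW hX1 hw
  have mX2 : ∀ w ∈ W, q3X2 F *ᵥ w ∈ W := fun w hw => q3irr_mulVec_mem hW hX2 hw
  obtain ⟨w, hwW, hw0⟩ := (Submodule.ne_bot_iff W).mp hbot
  obtain ⟨k, hk⟩ : ∃ k, w k ≠ 0 := by
    by_contra hcon
    push Not at hcon
    exact hw0 (funext hcon)
  have h4 : (4 : F) ≠ 0 := by
    have e : (4 : F) = 2 * 2 := by norm_num
    rw [e]
    exact mul_ne_zero h2 h2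
  obtain ⟨p0, p1, p2, p3⟩ := q3irr_proj w
  obtain ⟨x1, x2, x3, x4, x5, x6⟩ := q3irr_X (F := F)
  have hcases : ∀ k : Fin 4, k = 0 ∨ k = 1 ∨ k = 2 ∨ k = 3 := by decide
  have hz1 := mZ1 w hwW
  have hz2 := mZ2 w hwW
  have hz12 := mZ1 _ hz2
  -- the first basis vector is in `W`
  have he0 : (Pi.single 0 1 : Fin 4 → F) ∈ W := by
    rcases hcases k with rfl | rfl | rfl | rfl
    · refine q3irr_single_mem 0 (4 * w 0) (mul_ne_zero h4 hk) ?_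
      rw [← p0]
      exact W.add_mem (W.add_mem (W.add_mem hwW hz1) hz2) hz12
    · have h1 : (Pi.single 1 1 : Fin 4 → F) ∈ W := by
        refine q3irr_single_mem 1 (4 * w 1) (mul_ne_zero h4 hk) ?_
        rw [← p1]
        exact W.sub_mem (W.sub_mem (W.add_mem hwW hz1) hz2) hz12
      rw [← x1]
      exact mX2 _ h1
    · have h1 : (Pi.single 2 1 : Fin 4 → F) ∈ W := by
        refine q3irr_single_mem 2 (4 * w 2) (mul_ne_zero h4 hk) ?_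
        rw [← p2]
        exact W.sub_mem (W.add_mem (W.sub_mem hwW hz1) hz2) hz12
      rw [← x2]
      exact mX1 _ h1
    · have h1 : (Pi.single 3 1 : Fin 4 → F) ∈ W := by
        refine q3irr_single_mem 3 (4 * w 3) (mul_ne_zero h4 hk) ?_
        rw [← p3]
        exact W.add_mem (W.sub_mem (W.sub_mem hwW hz1) hz2) hz12
      have h2' : (Pi.single 2 1 : Fin 4 → F) ∈ W := by
        rw [← x3]
        exact mX2 _ h1
      rw [← x2]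
      exact mX1 _ h2'
  have he1 : (Pi.single 1 1 : Fin 4 → F) ∈ W := by
    rw [← x4]
    exact mX2 _ he0
  have he2 : (Pi.single 2 1 : Fin 4 → F) ∈ W := by
    rw [← x5]
    exact mX1 _ he0
  have he3 : (Pi.single 3 1 : Fin 4 → F) ∈ W := by
    rw [← x6]
    exact mX1 _ he1
  refine Submodule.eq_top_iff'.mpr (fun v => ?_)
  have hv : v = v 0 • (Pi.single 0 1 : Fin 4 → F) + v 1 • (Pi.single 1 1 : Fin 4 → F) +
      v 2 • (Pi.single 2 1 : Fin 4 → F) + v 3 • (Pi.single 3 1 : Fin 4 → F) := by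
    funext a
    fin_cases a <;> simp [Pi.single_apply]
  rw [hv]
  exact W.add_mem (W.add_mem (W.add_mem (W.smul_mem _ he0) (W.smul_mem _ he1))
    (W.smul_mem _ he2)) (W.smul_mem _ he3)

end Cfsg.Agent.Lib.Helper74.SU4Q3
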