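import Mathlib
import Cfsg.Prelude.Def_GeometricClasses
import Cfsg.Prelude.Def_LieClassical
import Cfsg.Agent.Lib.Helper71.Asch0
import Cfsg.Agent.Lib.Helper71.Asch5
import Cfsg.Agent.Lib.Helper74.SU4Q3Defs

/-! Project SU4 (S5784, 10u), piece Q3MON, sub-board Q3 (helper74): sub-piece `MCONJ`.
FILLED by helper65.  Definitions: `SU4Q3Defs.lean` (`q3Z1 q3Z2 q3X1 q3X2 q3T q3Hd q3Dd`, the `GL` elements
`gI gZ1 gZ2 gX1 gX2 gT gDd gHd`, `Rs = closure of gI, gZ1, gZ2, gX1, gX2`, `PT`, `q3xor`, `q3_finn`).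
Explicit 4x4 identities: `ext a b; fin_cases a <;> fin_cases b <;> simp [q3Z1, ..., Matrix.mul_apply,
Fin.sum_univ_four]`; equalities in `GL`: `Units.ext`.

HARD. `x` has data `(t, c)`.  Fact (decide): `∀ σ : Equiv.Perm (Fin 4), ∀ t : Fin 4, ∃ t' : Fin 4,
∀ l, σ (q3xor t l) = q3xor t' (σ l)` (the Klein four-group is normal in `S_4`).  Entries of `hxy` at
`(j, l)`: `(A * x) j l = a (σ.symm j) * x (σ.symm j) l` and `(y * A) j l = y j (σ l) * a l` (single
non-zero term in each sum: `Finset.sum_eq_single`), so `y j (σ l) = a (σ.symm j) * x (σ.symm j) l / a l`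
(`a l ≠ 0`), i.e. `y j k = if j = q3xor t' k then c' k else 0` with
`c' k := a (q3xor t (σ.symm k)) * c (σ.symm k) / a (σ.symm k)`.
Conditions: `c' k ^ 4 = 1` clear.  Put `η l := a l ^ 2`, so `η l ^ 2 = 1`, `η l = 1 ∨ η l = -1`, and
`η 0 * η 1 * η 2 * η 3 = 1` (`hprod`).  `c' (σ l) ^ 2 = η (q3xor t l) * η l * c 0 ^ 2` (as `1 / η = η`).
For `t = 0` this is `c 0 ^ 2`; for `t ≠ 0` the two values of `η (q3xor t l) * η l` (on the two pairs
`{l, q3xor t l}`) have product `η 0 * η 1 * η 2 * η 3 = 1` and are `±1`, so they are equal: the square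
is constant.  Product: `∏ k, c' k = ∏ l, c' (σ l) = ∏ l, a (q3xor t l) * c l / a l = ∏ c = 1`
(`q3xor t` is a permutation).  Suggestion: `fin_cases t` early; for the final product use
`Equiv.prod_comp σ` or treat `σ.symm` values abstractly. -/

set_option autoImplicit false

namespace Cfsg.Agent.Lib.Helper74.SU4Q3

open Matrix Cfsg.Geo Cfsg.Agent.Lib.Helper71.Asch

variable {F : Type*} [Field F] [Fintype F]

theorem q3mconj_xor_invol : ∀ t l : Fin 4, q3xor t (q3xor t l) = l := by decide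

theorem q3mconj_xor_zero : ∀ l : Fin 4, q3xor 0 l = l := by decide

theorem q3mconj_xor_fix : ∀ t l : Fin 4, q3xor t l = l → t = 0 := by decide

theorem q3mconj_klein : ∀ p0 p1 p2 p3 : Fin 4,
    (∀ l, ![p0, p1, p2, p3] (![p0, p1, p2, p3] l) = l) →
    ((∀ l, ![p0, p1, p2, p3] l ≠ l) ∨ (∀ l, ![p0, p1, p2, p3] l = l)) →
    ∀ l, ![p0, p1, p2, p3] l = q3xor p0 l := by decide

theorem q3mconj_klein' (f : Fin 4 → Fin 4) (h1 : ∀ l, f (f l) = l)
    (h2 : (∀ l, f l ≠ l) ∨ (∀ l, f l = l)) : ∀ l, f l = q3xor (f 0) l := by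
  have hf : ![f 0, f 1, f 2, f 3] = f := by
    funext l
    fin_cases l <;> rfl
  have key := q3mconj_klein (f 0) (f 1) (f 2) (f 3)
  rw [hf] at key
  exact key h1 h2

omit [Fintype F] in
theorem q3mconj_pairs (p q r s : F) (_hp : p ^ 2 = 1) (_hq : q ^ 2 = 1) (hr : r ^ 2 = 1)
    (hs : s ^ 2 = 1) (h : p * q * r * s = 1) : p * q = r * s := by
  linear_combination (r * s) * h - (p * q * s ^ 2) * hr - (p * q) * hs

omit [Fintype F] in
theorem q3mconj_pair (η : Fin 4 → F) (hsq : ∀ l, η l ^ 2 = 1)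
    (hprod : η 0 * η 1 * η 2 * η 3 = 1) (t l : Fin 4) :
    η (q3xor t l) * η l = η (q3xor t 0) * η 0 := by
  have h01 : η 0 * η 1 = η 2 * η 3 :=
    q3mconj_pairs _ _ _ _ (hsq 0) (hsq 1) (hsq 2) (hsq 3) (by linear_combination hprod)
  have h02 : η 0 * η 2 = η 1 * η 3 :=
    q3mconj_pairs _ _ _ _ (hsq 0) (hsq 2) (hsq 1) (hsq 3) (by linear_combination hprod)
  have h03 : η 0 * η 3 = η 1 * η 2 :=
    q3mconj_pairs _ _ _ _ (hsq 0) (hsq 3) (hsq 1) (hsq 2) (by linear_combination hprod)
  have e0 := hsq 0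
  have e1 := hsq 1
  have e2 := hsq 2
  have e3 := hsq 3
  fin_cases t <;> fin_cases l <;> simp [q3xor] <;>
    first
    | ring1
    | linear_combination h01
    | linear_combination -h01
    | linear_combination h02
    | linear_combination -h02
    | linear_combination h03
    | linear_combination -h03
    | linear_combination e1 - e0
    | linear_combination e2 - e0
    | linear_combination e3 - e0

theorem q3_mconj (h2 : (2 : F) ≠ 0) (σ : Equiv.Perm (Fin 4)) (a : Fin 4 → F)
    (A x y : Matrix (Fin 4) (Fin 4) F)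
    (hA : ∀ j k, A j k = if j = σ k then a k else 0) (ha4 : ∀ k, a k ^ 4 = 1)
    (hprod : (a 0 * a 1 * a 2 * a 3) ^ 2 = 1) (hx : PT x) (hxy : A * x = y * A) : PT y := by
  classical
  obtain ⟨t, c, hxe, hc4, hc2, hcp⟩ := hx
  have hane : ∀ k, a k ≠ 0 := by
    intro k h0
    have h := ha4 k
    rw [h0] at h
    norm_num at h
  have hπ : ∀ l, σ (q3xor t (σ.symm l)) = q3xor (σ (q3xor t (σ.symm 0))) l := by
    apply q3mconj_klein' (fun l => σ (q3xor t (σ.symm l)))
    · intro l
      simp [q3mconj_xor_invol]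
    · by_cases ht : t = 0
      · right
        intro l
        rw [ht, q3mconj_xor_zero]
        simp
      · left
        intro l hl
        apply ht
        apply q3mconj_xor_fix t (σ.symm l)
        have h := congrArg σ.symm hl
        simpa using h
  obtain ⟨t', ht'⟩ : ∃ t' : Fin 4, t' = σ (q3xor t (σ.symm 0)) := ⟨_, rfl⟩
  rw [← ht'] at hπ
  have hy : ∀ j k, y j k = if j = q3xor t' k then
      a (q3xor t (σ.symm k)) * c (σ.symm k) / a (σ.symm k) else 0 := by
    intro j k
    have h1 := congrFun (congrFun hxy j) (σ.symm k)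
    rw [Matrix.mul_apply, Matrix.mul_apply] at h1
    rw [Finset.sum_eq_single (q3xor t (σ.symm k)), Finset.sum_eq_single k] at h1
    · have e1 : x (q3xor t (σ.symm k)) (σ.symm k) = c (σ.symm k) := by rw [hxe, if_pos rfl]
      have e2 : A k (σ.symm k) = a (σ.symm k) := by
        rw [hA, if_pos (σ.apply_symm_apply k).symm]
      have e3 : A j (q3xor t (σ.symm k)) =
          if j = q3xor t' k then a (q3xor t (σ.symm k)) else 0 := by rw [hA, hπ k]
      rw [e1, e2, e3] at h1
      have hk := hane (σ.symm k)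
      by_cases hj : j = q3xor t' k
      · rw [if_pos hj] at h1 ⊢
        field_simp
        linear_combination -h1
      · rw [if_neg hj] at h1 ⊢
        rw [zero_mul] at h1
        exact (mul_eq_zero.mp h1.symm).resolve_right hk
    · intro m _ hm
      rw [hA, if_neg, mul_zero]
      intro h
      apply hm
      rw [h, Equiv.apply_symm_apply]
    · intro h
      exact absurd (Finset.mem_univ _) h
    · intro m _ hm
      rw [hxe, if_neg hm, mul_zero]
    · intro h
      exact absurd (Finset.mem_univ _) h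
  refine ⟨t', fun k => a (q3xor t (σ.symm k)) * c (σ.symm k) / a (σ.symm k), hy, ?_, ?_, ?_⟩
  · intro k
    show (a (q3xor t (σ.symm k)) * c (σ.symm k) / a (σ.symm k)) ^ 4 = 1
    rw [div_pow, mul_pow, ha4, ha4, hc4]
    norm_num
  · have hsq : ∀ l, (a (q3xor t l) * c l / a l) ^ 2 =
        (a (q3xor t l) ^ 2 * a l ^ 2) * c 0 ^ 2 := by
      intro l
      have hl := hane l
      field_simp
      linear_combination (a (q3xor t l) ^ 2) * hc2 l - (a (q3xor t l) ^ 2 * c 0 ^ 2) * ha4 l
    have hpair : ∀ l, a (q3xor t l) ^ 2 * a l ^ 2 = a (q3xor t 0) ^ 2 * a 0 ^ 2 := fun l =>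
      q3mconj_pair (fun l => a l ^ 2) (fun l => by rw [← pow_mul]; exact ha4 l)
        (by linear_combination hprod) t l
    intro k
    show (a (q3xor t (σ.symm k)) * c (σ.symm k) / a (σ.symm k)) ^ 2 =
      (a (q3xor t (σ.symm 0)) * c (σ.symm 0) / a (σ.symm 0)) ^ 2
    rw [hsq, hsq, hpair (σ.symm k), hpair (σ.symm 0)]
  · have h4 : ∀ g : Fin 4 → F, g 0 * g 1 * g 2 * g 3 = ∏ k, g k := fun g => by
      rw [Fin.prod_univ_four]
    show (fun k => a (q3xor t (σ.symm k)) * c (σ.symm k) / a (σ.symm k)) 0 *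
      (fun k => a (q3xor t (σ.symm k)) * c (σ.symm k) / a (σ.symm k)) 1 *
      (fun k => a (q3xor t (σ.symm k)) * c (σ.symm k) / a (σ.symm k)) 2 *
      (fun k => a (q3xor t (σ.symm k)) * c (σ.symm k) / a (σ.symm k)) 3 = 1
    rw [h4 (fun k => a (q3xor t (σ.symm k)) * c (σ.symm k) / a (σ.symm k)),
      Equiv.prod_comp σ.symm (fun l => a (q3xor t l) * c l / a l), Fin.prod_univ_four]
    have h0 := hane 0
    have h1 := hane 1
    have h2' := hane 2
    have h3 := hane 3
    fin_cases t <;> simp [q3xor] <;> field_simp <;>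
      first
      | linear_combination hcp
      | linear_combination (a 0 * a 1 * a 2 * a 3) * hcp

end Cfsg.Agent.Lib.Helper74.SU4Q3
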