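import Mathlib
import Cfsg.Prelude.Def_GeometricClasses
import Cfsg.Prelude.Def_LieClassical
import Cfsg.Agent.Lib.Helper71.Asch0
import Cfsg.Agent.Lib.Helper71.Asch5
import Cfsg.Agent.Lib.Helper74.SU4Q3Defs

/-! Project SU4 (S5784, 10u), piece Q3MON, sub-board Q3 (helper74): sub-piece `MEMPT`.
Filled in place by helper34 (job 4724).  Definitions: `SU4Q3Defs.lean` (`q3Z1 q3Z2 q3X1 q3X2 q3T q3Hd q3Dd`, the `GL` elements
`gI gZ1 gZ2 gX1 gX2 gT gDd gHd`, `Rs = closure of gI, gZ1, gZ2, gX1, gX2`, `PT`, `q3xor`, `q3_finn`).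
Explicit 4x4 identities: `ext a b; fin_cases a <;> fin_cases b <;> simp [q3Z1, ..., Matrix.mul_apply,
Fin.sum_univ_four]`; equalities in `GL`: `Units.ext`.

MEDIUM-HARD. Let `(t, c)` be the data.  `x ^ 4 = 1 → x = 1 ∨ x = -1 ∨ x = i ∨ x = -i`
(`(x-1)(x+1)(x-i)(x+i) = x^4 - 1` using `i*i = -1`).  `c k ^ 2 = c 0 ^ 2` gives `c k = c 0 ∨ c k = -c 0`.
With `c 0 * c 1 * c 2 * c 3 = 1` and `c 0 ^ 4 = 1`: the signs `s₁ s₂ s₃` multiply to `1` (`2 ≠ 0`), so
`(c 0, c 1, c 2, c 3) = c 0 • (1,1,1,1)`, `c 0 • (1,1,-1,-1)` [`Z1`], `c 0 • (1,-1,1,-1)` [`Z2`] or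
`c 0 • (1,-1,-1,1)` [`Z1 Z2`].  Then `g = X_t * (gI ^ m) * (Z-part)` as elements of `GL` (`Units.ext`,
entrywise), where `X_0 = 1`, `X_1 = gX2`, `X_2 = gX1`, `X_3 = gX1 * gX2`, `gI ^ m` has matrix `c 0 • 1`
(`m = 0,2,1,3` for `c 0 = 1,-1,i,-i`) and the Z-part is `1`, `gZ1`, `gZ2`, `gZ1 * gZ2`; all factors are in
`Rs` (`Subgroup.subset_closure`, `mul_mem`, `pow_mem`).  Suggested organisation: first prove
`∀ (t) (c0 : F) (e : Fin 4 → F)`-style lemma "the `GL` element with matrix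
`of fun j k => if j = q3xor t k then z * e k else 0` is in `Rs`" for the 4 x 4 x 4 explicit cases via
three small lemmas (scalar part, Z-part, X-part), then reduce. -/

set_option autoImplicit false

namespace Cfsg.Agent.Lib.Helper74.SU4Q3

open Matrix Cfsg.Geo Cfsg.Agent.Lib.Helper71.Asch

variable {F : Type*} [Field F] [Fintype F]

omit [Fintype F] in
theorem q3mempt_factor (t : Fin 4) (z : F) (s : Fin 4 → F) (a b d g : GL (Fin 4) F)
    (ha : (a : Matrix (Fin 4) (Fin 4) F) =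
      Matrix.of fun j k => if j = q3xor t k then (1 : F) else 0)
    (hb : (b : Matrix (Fin 4) (Fin 4) F) = z • (1 : Matrix (Fin 4) (Fin 4) F))
    (hd : (d : Matrix (Fin 4) (Fin 4) F) = Matrix.diagonal s)
    (hg : ∀ j k, (g : Matrix (Fin 4) (Fin 4) F) j k = if j = q3xor t k then z * s k else 0) :
    g = a * b * d := by
  apply Units.ext
  ext j k
  rw [hg j k, Units.val_mul, Units.val_mul, ha, hb, hd, Matrix.mul_smul, Matrix.mul_one,
    Matrix.mul_diagonal, Matrix.smul_apply, Matrix.of_apply, smul_eq_mul]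
  split_ifs <;> ring

omit [Fintype F] in
theorem q3mempt_X (i : F) (hi : i * i = -1) (t : Fin 4) :
    ∃ a ∈ Rs i hi, (a : Matrix (Fin 4) (Fin 4) F) =
      Matrix.of fun j k => if j = q3xor t k then (1 : F) else 0 := by
  have hX1 : gX1 F ∈ Rs i hi := Subgroup.subset_closure (by simp)
  have hX2 : gX2 F ∈ Rs i hi := Subgroup.subset_closure (by simp)
  fin_cases t
  · refine ⟨1, Subgroup.one_mem _, ?_⟩
    ext j k
    fin_cases j <;> fin_cases k <;> simp [q3xor, Matrix.one_apply]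
  · refine ⟨gX2 F, hX2, ?_⟩
    show q3X2 F = _
    ext j k
    fin_cases j <;> fin_cases k <;> simp [q3xor, q3X2]
  · refine ⟨gX1 F, hX1, ?_⟩
    show q3X1 F = _
    ext j k
    fin_cases j <;> fin_cases k <;> simp [q3xor, q3X1]
  · refine ⟨gX1 F * gX2 F, Subgroup.mul_mem _ hX1 hX2, ?_⟩
    show q3X1 F * q3X2 F = _
    ext j k
    fin_cases j <;> fin_cases k <;>
      simp [q3xor, q3X1, q3X2, Matrix.mul_apply, Fin.sum_univ_four]

omit [Fintype F] in
theorem q3mempt_Z (h2 : (2 : F) ≠ 0) (i : F) (hi : i * i = -1) (s : Fin 4 → F) (h0 : s 0 = 1)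
    (hs : ∀ k, s k = 1 ∨ s k = -1) (hprod : s 1 * s 2 * s 3 = 1) :
    ∃ d ∈ Rs i hi, (d : Matrix (Fin 4) (Fin 4) F) = Matrix.diagonal s := by
  have hZ1 : gZ1 F ∈ Rs i hi := Subgroup.subset_closure (by simp)
  have hZ2 : gZ2 F ∈ Rs i hi := Subgroup.subset_closure (by simp)
  have hneg : (-1 : F) ≠ 1 := by
    intro h
    apply h2
    linear_combination (-1 : F) * h
  rcases hs 1 with h1 | h1 <;> rcases hs 2 with h2' | h2' <;> rcases hs 3 with h3 | h3
  · refine ⟨1, Subgroup.one_mem _, ?_⟩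
    ext j k
    fin_cases j <;> fin_cases k <;>
      simp [Matrix.diagonal_apply, Matrix.one_apply, h0, h1, h2', h3]
  · exfalso
    rw [h1, h2', h3] at hprod
    exact hneg (by linear_combination hprod)
  · exfalso
    rw [h1, h2', h3] at hprod
    exact hneg (by linear_combination hprod)
  · refine ⟨gZ1 F, hZ1, ?_⟩
    show q3Z1 F = _
    ext j k
    fin_cases j <;> fin_cases k <;> simp [q3Z1, Matrix.diagonal_apply, h0, h1, h2', h3]
  · exfalso
    rw [h1, h2', h3] at hprod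
    exact hneg (by linear_combination hprod)
  · refine ⟨gZ2 F, hZ2, ?_⟩
    show q3Z2 F = _
    ext j k
    fin_cases j <;> fin_cases k <;> simp [q3Z2, Matrix.diagonal_apply, h0, h1, h2', h3]
  · refine ⟨gZ1 F * gZ2 F, Subgroup.mul_mem _ hZ1 hZ2, ?_⟩
    show q3Z1 F * q3Z2 F = _
    ext j k
    fin_cases j <;> fin_cases k <;>
      simp [q3Z1, q3Z2, Matrix.diagonal_apply, Matrix.mul_apply, Fin.sum_univ_four, h0, h1, h2', h3]
  · exfalso
    rw [h1, h2', h3] at hprod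
    exact hneg (by linear_combination hprod)

omit [Fintype F] in
theorem q3mempt_S (i : F) (hi : i * i = -1) (z : F) (hz : z ^ 4 = 1) :
    ∃ b ∈ Rs i hi, (b : Matrix (Fin 4) (Fin 4) F) = z • (1 : Matrix (Fin 4) (Fin 4) F) := by
  have hI : gI i hi ∈ Rs i hi := Subgroup.subset_closure (by simp)
  have hfac : (z - 1) * (z + 1) * (z - i) * (z + i) = 0 := by
    linear_combination hz - (z ^ 2 - 1) * hi
  have hIval : ((gI i hi : GL (Fin 4) F) : Matrix (Fin 4) (Fin 4) F) =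
      i • (1 : Matrix (Fin 4) (Fin 4) F) := rfl
  rcases mul_eq_zero.mp hfac with h | h
  · rcases mul_eq_zero.mp h with h | h
    · rcases mul_eq_zero.mp h with h | h
      · refine ⟨1, Subgroup.one_mem _, ?_⟩
        rw [sub_eq_zero.mp h, one_smul]
        rfl
      · refine ⟨gI i hi * gI i hi, Subgroup.mul_mem _ hI hI, ?_⟩
        rw [Units.val_mul, hIval, Matrix.smul_mul, Matrix.one_mul, smul_smul, hi,
          eq_neg_of_add_eq_zero_left h]
    · refine ⟨gI i hi, hI, ?_⟩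
      rw [hIval, sub_eq_zero.mp h]
  · refine ⟨gI i hi * gI i hi * gI i hi,
      Subgroup.mul_mem _ (Subgroup.mul_mem _ hI hI) hI, ?_⟩
    rw [Units.val_mul, Units.val_mul, hIval, Matrix.smul_mul, Matrix.one_mul, smul_smul,
      Matrix.smul_mul, Matrix.one_mul, smul_smul, hi, eq_neg_of_add_eq_zero_left h]
    congr 1
    ring

theorem q3_mempt (h2 : (2 : F) ≠ 0) (i : F) (hi : i * i = -1) (g : GL (Fin 4) F)
    (hg : PT (g : Matrix (Fin 4) (Fin 4) F)) : g ∈ Rs i hi := by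
  obtain ⟨t, c, hM, h4, hsq, hprod⟩ := hg
  have hz0 : c 0 ≠ 0 := by
    intro h
    have h5 := h4 0
    rw [h] at h5
    simp at h5
  have hs : ∀ k, c k / c 0 = 1 ∨ c k / c 0 = -1 := by
    intro k
    have h1 : (c k - c 0) * (c k + c 0) = 0 := by
      linear_combination hsq k
    rcases mul_eq_zero.mp h1 with h | h
    · left
      rw [sub_eq_zero.mp h, div_self hz0]
    · right
      rw [eq_neg_of_add_eq_zero_left h, neg_div, div_self hz0]
  have hs0 : c 0 / c 0 = 1 := div_self hz0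
  have hsprod : c 1 / c 0 * (c 2 / c 0) * (c 3 / c 0) = 1 := by
    have h40 := h4 0
    have h5 : c 1 * c 2 * c 3 = c 0 ^ 3 := by
      have h6 : c 0 * (c 1 * c 2 * c 3 - c 0 ^ 3) = 0 := by linear_combination hprod - h40
      rcases mul_eq_zero.mp h6 with h | h
      · exact absurd h hz0
      · exact sub_eq_zero.mp h
    have h7 : c 1 / c 0 * (c 2 / c 0) * (c 3 / c 0) = (c 1 * c 2 * c 3) / c 0 ^ 3 := by
      rw [div_mul_div_comm, div_mul_div_comm]
      congr 1
      ring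
    rw [h7, h5, div_self (pow_ne_zero 3 hz0)]
  obtain ⟨a, ha, hae⟩ := q3mempt_X i hi t
  obtain ⟨b, hb, hbe⟩ := q3mempt_S i hi (c 0) (h4 0)
  obtain ⟨d, hd, hde⟩ := q3mempt_Z h2 i hi (fun k => c k / c 0) hs0 hs hsprod
  have hfac : g = a * b * d := by
    apply q3mempt_factor t (c 0) (fun k => c k / c 0) a b d g hae hbe hde
    intro j k
    rw [hM j k]
    have h8 : c 0 * (c k / c 0) = c k := by
      field_simp
    simp only [h8]
  rw [hfac]
  exact Subgroup.mul_mem _ (Subgroup.mul_mem _ ha hb) hd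

end Cfsg.Agent.Lib.Helper74.SU4Q3
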