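import Mathlib
import Cfsg.Prelude.Def_GeometricClasses
import Cfsg.Prelude.Def_LieClassical
import Cfsg.Agent.Lib.Helper71.Asch0
import Cfsg.Agent.Lib.Helper71.Asch5
import Cfsg.Agent.Lib.Helper74.SU4Q3Defs

/-! Project SU4 (S5784, 10u), piece Q3MON, sub-board Q3 (helper74): sub-piece `MFORM`.
PLACEHOLDER: replace the `sorry` in this ONE file (keep statement, name, namespace; you may add
imports and helper lemmas with names prefixed `q3mform_`); land on origin/main; mark the job done;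
msg helper74.  Definitions: `SU4Q3Defs.lean` (`q3Z1 q3Z2 q3X1 q3X2 q3T q3Hd q3Dd`, the `GL` elements
`gI gZ1 gZ2 gX1 gX2 gT gDd gHd`, `Rs = closure of gI, gZ1, gZ2, gX1, gX2`, `PT`, `q3xor`, `q3_finn`).
Explicit 4x4 identities: `ext a b; fin_cases a <;> fin_cases b <;> simp [q3Z1, ..., Matrix.mul_apply,
Fin.sum_univ_four]`; equalities in `GL`: `Units.ext`.

MEDIUM-HARD. `a k := A.1 (σ k) k`; the entry formula is `hσ` (contrapositive).
`a k ^ 4 = 1`: `hA` says `hermForm 4 F 3 (A.1 *ᵥ u) (A.1 *ᵥ v) = hermForm 4 F 3 u v` (`hermForm 4 F 3 u v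
= ∑ j, u j * v j ^ 3`; `Cfsg.GU = preserving (Units.coeHom _) (hermForm ..)`); take `u = v = Pi.single k 1`:
`A.1 *ᵥ Pi.single k 1 = fun j => A.1 j k` (`Matrix.mulVec_single_one`), the sum has the single non-zero
term `j = σ k`: `a k * a k ^ 3 = 1`.
`det`: `Matrix.det_apply`: `det A.1 = ∑ τ, sign τ • ∏ k, A.1 (τ k) k`; the term of `τ` vanishes unless
`τ = σ` (some `k` with `τ k ≠ σ k` gives a zero factor), so `det A.1 = sign σ • ∏ k, a k`
(`Finset.sum_eq_single σ`; `Fin.prod_univ_four`), and `sign σ = ±1`, so `(∏ a) ^ 2 = (det)^2 = 1`. -/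

set_option autoImplicit false

namespace Cfsg.Agent.Lib.Helper74.SU4Q3

open Matrix Cfsg.Geo Cfsg.Agent.Lib.Helper71.Asch

variable {F : Type*} [Field F] [Fintype F]

theorem q3_mform (A : GL (Fin 4) F) (hA : A ∈ Cfsg.GU 4 F 3)
    (hdet : (A : Matrix (Fin 4) (Fin 4) F).det = 1) (σ : Equiv.Perm (Fin 4))
    (hσ : ∀ j k, (A : Matrix (Fin 4) (Fin 4) F) j k ≠ 0 → j = σ k) :
    ∃ a : Fin 4 → F, (∀ j k, (A : Matrix (Fin 4) (Fin 4) F) j k = if j = σ k then a k else 0) ∧
      (∀ k, a k ^ 4 = 1) ∧ (a 0 * a 1 * a 2 * a 3) ^ 2 = 1 := by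
  classical
  have hz : ∀ j k, j ≠ σ k → (A : Matrix (Fin 4) (Fin 4) F) j k = 0 := fun j k h => by
    by_contra h'
    exact h (hσ j k h')
  refine ⟨fun k => (A : Matrix (Fin 4) (Fin 4) F) (σ k) k, ?_, ?_, ?_⟩
  · intro j k
    by_cases h : j = σ k
    · rw [if_pos h, h]
    · rw [if_neg h]
      exact hz j k h
  · intro k
    have h : Cfsg.hermForm 4 F 3 ((A : Matrix (Fin 4) (Fin 4) F) *ᵥ Pi.single k 1)
        ((A : Matrix (Fin 4) (Fin 4) F) *ᵥ Pi.single k 1) =
        Cfsg.hermForm 4 F 3 (Pi.single k 1) (Pi.single k 1) :=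
      hA (Pi.single k 1) (Pi.single k 1)
    have e1 : Cfsg.hermForm 4 F 3 (Pi.single k (1 : F)) (Pi.single k 1) = 1 := by
      unfold Cfsg.hermForm
      rw [Finset.sum_eq_single k]
      · simp
      · intro j _ hj
        simp [Pi.single_eq_of_ne hj]
      · intro h'
        exact absurd (Finset.mem_univ k) h'
    have e2 : Cfsg.hermForm 4 F 3 ((A : Matrix (Fin 4) (Fin 4) F) *ᵥ Pi.single k 1)
        ((A : Matrix (Fin 4) (Fin 4) F) *ᵥ Pi.single k 1) =
        (A : Matrix (Fin 4) (Fin 4) F) (σ k) k ^ 4 := by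
      unfold Cfsg.hermForm
      rw [Finset.sum_eq_single (σ k)]
      · rw [Matrix.mulVec_single_one, Matrix.col_apply]
        ring
      · intro j _ hj
        rw [Matrix.mulVec_single_one, Matrix.col_apply, hz j k hj, zero_mul]
      · intro h'
        exact absurd (Finset.mem_univ (σ k)) h'
    show (A : Matrix (Fin 4) (Fin 4) F) (σ k) k ^ 4 = 1
    rw [← e2]
    exact h.trans e1
  · show ((A : Matrix (Fin 4) (Fin 4) F) (σ 0) 0 * (A : Matrix (Fin 4) (Fin 4) F) (σ 1) 1 *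
      (A : Matrix (Fin 4) (Fin 4) F) (σ 2) 2 * (A : Matrix (Fin 4) (Fin 4) F) (σ 3) 3) ^ 2 = 1
    have hdet' := Matrix.det_apply (A : Matrix (Fin 4) (Fin 4) F)
    rw [hdet, Finset.sum_eq_single σ] at hdet'
    · rw [Fin.prod_univ_four] at hdet'
      rcases Int.units_eq_one_or (Equiv.Perm.sign σ) with hs | hs
      · rw [hs, one_smul] at hdet'
        rw [← hdet', one_pow]
      · rw [hs] at hdet'
        simp only [Units.neg_smul, one_smul] at hdet'
        have h2 : (A : Matrix (Fin 4) (Fin 4) F) (σ 0) 0 * (A : Matrix (Fin 4) (Fin 4) F) (σ 1) 1 *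
            (A : Matrix (Fin 4) (Fin 4) F) (σ 2) 2 * (A : Matrix (Fin 4) (Fin 4) F) (σ 3) 3 = -1 := by
          linear_combination hdet'
        rw [h2]
        ring
    · intro τ _ hτ
      obtain ⟨k, hk⟩ : ∃ k, τ k ≠ σ k := by
        by_contra hcon
        push Not at hcon
        exact hτ (Equiv.ext hcon)
      have hp : ∏ i, (A : Matrix (Fin 4) (Fin 4) F) (τ i) i = 0 :=
        Finset.prod_eq_zero (Finset.mem_univ k) (hz (τ k) k hk)
      rw [hp, smul_zero]
    · intro h'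
      exact absurd (Finset.mem_univ σ) h'

end Cfsg.Agent.Lib.Helper74.SU4Q3
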