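import Mathlib
import Cfsg.Prelude.Def_GeometricClasses
import Cfsg.Prelude.Def_LieClassical
import Cfsg.Agent.Lib.Helper71.Asch0
import Cfsg.Agent.Lib.Helper71.Asch5
import Cfsg.Agent.Lib.Helper74.SU4Q3Defs

/-! Project SU4 (S5784, 10u), piece Q3MON, sub-board Q3 (helper74): sub-piece `MINA`.
FILLED by helper65.  Definitions: `SU4Q3Defs.lean` (`q3Z1 q3Z2 q3X1 q3X2 q3T q3Hd q3Dd`, the `GL` elements
`gI gZ1 gZ2 gX1 gX2 gT gDd gHd`, `Rs = closure of gI, gZ1, gZ2, gX1, gX2`, `PT`, `q3xor`, `q3_finn`).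
Explicit 4x4 identities: `ext a b; fin_cases a <;> fin_cases b <;> simp [q3Z1, ..., Matrix.mul_apply,
Fin.sum_univ_four]`; equalities in `GL`: `Units.ext`.

HARD. (`Nrm H L := ∀ h ∈ H, ∀ x ∈ L, h * x * h⁻¹ ∈ L`.)  Take `a ∈ L` not scalar; `PT a.1` with data `(t, c)`.
(1) CLAIM: there are `b ∈ L`, `z : F` with `b.1 = z • q3Z1 F ∨ b.1 = z • q3Z2 F ∨ b.1 = z • (q3Z1 F * q3Z2 F)`.
 `t = 0`: `a.1` is diagonal with entries `c k`, `c k = ±c 0`, product `1`, `c 0 ^ 4 = 1`, so the signs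
 multiply to `1` (`2 ≠ 0`) and `a.1 = c 0 • 1` (excluded: `a` not scalar, `Cfsg.Geo.mem_scalars_iff`),
 `c 0 • Z1`, `c 0 • Z2` or `c 0 • (Z1 * Z2)`; `b := a`.
 `t ≠ 0`: `b := gDd * a * gDd⁻¹ * a⁻¹ ∈ L` (`hn` with `hD`, and `a⁻¹ ∈ L`); by `hdc a.1 t`
 (support from the `PT` data) `Dd * a.1 = E * a.1 * Dd`, so `b.1 = E` with `E = Z1` (`z = 1`),
 `(-i) • (Z1 * Z2)`, `i • Z2` for `t = 1, 2, 3`.
(2) Conjugating by `gT` (`hn` with `hT`): `T * Z1 = Z2 * T`, `T * Z2 = (Z1 * Z2) * T`,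
 `T * (Z1 * Z2) = Z1 * T` (explicit), so `gT * b * gT⁻¹` and `gT * (gT * b * gT⁻¹) * gT⁻¹` have the
 other two matrices: `L` contains elements `b1, b2, b3` with matrices `z • Z1`, `z • Z2`, `z • (Z1 * Z2)`.
(3) `u := b1 * b2 * b3⁻¹ ∈ L` has matrix `z • 1` (check `u * b3 = b1 * b2` via `Units.ext`:
 `(z • 1) * (z • (Z1 * Z2)) = (z • Z1) * (z • Z2)`), and `gZ1 F = b1 * u⁻¹`, `gZ2 F = b2 * u⁻¹`
 (`gZ1 * u = b1` by `Units.ext`). -/

set_option autoImplicit false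

namespace Cfsg.Agent.Lib.Helper74.SU4Q3

open Matrix Cfsg.Geo Cfsg.Agent.Lib.Helper71.Asch

variable {F : Type*} [Field F] [Fintype F]

theorem q3mina_xor_zero : ∀ l : Fin 4, q3xor 0 l = l := by decide

omit [Fintype F] in
theorem q3mina_conjT : q3T F * q3Z1 F * q3Tinv F = q3Z2 F ∧
    q3T F * q3Z2 F * q3Tinv F = q3Z1 F * q3Z2 F ∧
    q3T F * (q3Z1 F * q3Z2 F) * q3Tinv F = q3Z1 F := by
  refine ⟨?_, ?_, ?_⟩ <;>
    (ext a b; fin_cases a <;> fin_cases b <;>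
      simp [q3T, q3Tinv, q3Z1, q3Z2, Matrix.mul_apply, Fin.sum_univ_four])

omit [Fintype F] in
theorem q3mina_comm : q3Z2 F * q3Z1 F = q3Z1 F * q3Z2 F := by
  ext a b
  fin_cases a <;> fin_cases b <;> simp [q3Z1, q3Z2, Matrix.mul_apply, Fin.sum_univ_four]

omit [Fintype F] in
theorem q3mina_diag (h2 : (2 : F) ≠ 0) (M : Matrix (Fin 4) (Fin 4) F) (c : Fin 4 → F)
    (hM : ∀ j k, M j k = if j = k then c k else 0) (hc4 : ∀ k, c k ^ 4 = 1)
    (hc2 : ∀ k, c k ^ 2 = c 0 ^ 2) (hcp : c 0 * c 1 * c 2 * c 3 = 1) :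
    M = c 0 • (1 : Matrix (Fin 4) (Fin 4) F) ∨ M = c 0 • q3Z1 F ∨ M = c 0 • q3Z2 F ∨
      M = c 0 • (q3Z1 F * q3Z2 F) := by
  have h1 := sq_eq_sq_iff_eq_or_eq_neg.mp (hc2 1)
  have h2' := sq_eq_sq_iff_eq_or_eq_neg.mp (hc2 2)
  have h3 := sq_eq_sq_iff_eq_or_eq_neg.mp (hc2 3)
  have h04 := hc4 0
  rcases h1 with h1 | h1 <;> rcases h2' with h2' | h2' <;> rcases h3 with h3 | h3
  · left
    ext j k
    rw [hM]
    fin_cases j <;> fin_cases k <;> simp [h1, h2', h3]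
  · exfalso
    rw [h1, h2', h3] at hcp
    apply h2
    linear_combination -hcp - h04
  · exfalso
    rw [h1, h2', h3] at hcp
    apply h2
    linear_combination -hcp - h04
  · right; left
    ext j k
    rw [hM]
    fin_cases j <;> fin_cases k <;> simp [h1, h2', h3, q3Z1]
  · exfalso
    rw [h1, h2', h3] at hcp
    apply h2
    linear_combination -hcp - h04
  · right; right; left
    ext j k
    rw [hM]
    fin_cases j <;> fin_cases k <;> simp [h1, h2', h3, q3Z2]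
  · right; right; right
    ext j k
    rw [hM]
    fin_cases j <;> fin_cases k <;>
      simp [h1, h2', h3, q3Z1, q3Z2, Matrix.mul_apply, Fin.sum_univ_four]
  · exfalso
    rw [h1, h2', h3] at hcp
    apply h2
    linear_combination -hcp - h04

theorem q3_mina (h2 : (2 : F) ≠ 0) (i : F) (hi : i * i = -1)
    (hpt : ∀ g ∈ Rs i hi, PT (g : Matrix (Fin 4) (Fin 4) F))
    (hdc : ∀ (a : Matrix (Fin 4) (Fin 4) F) (t : Fin 4), (∀ j k, a j k ≠ 0 → j = q3xor t k) →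
      (t = 1 → q3Dd i * a = q3Z1 F * a * q3Dd i) ∧
      (t = 2 → q3Dd i * a = ((-i) • (q3Z1 F * q3Z2 F)) * a * q3Dd i) ∧
      (t = 3 → q3Dd i * a = (i • q3Z2 F) * a * q3Dd i))
    (hT : gT F ∈ subgroupNormalizer (Rs i hi)) (hD : gDd i hi ∈ subgroupNormalizer (Rs i hi))
    (L : Subgroup (GL (Fin 4) F)) (hL : L ≤ Rs i hi) (hn : Nrm (subgroupNormalizer (Rs i hi)) L)
    (hns : ¬ L ≤ scalars (Fin 4) F) : gZ1 F ∈ L ∧ gZ2 F ∈ L := by
  classical
  obtain ⟨a, haL, hasc⟩ := SetLike.not_le_iff_exists.mp hns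
  obtain ⟨t, c, hae, hc4, hc2, hcp⟩ := hpt a (hL haL)
  have claim : ∃ b ∈ L, ∃ z : F, (b : Matrix (Fin 4) (Fin 4) F) = z • q3Z1 F ∨
      (b : Matrix (Fin 4) (Fin 4) F) = z • q3Z2 F ∨
      (b : Matrix (Fin 4) (Fin 4) F) = z • (q3Z1 F * q3Z2 F) := by
    by_cases ht : t = 0
    · subst ht
      have hM : ∀ j k, (a : Matrix (Fin 4) (Fin 4) F) j k = if j = k then c k else 0 := by
        intro j k
        rw [hae, q3mina_xor_zero]
      rcases q3mina_diag h2 _ c hM hc4 hc2 hcp with h | h | h | h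
      · exfalso
        apply hasc
        rw [mem_scalars_iff]
        have hc0 : c 0 ≠ 0 := by
          intro h0
          have h4 := hc4 0
          rw [h0] at h4
          norm_num at h4
        exact ⟨Units.mk0 (c 0) hc0, h⟩
      · exact ⟨a, haL, c 0, Or.inl h⟩
      · exact ⟨a, haL, c 0, Or.inr (Or.inl h)⟩
      · exact ⟨a, haL, c 0, Or.inr (Or.inr h)⟩
    · have hsupp : ∀ j k, (a : Matrix (Fin 4) (Fin 4) F) j k ≠ 0 → j = q3xor t k := by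
        intro j k hjk
        by_contra hne
        exact hjk (by rw [hae, if_neg hne])
      obtain ⟨d1, d2, d3⟩ := hdc a.1 t hsupp
      have hbL : gDd i hi * a * (gDd i hi)⁻¹ * a⁻¹ ∈ L :=
        L.mul_mem (hn _ hD a haL) (L.inv_mem haL)
      have key : ∀ E : Matrix (Fin 4) (Fin 4) F, q3Dd i * a.1 = E * a.1 * q3Dd i →
          ((gDd i hi * a * (gDd i hi)⁻¹ * a⁻¹ : GL (Fin 4) F) : Matrix (Fin 4) (Fin 4) F) = E := by
        intro E hE
        have h1 : ((gDd i hi * a * (gDd i hi)⁻¹ * a⁻¹ : GL (Fin 4) F) :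
            Matrix (Fin 4) (Fin 4) F) * ((a * gDd i hi : GL (Fin 4) F) : Matrix (Fin 4) (Fin 4) F)
            = E * ((a * gDd i hi : GL (Fin 4) F) : Matrix (Fin 4) (Fin 4) F) := by
          rw [← Units.val_mul]
          have h0 : gDd i hi * a * (gDd i hi)⁻¹ * a⁻¹ * (a * gDd i hi) = gDd i hi * a := by group
          rw [h0, Units.val_mul, Units.val_mul, ← mul_assoc]
          exact hE
        have h3 := congrArg (· * ((a * gDd i hi)⁻¹ : GL (Fin 4) F).1) h1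
        simpa [mul_assoc] using h3
      have ht' : t = 1 ∨ t = 2 ∨ t = 3 := by
        fin_cases t
        · exact absurd rfl ht
        · exact Or.inl rfl
        · exact Or.inr (Or.inl rfl)
        · exact Or.inr (Or.inr rfl)
      rcases ht' with h | h | h
      · exact ⟨_, hbL, 1, Or.inl (by rw [key _ (d1 h), one_smul])⟩
      · exact ⟨_, hbL, -i, Or.inr (Or.inr (key _ (d2 h)))⟩
      · exact ⟨_, hbL, i, Or.inr (Or.inl (key _ (d3 h)))⟩
  obtain ⟨b, hbL, z, hb⟩ := claim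
  obtain ⟨cT1, cT2, cT3⟩ := q3mina_conjT (F := F)
  have conj : ∀ b ∈ L, ∀ M : Matrix (Fin 4) (Fin 4) F,
      (b : Matrix (Fin 4) (Fin 4) F) = z • M →
      ∃ b' ∈ L, (b' : Matrix (Fin 4) (Fin 4) F) = z • (q3T F * M * q3Tinv F) := by
    intro b hb M hM
    refine ⟨gT F * b * (gT F)⁻¹, hn _ hT b hb, ?_⟩
    show q3T F * b.1 * q3Tinv F = _
    rw [hM, Matrix.mul_smul, Matrix.smul_mul]
  have three : ∃ b1 ∈ L, ∃ b2 ∈ L, ∃ b3 ∈ L, (b1 : Matrix (Fin 4) (Fin 4) F) = z • q3Z1 F ∧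
      (b2 : Matrix (Fin 4) (Fin 4) F) = z • q3Z2 F ∧
      (b3 : Matrix (Fin 4) (Fin 4) F) = z • (q3Z1 F * q3Z2 F) := by
    rcases hb with hb | hb | hb
    · obtain ⟨b2, hb2L, hb2⟩ := conj b hbL _ hb
      rw [cT1] at hb2
      obtain ⟨b3, hb3L, hb3⟩ := conj b2 hb2L _ hb2
      rw [cT2] at hb3
      exact ⟨b, hbL, b2, hb2L, b3, hb3L, hb, hb2, hb3⟩
    · obtain ⟨b3, hb3L, hb3⟩ := conj b hbL _ hb
      rw [cT2] at hb3
      obtain ⟨b1, hb1L, hb1⟩ := conj b3 hb3L _ hb3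
      rw [cT3] at hb1
      exact ⟨b1, hb1L, b, hbL, b3, hb3L, hb1, hb, hb3⟩
    · obtain ⟨b1, hb1L, hb1⟩ := conj b hbL _ hb
      rw [cT3] at hb1
      obtain ⟨b2, hb2L, hb2⟩ := conj b1 hb1L _ hb1
      rw [cT1] at hb2
      exact ⟨b1, hb1L, b2, hb2L, b, hbL, hb1, hb2, hb⟩
  obtain ⟨b1, hb1L, b2, hb2L, b3, hb3L, hb1, hb2, hb3⟩ := three
  constructor
  · have h : gZ1 F = b2⁻¹ * b3 := by
      rw [eq_inv_mul_iff_mul_eq]
      apply Units.ext
      show b2.1 * q3Z1 F = b3.1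
      rw [hb2, hb3, Matrix.smul_mul, q3mina_comm]
    rw [h]
    exact L.mul_mem (L.inv_mem hb2L) hb3L
  · have h : gZ2 F = b1⁻¹ * b3 := by
      rw [eq_inv_mul_iff_mul_eq]
      apply Units.ext
      show b1.1 * q3Z2 F = b3.1
      rw [hb1, hb3, Matrix.smul_mul]
    rw [h]
    exact L.mul_mem (L.inv_mem hb1L) hb3L

end Cfsg.Agent.Lib.Helper74.SU4Q3
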