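import Mathlib
import Cfsg.Prelude.Def_GeometricClasses
import Cfsg.Prelude.Def_LieClassical
import Cfsg.Agent.Lib.Helper71.Asch0
import Cfsg.Agent.Lib.Helper71.Asch5
import Cfsg.Agent.Lib.Helper74.SU4Q3Defs

/-! Project SU4 (S5784, 10u), piece Q3MON, sub-board Q3 (helper74): sub-piece `MINB`.
PLACEHOLDER: replace the `sorry` in this ONE file (keep statement, name, namespace; you may add
imports and helper lemmas with names prefixed `q3minb_`); land on origin/main; mark the job done;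
msg helper74.  Definitions: `SU4Q3Defs.lean` (`q3Z1 q3Z2 q3X1 q3X2 q3T q3Hd q3Dd`, the `GL` elements
`gI gZ1 gZ2 gX1 gX2 gT gDd gHd`, `Rs = closure of gI, gZ1, gZ2, gX1, gX2`, `PT`, `q3xor`, `q3_finn`).
Explicit 4x4 identities: `ext a b; fin_cases a <;> fin_cases b <;> simp [q3Z1, ..., Matrix.mul_apply,
Fin.sum_univ_four]`; equalities in `GL`: `Units.ext`.

MEDIUM. (`Nrm H L := ∀ h ∈ H, ∀ x ∈ L, h * x * h⁻¹ ∈ L`.)
`gX1 = gHd * gZ1 * gHd⁻¹ ∈ L` (`Hd * Z1 = X1 * Hd`, `Units.ext`, `hn` with `hH`).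
`gT * gX1 * gT⁻¹ = gX1 * gX2 ∈ L` (`T * X1 = (X1 * X2) * T`), so `gX2 = gX1⁻¹ * (gX1 * gX2) ∈ L`.
`w := gDd * gX1 * gDd⁻¹ * gX1⁻¹ ∈ L` and `w = v * gZ1 * gZ2` where `v := (gI i hi)⁻¹` has matrix
`(-i) • 1` (`Dd * X1 = ((-i) • (Z1 * Z2)) * X1 * Dd`; check `w * gX1 * gDd = v * gZ1 * gZ2 * gX1 * gDd`
by `Units.ext` + explicit matrices), so `(gI i hi)⁻¹ = w * (gZ1 * gZ2)⁻¹ ∈ L` and `gI i hi ∈ L`.
(All identities verified numerically over `F_9`.) -/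

set_option autoImplicit false

namespace Cfsg.Agent.Lib.Helper74.SU4Q3

open Matrix Cfsg.Geo Cfsg.Agent.Lib.Helper71.Asch

variable {F : Type*} [Field F] [Fintype F]

omit [Fintype F] in
theorem q3minb_HdZ1 : q3Hd F * q3Z1 F = q3X1 F * q3Hd F := by
  ext a b
  fin_cases a <;> fin_cases b <;> simp [q3Hd, q3Z1, q3X1, Matrix.mul_apply, Fin.sum_univ_four]

omit [Fintype F] in
theorem q3minb_TX1 : q3T F * q3X1 F = (q3X1 F * q3X2 F) * q3T F := by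
  ext a b
  fin_cases a <;> fin_cases b <;>
    simp [q3T, q3X1, q3X2, Matrix.mul_apply, Fin.sum_univ_four]

omit [Fintype F] in
theorem q3minb_DdX1 (i : F) (hi : i * i = -1) :
    q3Dd i * q3X1 F =
      ((-i) • (1 : Matrix (Fin 4) (Fin 4) F)) * q3Z1 F * q3Z2 F * q3X1 F * q3Dd i := by
  ext a b
  fin_cases a <;> fin_cases b <;>
    simp [q3Dd, q3X1, q3Z1, q3Z2, Matrix.mul_apply, Fin.sum_univ_four, hi]

theorem q3_minb (i : F) (hi : i * i = -1) (h3 : (3 : F) = 0)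
    (hT : gT F ∈ subgroupNormalizer (Rs i hi)) (hD : gDd i hi ∈ subgroupNormalizer (Rs i hi))
    (hH : gHd h3 ∈ subgroupNormalizer (Rs i hi))
    (L : Subgroup (GL (Fin 4) F)) (hn : Nrm (subgroupNormalizer (Rs i hi)) L)
    (h1 : gZ1 F ∈ L) (h2 : gZ2 F ∈ L) : gX1 F ∈ L ∧ gX2 F ∈ L ∧ gI i hi ∈ L := by
  have e1 : gHd h3 * gZ1 F = gX1 F * gHd h3 := by
    apply Units.ext
    exact q3minb_HdZ1
  have hX1 : gX1 F ∈ L := by
    have h4 := hn (gHd h3) hH (gZ1 F) h1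
    have h5 : gHd h3 * gZ1 F * (gHd h3)⁻¹ = gX1 F := by
      rw [e1]; group
    rwa [h5] at h4
  have e2 : gT F * gX1 F = (gX1 F * gX2 F) * gT F := by
    apply Units.ext
    exact q3minb_TX1
  have hX12 : gX1 F * gX2 F ∈ L := by
    have h4 := hn (gT F) hT (gX1 F) hX1
    have h5 : gT F * gX1 F * (gT F)⁻¹ = gX1 F * gX2 F := by
      rw [e2]; group
    rwa [h5] at h4
  have hX2 : gX2 F ∈ L := by
    have h4 := L.mul_mem (L.inv_mem hX1) hX12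
    have h5 : (gX1 F)⁻¹ * (gX1 F * gX2 F) = gX2 F := by group
    rwa [h5] at h4
  have e3 : gDd i hi * gX1 F = (gI i hi)⁻¹ * gZ1 F * gZ2 F * gX1 F * gDd i hi := by
    apply Units.ext
    exact q3minb_DdX1 i hi
  have hI : gI i hi ∈ L := by
    have h4 := hn (gDd i hi) hD (gX1 F) hX1
    have h5 := L.mul_mem h4 (L.inv_mem hX1)
    have h6 : gDd i hi * gX1 F * (gDd i hi)⁻¹ * (gX1 F)⁻¹ = (gI i hi)⁻¹ * gZ1 F * gZ2 F := by
      rw [e3]; group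
    rw [h6] at h5
    have h7 := L.mul_mem h5 (L.inv_mem (L.mul_mem h1 h2))
    have h8 : (gI i hi)⁻¹ * gZ1 F * gZ2 F * (gZ1 F * gZ2 F)⁻¹ = (gI i hi)⁻¹ := by group
    rw [h8] at h7
    exact (Subgroup.inv_mem_iff L).mp h7
  exact ⟨hX1, hX2, hI⟩

end Cfsg.Agent.Lib.Helper74.SU4Q3
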