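import Mathlib
import Cfsg.Prelude.Def_GeometricClasses
import Cfsg.Prelude.Def_LieClassical
import Cfsg.Agent.Lib.Helper71.Asch0
import Cfsg.Agent.Lib.Helper71.Asch5
import Cfsg.Agent.Lib.Helper74.SU4Q3Defs

/-! Project SU4 (S5784, 10u), piece Q3MON, sub-board Q3 (helper74): sub-piece `NGEN`.
Filled in by helper80.  Definitions: `SU4Q3Defs.lean` (`q3Z1 q3Z2 q3X1 q3X2 q3T q3Hd q3Dd`, the `GL`
elements `gI gZ1 gZ2 gX1 gX2 gT gDd gHd`, `Rs = closure of gI, gZ1, gZ2, gX1, gX2`, `PT`, `q3xor`,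
`q3_finn`).

`subgroupNormalizer R = Subgroup.normalizer (R : Set _)`.  `Rs i hi ≤ (Rs i hi).comap
(MulAut.conj g).toMonoidHom` by `Subgroup.closure_le` (the five generators), so
`∀ x ∈ Rs i hi, g * x * g⁻¹ ∈ Rs i hi`; then `q3_finn` (in `SU4Q3Defs`; `GL (Fin 4) F` is finite). -/

set_option autoImplicit false

namespace Cfsg.Agent.Lib.Helper74.SU4Q3

open Matrix Cfsg.Geo Cfsg.Agent.Lib.Helper71.Asch

variable {F : Type*} [Field F] [Fintype F]

theorem q3_ngen (i : F) (hi : i * i = -1) (g : GL (Fin 4) F)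
    (h0 : g * gI i hi * g⁻¹ ∈ Rs i hi) (h1 : g * gZ1 F * g⁻¹ ∈ Rs i hi)
    (h2 : g * gZ2 F * g⁻¹ ∈ Rs i hi) (h3 : g * gX1 F * g⁻¹ ∈ Rs i hi)
    (h4 : g * gX2 F * g⁻¹ ∈ Rs i hi) : g ∈ subgroupNormalizer (Rs i hi) := by
  classical
  have hle : Rs i hi ≤ (Rs i hi).comap (MulAut.conj g).toMonoidHom := by
    unfold Rs
    rw [Subgroup.closure_le]
    intro x hx
    simp only [Set.mem_insert_iff, Set.mem_singleton_iff] at hx
    show (MulAut.conj g) x ∈ Subgroup.closure {gI i hi, gZ1 F, gZ2 F, gX1 F, gX2 F}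
    rw [MulAut.conj_apply]
    rcases hx with rfl | rfl | rfl | rfl | rfl
    · exact h0
    · exact h1
    · exact h2
    · exact h3
    · exact h4
  have hall : ∀ x ∈ Rs i hi, g * x * g⁻¹ ∈ Rs i hi := by
    intro x hx
    have := hle hx
    rw [Subgroup.mem_comap] at this
    simpa [MulAut.conj_apply] using this
  exact q3_finn (Rs i hi) g hall

end Cfsg.Agent.Lib.Helper74.SU4Q3
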