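import Mathlib
import Cfsg.Prelude.Def_GeometricClasses
import Cfsg.Prelude.Def_LieClassical
import Cfsg.Agent.Lib.Helper71.Asch0
import Cfsg.Agent.Lib.Helper71.Asch5
import Cfsg.Agent.Lib.Helper74.SU4Q3Defs

/-! Project SU4 (S5784, 10u), piece Q3MON, sub-board Q3 (helper74): sub-piece `NOSUB`.
PLACEHOLDER: replace the `sorry` in this ONE file (keep statement, name, namespace; you may add
imports and helper lemmas with names prefixed `q3nosub_`); land on origin/main; mark the job done;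
msg helper74.  Definitions: `SU4Q3Defs.lean` (`q3Z1 q3Z2 q3X1 q3X2 q3T q3Hd q3Dd`, the `GL` elements
`gI gZ1 gZ2 gX1 gX2 gT gDd gHd`, `Rs = closure of gI, gZ1, gZ2, gX1, gX2`, `PT`, `q3xor`, `q3_finn`).
Explicit 4x4 identities: `ext a b; fin_cases a <;> fin_cases b <;> simp [q3Z1, ..., Matrix.mul_apply,
Fin.sum_univ_four]`; equalities in `GL`: `Units.ext`.

MEDIUM. `RealisableOver F₁ S := ∃ B : GL, ∀ s ∈ S, ∀ a b, (B.1 * s * B⁻¹.1) a b ∈ F₁`.  With
`s = i • 1 ∈ matrixSet R`: `B.1 * (i • 1) * B⁻¹.1 = i • 1`, entry (0,0) gives `i ∈ F₁`.  `3 = 0` in `F`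
(`Nat.cast_card_eq_zero`, `9 = 3 * 3`, no zero divisors) and `2 ≠ 0`.  Then `F₁ = ⊤`: the map
`ZMod 3 × ZMod 3 → F`, `(a, b) ↦ a + b * i` (casts; or use the 9 explicit elements `x + y * i`,
`x, y ∈ {0, 1, -1}`) is injective (`b ≠ b'` would give `i ∈ {0, 1, -1}`, but `i * i = -1 ≠ 0, 1`),
hence surjective as `card F = 9`, and all its values lie in `F₁` (contains `0, 1, -1, i`, closed under
`+`, `*`).  Alternative: `(F₁ : AddSubgroup)` has card dividing 9, `≠ 9`, `≠ 1`, so `= 3`, so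
`x ^ 3 = x` on `F₁` (`FiniteField.pow_card`), but `i ^ 3 = -i ≠ i`. -/

set_option autoImplicit false

namespace Cfsg.Agent.Lib.Helper74.SU4Q3

open Matrix Cfsg.Geo Cfsg.Agent.Lib.Helper71.Asch

variable {F : Type*} [Field F] [Fintype F]

theorem q3_nosub (hF9 : Fintype.card F = 9) (i : F) (hi : i * i = -1)
    (R : Subgroup (GL (Fin 4) F)) (hR : gI i hi ∈ R) :
    ¬ ∃ F₁ : Subfield F, F₁ ≠ ⊤ ∧ RealisableOver F₁ (matrixSet R) := by
  classical
  rintro ⟨F₁, hne, B, hB⟩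
  have hs : (i • (1 : Matrix (Fin 4) (Fin 4) F)) ∈ matrixSet R := ⟨gI i hi, hR, rfl⟩
  have h00 := hB _ hs 0 0
  have hconj : (B : Matrix (Fin 4) (Fin 4) F) * (i • (1 : Matrix (Fin 4) (Fin 4) F)) *
      ((B⁻¹ : GL (Fin 4) F) : Matrix (Fin 4) (Fin 4) F) = i • 1 := by
    rw [Matrix.mul_smul, Matrix.mul_one, Matrix.smul_mul]
    have h1 : (B : Matrix (Fin 4) (Fin 4) F) *
        ((B⁻¹ : GL (Fin 4) F) : Matrix (Fin 4) (Fin 4) F) = 1 := by
      rw [← Units.val_mul, mul_inv_cancel, Units.val_one]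
    rw [h1]
  rw [hconj] at h00
  have hiF : i ∈ F₁ := by simpa using h00
  -- `3 = 0` and `2 ≠ 0` in `F`
  have h9 : ((9 : ℕ) : F) = 0 := by rw [← hF9]; exact FiniteField.cast_card_eq_zero F
  have h3 : (3 : F) = 0 := by
    have h33 : (3 : F) * 3 = 0 := by
      have h99 : ((9 : ℕ) : F) = 3 * 3 := by norm_num
      rw [← h99]; exact h9
    exact mul_self_eq_zero.mp h33
  have h2 : (2 : F) ≠ 0 := by
    intro h
    have h1 : (1 : F) = 0 := by linear_combination h3 - h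
    exact one_ne_zero h1
  have hi0 : i ≠ 0 := by
    rintro rfl
    have h1 : (1 : F) = 0 := by linear_combination hi
    exact one_ne_zero h1
  -- the additive subgroup underlying `F₁`
  obtain ⟨A, hA⟩ : ∃ A : AddSubgroup F, ∀ x, x ∈ A ↔ x ∈ F₁ :=
    ⟨F₁.toSubring.toAddSubgroup, fun x => Iff.rfl⟩
  have hdvd : Nat.card A ∣ 3 ^ 2 := by
    have h1 := AddSubgroup.card_addSubgroup_dvd_card A
    rw [Nat.card_eq_fintype_card (α := F), hF9] at h1
    exact h1
  obtain ⟨m, hm, hc⟩ := (Nat.dvd_prime_pow Nat.prime_three).mp hdvd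
  interval_cases m
  · -- card 1
    have hsub : Subsingleton A := (Nat.card_eq_one_iff_unique.mp (by simpa using hc)).1
    have h1 := congrArg Subtype.val
      (Subsingleton.elim (⟨0, A.zero_mem⟩ : A) ⟨1, (hA 1).mpr F₁.one_mem⟩)
    exact zero_ne_one h1
  · -- card 3
    haveI : Fintype ↥F₁ := Fintype.ofFinite _
    have hc3 : Fintype.card ↥F₁ = 3 := by
      rw [← Nat.card_eq_fintype_card]
      have h1 : Nat.card ↥F₁ = Nat.card A :=
        Nat.card_congr (Equiv.subtypeEquivRight (fun x => (hA x).symm))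
      rw [h1, hc]; norm_num
    have hp := FiniteField.pow_card (⟨i, hiF⟩ : F₁)
    rw [hc3] at hp
    have hp' : i ^ 3 = i := congrArg Subtype.val hp
    have h1 : (2 : F) * i = 0 := by linear_combination (-1 : F) * hp' + i * hi
    rcases mul_eq_zero.mp h1 with h | h
    · exact h2 h
    · exact hi0 h
  · -- card 9
    apply hne
    have hAtop : A = ⊤ :=
      AddSubgroup.eq_top_of_card_eq A (by rw [hc, Nat.card_eq_fintype_card (α := F), hF9]; norm_num)
    exact eq_top_iff.mpr (fun x _ => (hA x).mp (hAtop ▸ AddSubgroup.mem_top x))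

end Cfsg.Agent.Lib.Helper74.SU4Q3
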