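import Mathlib
import Cfsg.Prelude.Def_GeometricClasses
import Cfsg.Prelude.Def_LieClassical
import Cfsg.Agent.Lib.Helper71.Asch0
import Cfsg.Agent.Lib.Helper71.Asch5
import Cfsg.Agent.Lib.Helper74.SU4Q3Defs

/-! Project SU4 (S5784, 10u), piece Q3MON, sub-board Q3 (helper74): sub-piece `SCAL`.
PLACEHOLDER: replace the `sorry` in this ONE file (keep statement, name, namespace; you may add
imports and helper lemmas with names prefixed `q3scal_`); land on origin/main; mark the job done;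
msg helper74.  Definitions: `SU4Q3Defs.lean` (`q3Z1 q3Z2 q3X1 q3X2 q3T q3Hd q3Dd`, the `GL` elements
`gI gZ1 gZ2 gX1 gX2 gT gDd gHd`, `Rs = closure of gI, gZ1, gZ2, gX1, gX2`, `PT`, `q3xor`, `q3_finn`).
Explicit 4x4 identities: `ext a b; fin_cases a <;> fin_cases b <;> simp [q3Z1, ..., Matrix.mul_apply,
Fin.sum_univ_four]`; equalities in `GL`: `Units.ext`.

EASY-MEDIUM. `gI i hi ∈ R ⊓ scalars` (`Cfsg.Geo.mem_scalars_iff`, `c = i`, a unit since `i * (-i) = 1`).
Its order is 4: `gI ^ 2` has matrix `(i*i) • 1 = -1 ≠ 1` (entry (0,0): `-1 = 1` gives `2 = 0`) and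
`gI ^ 4 = 1`.  So `4 ∣ Nat.card ↥(R ⊓ scalars)` (`Subgroup.orderOf_mk`/`orderOf_dvd_natCard` on the
element of the subgroup; `GL (Fin 4) F` is finite) and the card is not 2. -/

set_option autoImplicit false

namespace Cfsg.Agent.Lib.Helper74.SU4Q3

open Matrix Cfsg.Geo Cfsg.Agent.Lib.Helper71.Asch

variable {F : Type*} [Field F] [Fintype F]

theorem q3_scal (h2 : (2 : F) ≠ 0) (i : F) (hi : i * i = -1) (R : Subgroup (GL (Fin 4) F))
    (hR : gI i hi ∈ R) : Nat.card ↥(R ⊓ scalars (Fin 4) F) ≠ 2 := by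
  intro hcard
  have hne : i ≠ 0 := by
    rintro rfl
    rw [mul_zero] at hi
    have h1 : (1 : F) = 0 := by linear_combination hi
    exact one_ne_zero h1
  have hs : gI i hi ∈ scalars (Fin 4) F := by
    rw [Cfsg.Geo.mem_scalars_iff]
    exact ⟨Units.mk0 i hne, rfl⟩
  have hx : (⟨gI i hi, Subgroup.mem_inf.mpr ⟨hR, hs⟩⟩ : ↥(R ⊓ scalars (Fin 4) F)) ^ 2 = 1 := by
    rw [← hcard]
    exact pow_card_eq_one'
  have h1 : (gI i hi) ^ 2 = 1 := by
    have h2 := congrArg Subtype.val hx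
    simpa using h2
  have h3 : ((gI i hi) ^ 2 : GL (Fin 4) F).1 = (1 : Matrix (Fin 4) (Fin 4) F) := by
    rw [h1]
    rfl
  rw [pow_two, Units.val_mul] at h3
  have h4 : (gI i hi).1 = i • (1 : Matrix (Fin 4) (Fin 4) F) := rfl
  rw [h4, Matrix.smul_mul, Matrix.one_mul, smul_smul, hi] at h3
  have h5 := congrFun (congrFun h3 0) 0
  simp only [Matrix.smul_apply, Matrix.one_apply_eq, smul_eq_mul, mul_one] at h5
  apply h2
  linear_combination -h5

end Cfsg.Agent.Lib.Helper74.SU4Q3
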