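import Mathlib
import Cfsg.Prelude.Def_GeometricClasses
import Cfsg.Prelude.Def_LieClassical
import Cfsg.Agent.Lib.Helper71.Asch0
import Cfsg.Agent.Lib.Helper71.Asch5
import Cfsg.Agent.Lib.Helper74.SU4Q3Defs

/-! Project SU4 (S5784, 10u), piece Q3MON, sub-board Q3 (helper74): sub-piece `TNORM`.
PLACEHOLDER: replace the `sorry` in this ONE file (keep statement, name, namespace; you may add
imports and helper lemmas with names prefixed `q3tnorm_`); land on origin/main; mark the job done;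
msg helper74.  Definitions: `SU4Q3Defs.lean` (`q3Z1 q3Z2 q3X1 q3X2 q3T q3Hd q3Dd`, the `GL` elements
`gI gZ1 gZ2 gX1 gX2 gT gDd gHd`, `Rs = closure of gI, gZ1, gZ2, gX1, gX2`, `PT`, `q3xor`, `q3_finn`).
Explicit 4x4 identities: `ext a b; fin_cases a <;> fin_cases b <;> simp [q3Z1, ..., Matrix.mul_apply,
Fin.sum_univ_four]`; equalities in `GL`: `Units.ext`.

EASY. As elements of `GL`: `gT * gI * gT⁻¹ = gI`, `gT * gZ1 * gT⁻¹ = gZ2`,
`gT * gZ2 * gT⁻¹ = gZ1 * gZ2`, `gT * gX1 * gT⁻¹ = gX1 * gX2`, `gT * gX2 * gT⁻¹ = gX1`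
(prove `gT * s = s' * gT` by `Units.ext` + explicit 4x4 matrix identity, then `mul_inv_eq_of_eq_mul`);
right sides are in the closure.  (Verified numerically: `T Z1 = Z2 T`, `T Z2 = Z1 Z2 T`,
`T X1 = X1 X2 T`, `T X2 = X1 T`.) -/

set_option autoImplicit false

namespace Cfsg.Agent.Lib.Helper74.SU4Q3

open Matrix Cfsg.Geo Cfsg.Agent.Lib.Helper71.Asch

variable {F : Type*} [Field F] [Fintype F]

omit [Fintype F] in
theorem q3tnorm_conj (g s s' : GL (Fin 4) F) (h : g * s = s' * g) : g * s * g⁻¹ = s' := by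
  rw [h, mul_inv_cancel_right]

theorem q3_tnorm (i : F) (hi : i * i = -1) :
    gT F * gI i hi * (gT F)⁻¹ ∈ Rs i hi ∧ gT F * gZ1 F * (gT F)⁻¹ ∈ Rs i hi ∧
    gT F * gZ2 F * (gT F)⁻¹ ∈ Rs i hi ∧ gT F * gX1 F * (gT F)⁻¹ ∈ Rs i hi ∧
    gT F * gX2 F * (gT F)⁻¹ ∈ Rs i hi := by
  have mI : gI i hi ∈ Rs i hi := Subgroup.subset_closure (by simp)
  have mZ1 : gZ1 F ∈ Rs i hi := Subgroup.subset_closure (by simp)
  have mZ2 : gZ2 F ∈ Rs i hi := Subgroup.subset_closure (by simp)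
  have mX1 : gX1 F ∈ Rs i hi := Subgroup.subset_closure (by simp)
  have mX2 : gX2 F ∈ Rs i hi := Subgroup.subset_closure (by simp)
  have e1 : gT F * gI i hi = gI i hi * gT F := Units.ext (by
    show q3T F * (i • (1 : Matrix (Fin 4) (Fin 4) F)) = (i • (1 : Matrix (Fin 4) (Fin 4) F)) * q3T F
    rw [Matrix.mul_smul, Matrix.smul_mul, Matrix.mul_one, Matrix.one_mul])
  have e2 : gT F * gZ1 F = gZ2 F * gT F := Units.ext (by
    show q3T F * q3Z1 F = q3Z2 F * q3T F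
    ext a b
    fin_cases a <;> fin_cases b <;>
      simp [q3T, q3Z1, q3Z2, Matrix.mul_apply, Fin.sum_univ_four])
  have e3 : gT F * gZ2 F = gZ1 F * gZ2 F * gT F := Units.ext (by
    show q3T F * q3Z2 F = q3Z1 F * q3Z2 F * q3T F
    ext a b
    fin_cases a <;> fin_cases b <;>
      simp [q3T, q3Z1, q3Z2, Matrix.mul_apply, Fin.sum_univ_four])
  have e4 : gT F * gX1 F = gX1 F * gX2 F * gT F := Units.ext (by
    show q3T F * q3X1 F = q3X1 F * q3X2 F * q3T F
    ext a b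
    fin_cases a <;> fin_cases b <;>
      simp [q3T, q3X1, q3X2, Matrix.mul_apply, Fin.sum_univ_four])
  have e5 : gT F * gX2 F = gX1 F * gT F := Units.ext (by
    show q3T F * q3X2 F = q3X1 F * q3T F
    ext a b
    fin_cases a <;> fin_cases b <;>
      simp [q3T, q3X1, q3X2, Matrix.mul_apply, Fin.sum_univ_four])
  refine ⟨?_, ?_, ?_, ?_, ?_⟩
  · rw [q3tnorm_conj _ _ _ e1]
    exact mI
  · rw [q3tnorm_conj _ _ _ e2]
    exact mZ2
  · rw [q3tnorm_conj _ _ _ e3]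
    exact mul_mem mZ1 mZ2
  · rw [q3tnorm_conj _ _ _ e4]
    exact mul_mem mX1 mX2
  · rw [q3tnorm_conj _ _ _ e5]
    exact mX1

end Cfsg.Agent.Lib.Helper74.SU4Q3
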