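import Mathlib
import Cfsg.Prelude.Def_GeometricClasses
import Cfsg.Prelude.Def_LieClassical
import Cfsg.Agent.Lib.Helper71.Asch0
import Cfsg.Agent.Lib.Helper71.Asch5
import Cfsg.Agent.Lib.Helper74.SU4Q3Defs

/-! Project SU4 (S5784, 10u), piece Q3MON, sub-board Q3 (helper74): sub-piece `TRANS`.
PLACEHOLDER: replace the `sorry` in this ONE file (keep statement, name, namespace; you may add
imports and helper lemmas with names prefixed `q3trans_`); land on origin/main; mark the job done;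
msg helper74.  Definitions: `SU4Q3Defs.lean` (`q3Z1 q3Z2 q3X1 q3X2 q3T q3Hd q3Dd`, the `GL` elements
`gI gZ1 gZ2 gX1 gX2 gT gDd gHd`, `Rs = closure of gI, gZ1, gZ2, gX1, gX2`, `PT`, `q3xor`, `q3_finn`).
Explicit 4x4 identities: `ext a b; fin_cases a <;> fin_cases b <;> simp [q3Z1, ..., Matrix.mul_apply,
Fin.sum_univ_four]`; equalities in `GL`: `Units.ext`.

MEDIUM (generic, no explicit matrices). `IsMinNS H L`: `le : L ≤ H`, `nrm : Nrm H L`
(`∀ h ∈ H, ∀ x ∈ L, h * x * h⁻¹ ∈ L`), `ns : ¬ L ≤ scalars (Fin 4) F`,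
`min : ∀ L' ≤ L, Nrm H L' → L' ≤ scalars ∨ L' = L`.  With `φ := (MulAut.conj P).toMonoidHom`
(`φ x = P * x * P⁻¹`, injective; `scalars` is normal: `Cfsg.Geo.scalars_normal`, so
`x ∈ scalars ↔ φ x ∈ scalars`): `le`: `Subgroup.map_mono`; `nrm`: `φ h * φ x * (φ h)⁻¹ = φ (h * x * h⁻¹)`;
`ns`: if `R.map φ ≤ scalars` then `R ≤ scalars`; `min`: for `L'' ≤ R.map φ` normalised by `K.map φ`
apply `h.min` to `L''.comap φ` (`≤ R` by injectivity; normalised by `K`), then map back
(`L'' = (L''.comap φ).map φ` since `L'' ≤ range`, or argue elementwise). -/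

set_option autoImplicit false

namespace Cfsg.Agent.Lib.Helper74.SU4Q3

open Matrix Cfsg.Geo Cfsg.Agent.Lib.Helper71.Asch

variable {F : Type*} [Field F] [Fintype F]

theorem q3_trans (P : GL (Fin 4) F) (K R : Subgroup (GL (Fin 4) F)) (h : IsMinNS K R) :
    IsMinNS (K.map (MulAut.conj P).toMonoidHom) (R.map (MulAut.conj P).toMonoidHom) := by
  have hφ : ∀ x : GL (Fin 4) F, (MulAut.conj P).toMonoidHom x = P * x * P⁻¹ := fun x => rfl
  have hinj : Function.Injective (MulAut.conj P).toMonoidHom := (MulAut.conj P).injective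
  have hsc : ∀ x : GL (Fin 4) F, (MulAut.conj P).toMonoidHom x ∈ scalars (Fin 4) F →
      x ∈ scalars (Fin 4) F := by
    intro x hx
    have h1 := (scalars_normal (ι := Fin 4) (F := F)).conj_mem _ hx P⁻¹
    have e : P⁻¹ * (MulAut.conj P).toMonoidHom x * P⁻¹⁻¹ = x := by
      rw [hφ]
      group
    rw [e] at h1
    exact h1
  have hsc' : ∀ x : GL (Fin 4) F, x ∈ scalars (Fin 4) F →
      (MulAut.conj P).toMonoidHom x ∈ scalars (Fin 4) F := by
    intro x hx
    rw [hφ]
    exact (scalars_normal (ι := Fin 4) (F := F)).conj_mem _ hx P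
  refine ⟨Subgroup.map_mono h.le, ?_, ?_, ?_⟩
  · rintro _ ⟨k, hk, rfl⟩ _ ⟨r, hr, rfl⟩
    refine ⟨k * r * k⁻¹, h.nrm k hk r hr, ?_⟩
    rw [map_mul, map_mul, map_inv]
  · intro hle
    apply h.ns
    intro r hr
    exact hsc r (hle ⟨r, hr, rfl⟩)
  · intro L'' hL'' hn
    have hL'R : L''.comap (MulAut.conj P).toMonoidHom ≤ R := by
      intro x hx
      obtain ⟨r, hr, hrx⟩ := hL'' (Subgroup.mem_comap.mp hx)
      have e : r = x := hinj hrx
      rw [← e]
      exact hr
    have hL'n : Nrm K (L''.comap (MulAut.conj P).toMonoidHom) := by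
      intro k hk x hx
      rw [Subgroup.mem_comap, map_mul, map_mul, map_inv]
      exact hn _ ⟨k, hk, rfl⟩ _ (Subgroup.mem_comap.mp hx)
    rcases h.min _ hL'R hL'n with h1 | h1
    · left
      intro y hy
      obtain ⟨r, hr, rfl⟩ := hL'' hy
      exact hsc' r (h1 (Subgroup.mem_comap.mpr hy))
    · right
      apply le_antisymm hL''
      rintro _ ⟨r, hr, rfl⟩
      rw [← h1] at hr
      exact Subgroup.mem_comap.mp hr

end Cfsg.Agent.Lib.Helper74.SU4Q3
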