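import Mathlib
import Cfsg.Prelude.Def_GeometricClasses
import Cfsg.Prelude.Def_LieClassical
import Cfsg.Agent.Lib.Helper71.Asch0
import Cfsg.Agent.Lib.Helper71.Asch5
import Cfsg.Agent.Lib.Helper74.SU4Q3Defs
import Cfsg.Agent.Lib.Helper74.SU4Q3GU
import Cfsg.Agent.Lib.Helper74.SU4Q3COMM
import Cfsg.Agent.Lib.Helper74.SU4Q3CMT
import Cfsg.Agent.Lib.Helper74.SU4Q3IRR
import Cfsg.Agent.Lib.Helper74.SU4Q3SCAL
import Cfsg.Agent.Lib.Helper74.SU4Q3NOSUB
import Cfsg.Agent.Lib.Helper74.SU4Q3PTMEM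
import Cfsg.Agent.Lib.Helper74.SU4Q3MEMPT
import Cfsg.Agent.Lib.Helper74.SU4Q3MFORM
import Cfsg.Agent.Lib.Helper74.SU4Q3MCONJ
import Cfsg.Agent.Lib.Helper74.SU4Q3DCONJ
import Cfsg.Agent.Lib.Helper74.SU4Q3NGEN
import Cfsg.Agent.Lib.Helper74.SU4Q3TNORM
import Cfsg.Agent.Lib.Helper74.SU4Q3DNORM
import Cfsg.Agent.Lib.Helper74.SU4Q3HNORM
import Cfsg.Agent.Lib.Helper74.SU4Q3MINA
import Cfsg.Agent.Lib.Helper74.SU4Q3MINB
import Cfsg.Agent.Lib.Helper74.SU4Q3TRANS
import Cfsg.Agent.Lib.Helper65.FR5T1b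
import Cfsg.Agent.Lib.Helper83.UDONB
import Cfsg.Agent.Lib.Helper47.UDADAPT
import Cfsg.Agent.Lib.Helper44.UDCONJ

/-! Project SU4 (helper50; S5784), piece `Q3MON` (helper74): for `q = 3` the stabiliser in
`SU_4(3)` of an orthogonal frame normalises the 2-qubit Pauli group `R = 4 ∘ 2^{1+4}` of the frame,
and `SymT (normaliser R) R`.  Assembly of the sub-board `Q3` (`SU4Q3*.lean`). -/

set_option autoImplicit false

namespace Cfsg.Agent.Lib.Helper74.SU4Q3MON

open Matrix Cfsg.Geo Cfsg.Agent.Lib.Helper71.Asch Cfsg.Agent.Lib.Helper74.SU4Q3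
open scoped Kronecker

variable {n : ℕ} {F : Type*} [Field F] [Fintype F] {q : ℕ}

theorem q3mon_three (hF9 : Fintype.card F = 9) : (3 : F) = 0 := by
  have h := Nat.cast_card_eq_zero F
  rw [hF9] at h
  have h9 : (3 : F) * 3 = 0 := by
    have e : ((9 : ℕ) : F) = 3 * 3 := by norm_num
    rw [← e]
    exact h
  exact mul_self_eq_zero.mp h9

omit [Fintype F] in
theorem q3mon_two (h3 : (3 : F) = 0) : (2 : F) ≠ 0 := by
  intro h2
  have h1 : (1 : F) = 0 := by linear_combination h3 - h2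
  exact one_ne_zero h1

theorem q3mon_i (hF9 : Fintype.card F = 9) : ∃ i : F, i * i = -1 := by
  have h := (FiniteField.isSquare_neg_one_iff (F := F)).mpr (by rw [hF9]; norm_num)
  obtain ⟨i, hi⟩ := h
  exact ⟨i, hi.symm⟩

theorem q3mon_symt (hF9 : Fintype.card F = 9) (i : F) (hi : i * i = -1) :
    SymT (subgroupNormalizer (Rs i hi)) (Rs i hi) := by
  have h3 := q3mon_three hF9
  have h2 := q3mon_two h3
  have hT : gT F ∈ subgroupNormalizer (Rs i hi) := by
    obtain ⟨a, b, c, d, e⟩ := q3_tnorm i hi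
    exact q3_ngen i hi _ a b c d e
  have hD : gDd i hi ∈ subgroupNormalizer (Rs i hi) := by
    obtain ⟨a, b, c, d, e⟩ := q3_dnorm i hi
    exact q3_ngen i hi _ a b c d e
  have hH : gHd h3 ∈ subgroupNormalizer (Rs i hi) := by
    obtain ⟨a, b, c, d, e⟩ := q3_hnorm i hi h3
    exact q3_ngen i hi _ a b c d e
  have hZ1 : gZ1 F ∈ Rs i hi := Subgroup.subset_closure (by simp)
  have hZ2 : gZ2 F ∈ Rs i hi := Subgroup.subset_closure (by simp)
  have hX1 : gX1 F ∈ Rs i hi := Subgroup.subset_closure (by simp)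
  have hX2 : gX2 F ∈ Rs i hi := Subgroup.subset_closure (by simp)
  refine ⟨⟨?_, ?_, ?_, ?_⟩, ⟨q3_irr h2 i hi, ?_⟩, q3_comm i hi⟩
  · exact Subgroup.le_normalizer
  · intro h hh x hx
    exact (Subgroup.mem_normalizer_iff.mp hh x).mp hx
  · intro hle
    have hs := hle hZ1
    rw [mem_scalars_iff] at hs
    obtain ⟨c, hc⟩ := hs
    have e0 := congrFun (congrFun hc 0) 0
    have e2 := congrFun (congrFun hc 2) 2
    simp [gZ1, q3Z1] at e0 e2
    apply h2
    linear_combination e0 - e2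
  · intro L hL hn
    by_cases hs : L ≤ scalars (Fin 4) F
    · exact Or.inl hs
    · right
      obtain ⟨z1, z2⟩ := q3_mina h2 i hi (q3_ptmem i hi) (q3_dconj i hi) hT hD L hL hn hs
      obtain ⟨x1, x2, ii⟩ := q3_minb i hi h3 hT hD hH L hn z1 z2
      apply le_antisymm hL
      unfold Rs
      rw [Subgroup.closure_le]
      intro s hs'
      rcases hs' with h | h | h | h | h
      · rw [h]; exact ii
      · rw [h]; exact z1
      · rw [h]; exact z2
      · rw [h]; exact x1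
      · rw [Set.mem_singleton_iff] at h
        rw [h]; exact x2
  · intro M hM
    exact q3_cmt h2 M (hM _ ⟨gZ1 F, hZ1, rfl⟩) (hM _ ⟨gZ2 F, hZ2, rfl⟩) (hM _ ⟨gX1 F, hX1, rfl⟩)
      (hM _ ⟨gX2 F, hX2, rfl⟩)

theorem q3mon_mono (hF9 : Fintype.card F = 9) (i : F) (hi : i * i = -1) (A : GL (Fin 4) F)
    (hA : A ∈ Cfsg.GU 4 F 3) (hdet : (A : Matrix (Fin 4) (Fin 4) F).det = 1)
    (σ : Equiv.Perm (Fin 4)) (hσ : ∀ j k, (A : Matrix (Fin 4) (Fin 4) F) j k ≠ 0 → j = σ k) :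
    A ∈ subgroupNormalizer (Rs i hi) := by
  have h3 := q3mon_three hF9
  have h2 := q3mon_two h3
  obtain ⟨a, hAa, ha4, hprod⟩ := q3_mform A hA hdet σ hσ
  show A ∈ Subgroup.normalizer ((Rs i hi : Subgroup (GL (Fin 4) F)) : Set (GL (Fin 4) F))
  apply q3_finn
  intro x hx
  apply q3_mempt h2 i hi
  apply q3_mconj h2 σ a (A : Matrix (Fin 4) (Fin 4) F) (x : Matrix (Fin 4) (Fin 4) F) _ hAa ha4
    hprod (q3_ptmem i hi x hx)
  rw [← Units.val_mul, ← Units.val_mul]
  congr 1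
  group

omit [Fintype F] in
theorem q3mon_central (i : F) (hi : i * i = -1) (P : GL (Fin 4) F) :
    (MulAut.conj P).toMonoidHom (gI i hi) = gI i hi := by
  have e : P * gI i hi = gI i hi * P := by
    apply Units.ext
    rw [Units.val_mul, Units.val_mul]
    show (P : Matrix (Fin 4) (Fin 4) F) * (i • 1) = (i • 1) * (P : Matrix (Fin 4) (Fin 4) F)
    rw [Matrix.mul_smul, Matrix.smul_mul, Matrix.mul_one, Matrix.one_mul]
  show P * gI i hi * P⁻¹ = gI i hi
  rw [e, mul_inv_cancel_right]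

/-- Q3MON: for `q = 3` the stabiliser in `SU_4(3)` of an orthogonal frame normalises a
symplectic-type group `R = 4 ∘ 2^{1+4}` (the Pauli group of the frame), which is a minimal
non-scalar normal subgroup of its normaliser `K`. -/
theorem Q3MON (hF : Fintype.card F = q ^ 2) (hq : q = 3) (D : Fin 4 → Submodule F (Fin 4 → F))
    (hD : IsNondegenerateMDecomposition (Cfsg.hermForm 4 F q) 1 D) :
    ∃ K R : Subgroup (GL (Fin 4) F), SymT K R ∧ R ≤ Cfsg.GU 4 F q ∧
      Nat.card ↥(R ⊓ scalars (Fin 4) F) ≠ 2 ∧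
      (¬ ∃ F₁ : Subfield F, F₁ ≠ ⊤ ∧ RealisableOver F₁ (matrixSet R)) ∧
      decompositionStabilizer D ⊓ (Cfsg.GU 4 F q ⊓ specialLinear (Fin 4) F) ≤
        subgroupNormalizer R := by
  subst hq
  have hF9 : Fintype.card F = 9 := by rw [hF]; norm_num
  have h3 := q3mon_three hF9
  have h2 := q3mon_two h3
  obtain ⟨i, hi⟩ := q3mon_i hF9
  obtain ⟨e, P, hPG, hPD⟩ := Cfsg.Agent.Lib.Helper44.UD.ud_adapt 3
    (Cfsg.Agent.Lib.Helper44.UD.ud_onb 3) hF 4 4 1 D hD
  have hconj := Cfsg.Agent.Lib.Helper44.UD.ud_conj 3 hF 4 4 1 D hD e P hPG hPD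
  have hsym := q3mon_symt hF9 i hi
  have hIm : gI i hi ∈ (Rs i hi).map (MulAut.conj P).toMonoidHom :=
    ⟨gI i hi, Subgroup.subset_closure (by simp), q3mon_central i hi P⟩
  refine ⟨(subgroupNormalizer (Rs i hi)).map (MulAut.conj P).toMonoidHom,
    (Rs i hi).map (MulAut.conj P).toMonoidHom,
    ⟨q3_trans P _ _ hsym.min, Cfsg.Agent.Lib.Helper65.FR5.T1b _ P hsym.abs, ?_⟩, ?_,
    q3_scal h2 i hi _ hIm, q3_nosub hF9 i hi _ hIm, ?_⟩
  · rw [← Subgroup.map_commutator]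
    rintro y ⟨x, hx, rfl⟩
    exact (scalars_normal).conj_mem x (hsym.comm hx) P
  · rintro y ⟨x, hx, rfl⟩
    exact Subgroup.mul_mem _ (Subgroup.mul_mem _ hPG (q3_gu i hi hx)) (Subgroup.inv_mem _ hPG)
  · intro g hg
    have hgD : g ∈ decompositionStabilizer D := hg.1
    have hgU : g ∈ Cfsg.GU 4 F 3 := hg.2.1
    have hgS : g ∈ specialLinear (Fin 4) F := hg.2.2
    obtain ⟨σ0, hσ0⟩ := (hconj g).mp hgD
    -- the blocks are singletons
    have hinj : Function.Injective (Cfsg.Agent.Lib.Helper44.UD.blkOf e) := by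
      intro a b hab
      apply e.injective
      exact Prod.ext hab (Subsingleton.elim _ _)
    let βe : Fin 4 ≃ Fin 4 := Equiv.ofBijective _ ⟨hinj, Finite.injective_iff_surjective.mp hinj⟩
    have hβ : ∀ a, βe a = Cfsg.Agent.Lib.Helper44.UD.blkOf e a := fun a => rfl
    have hA : P⁻¹ * g * P ∈ subgroupNormalizer (Rs i hi) := by
      apply q3mon_mono hF9 i hi (P⁻¹ * g * P)
        (Subgroup.mul_mem _ (Subgroup.mul_mem _ (Subgroup.inv_mem _ hPG) hgU) hPG) ?_
        (βe.trans (σ0.trans βe.symm))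
      · intro j k hjk
        have h1 := hσ0 j k hjk
        rw [← hβ, ← hβ] at h1
        simp only [Equiv.trans_apply]
        rw [← h1, Equiv.symm_apply_apply]
      · have hd : Matrix.GeneralLinearGroup.det g = 1 := hgS
        have hg1 : (g : Matrix (Fin 4) (Fin 4) F).det = 1 := by
          have hd'' := congrArg Units.val hd
          simpa using hd''
        rw [Units.val_mul, Units.val_mul, Matrix.det_mul, Matrix.det_mul, hg1, mul_one,
          ← Matrix.det_mul, ← Units.val_mul, inv_mul_cancel, Units.val_one, Matrix.det_one]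
    have hm := Subgroup.le_normalizer_map (H := Rs i hi) (MulAut.conj P).toMonoidHom
      (Subgroup.mem_map_of_mem _ hA)
    have e1 : (MulAut.conj P).toMonoidHom (P⁻¹ * g * P) = g := by
      show P * (P⁻¹ * g * P) * P⁻¹ = g
      group
    rw [e1] at hm
    exact hm

end Cfsg.Agent.Lib.Helper74.SU4Q3MON
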