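import Mathlib
import Cfsg.Prelude.Def_GeometricClasses
import Cfsg.Prelude.Def_LieClassical
import Cfsg.Agent.Lib.Helper71.Asch0
import Cfsg.Agent.Lib.Helper71.Asch5
import Cfsg.Agent.Lib.Helper74.SU4Q3Defs

/-! Project SU4 (S5784, 10u), piece Q3MON, sub-board Q3 (helper74): sub-piece `PTMEM`.
PLACEHOLDER: replace the `sorry` in this ONE file (keep statement, name, namespace; you may add
imports and helper lemmas with names prefixed `q3ptmem_`); land on origin/main; mark the job done;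
msg helper74.  Definitions: `SU4Q3Defs.lean` (`q3Z1 q3Z2 q3X1 q3X2 q3T q3Hd q3Dd`, the `GL` elements
`gI gZ1 gZ2 gX1 gX2 gT gDd gHd`, `Rs = closure of gI, gZ1, gZ2, gX1, gX2`, `PT`, `q3xor`, `q3_finn`).
Explicit 4x4 identities: `ext a b; fin_cases a <;> fin_cases b <;> simp [q3Z1, ..., Matrix.mul_apply,
Fin.sum_univ_four]`; equalities in `GL`: `Units.ext`.

MEDIUM-HARD. Closure induction (`Subgroup.closure_induction`).  Generators: `gI`: `t = 0`, `c = fun _ => i`
(`i^4 = (i*i)^2 = 1`); `gZ1`: `t = 0`, `c = ![1,1,-1,-1]`; `gZ2`: `t = 0`, `c = ![1,-1,1,-1]`;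
`gX1`: `t = 2`, `c = 1`; `gX2`: `t = 1`, `c = 1`.  One: `t = 0`, `c = 1`.
Product: if `M` has data `(t, c)` and `M'` has `(t', c')` then `M * M'` has data
`(q3xor t t', fun l => c (q3xor t' l) * c' l)`: entries by `fin_cases t <;> fin_cases t'` then
`ext`/`fin_cases` + `simp [Matrix.mul_apply, Fin.sum_univ_four, hM, hM', q3xor]`; `c''^4 = 1` by `mul_pow`;
`c'' l ^ 2 = c 0 ^ 2 * c' 0 ^ 2 = c'' 0 ^ 2`; the product is a permutation of `∏ c * ∏ c' = 1`
(`fin_cases t'`, `linear_combination`/`ring`-style).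
Inverse: if `g.1` has data `(t, c)` then `N := of fun j k => if j = q3xor t k then (c (q3xor t k))⁻¹ else 0`
satisfies `g.1 * N = 1` (`c k ≠ 0` as `c k ^ 4 = 1`), so `g⁻¹.1 = N` (`Units.inv_eq_of_mul_eq_one_right` /
`Matrix.inv_eq_right_inv`), with data `(t, fun k => (c (q3xor t k))⁻¹)`.  (Alternative avoiding inverses:
every generator has finite order, so induct over the submonoid closure.) -/

set_option autoImplicit false

namespace Cfsg.Agent.Lib.Helper74.SU4Q3

open Matrix Cfsg.Geo Cfsg.Agent.Lib.Helper71.Asch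

variable {F : Type*} [Field F] [Fintype F]

theorem q3ptmem_xor_assoc :
    ∀ t t' k : Fin 4, q3xor t (q3xor t' k) = q3xor (q3xor t t') k := by decide

theorem q3ptmem_xor_zero : ∀ k : Fin 4, q3xor 0 k = k := by decide

omit [Fintype F] in
theorem q3ptmem_perm (t : Fin 4) (c : Fin 4 → F) :
    c (q3xor t 0) * c (q3xor t 1) * c (q3xor t 2) * c (q3xor t 3) = c 0 * c 1 * c 2 * c 3 := by
  fin_cases t
  · show c 0 * c 1 * c 2 * c 3 = c 0 * c 1 * c 2 * c 3
    rfl
  · show c 1 * c 0 * c 3 * c 2 = c 0 * c 1 * c 2 * c 3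
    ring
  · show c 2 * c 3 * c 0 * c 1 = c 0 * c 1 * c 2 * c 3
    ring
  · show c 3 * c 2 * c 1 * c 0 = c 0 * c 1 * c 2 * c 3
    ring

omit [Fintype F] in
theorem q3ptmem_mul (M M' : Matrix (Fin 4) (Fin 4) F) (h : PT M) (h' : PT M') : PT (M * M') := by
  obtain ⟨t, c, hM, hc4, hc2, hcp⟩ := h
  obtain ⟨t', c', hM', hc4', hc2', hcp'⟩ := h'
  refine ⟨q3xor t t', fun k => c (q3xor t' k) * c' k, ?_, ?_, ?_, ?_⟩
  · intro j k
    show (M * M') j k = if j = q3xor (q3xor t t') k then c (q3xor t' k) * c' k else 0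
    rw [Matrix.mul_apply, Finset.sum_eq_single (q3xor t' k)]
    · rw [hM, hM', if_pos rfl, q3ptmem_xor_assoc, ite_mul, zero_mul]
    · intro l _ hl
      rw [hM' l k, if_neg hl, mul_zero]
    · intro h
      exact absurd (Finset.mem_univ _) h
  · intro k
    show (c (q3xor t' k) * c' k) ^ 4 = 1
    rw [mul_pow, hc4, hc4', one_mul]
  · intro k
    show (c (q3xor t' k) * c' k) ^ 2 = (c (q3xor t' 0) * c' 0) ^ 2
    rw [mul_pow, mul_pow, hc2 (q3xor t' k), hc2' k, hc2 (q3xor t' 0)]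
  · show c (q3xor t' 0) * c' 0 * (c (q3xor t' 1) * c' 1) * (c (q3xor t' 2) * c' 2) *
      (c (q3xor t' 3) * c' 3) = 1
    have hperm := q3ptmem_perm t' c
    linear_combination (c' 0 * c' 1 * c' 2 * c' 3) * hperm + (c' 0 * c' 1 * c' 2 * c' 3) * hcp + hcp'

omit [Fintype F] in
theorem q3ptmem_one : PT (1 : Matrix (Fin 4) (Fin 4) F) := by
  refine ⟨0, fun _ => 1, ?_, ?_, ?_, ?_⟩
  · intro j k
    show (1 : Matrix (Fin 4) (Fin 4) F) j k = if j = q3xor 0 k then 1 else 0
    rw [q3ptmem_xor_zero, Matrix.one_apply]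
  · intro k
    show (1 : F) ^ 4 = 1
    rw [one_pow]
  · intro k
    rfl
  · show (1 : F) * 1 * 1 * 1 = 1
    rw [mul_one, mul_one, mul_one]

omit [Fintype F] in
theorem q3ptmem_pow (M : Matrix (Fin 4) (Fin 4) F) (h : PT M) (k : ℕ) : PT (M ^ k) := by
  induction k with
  | zero => rw [pow_zero]; exact q3ptmem_one
  | succ k ih => rw [pow_succ]; exact q3ptmem_mul _ _ ih h

theorem q3ptmem_inv (g : GL (Fin 4) F) (h : PT (g : Matrix (Fin 4) (Fin 4) F)) :
    PT ((g⁻¹ : GL (Fin 4) F) : Matrix (Fin 4) (Fin 4) F) := by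
  have hfin : IsOfFinOrder g := isOfFinOrder_of_finite g
  have hpos : 0 < orderOf g := hfin.orderOf_pos
  have hinv : g⁻¹ = g ^ (orderOf g - 1) := by
    apply inv_eq_of_mul_eq_one_right
    rw [← pow_succ', Nat.sub_add_cancel hpos, pow_orderOf_eq_one]
  rw [hinv, Units.val_pow_eq_pow_val]
  exact q3ptmem_pow _ h _

omit [Fintype F] in
theorem q3ptmem_gI (i : F) (hi : i * i = -1) :
    PT ((gI i hi : GL (Fin 4) F) : Matrix (Fin 4) (Fin 4) F) := by
  refine ⟨0, fun _ => i, ?_, ?_, ?_, ?_⟩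
  · intro j k
    show (i • (1 : Matrix (Fin 4) (Fin 4) F)) j k = if j = q3xor 0 k then i else 0
    rw [q3ptmem_xor_zero, Matrix.smul_apply, Matrix.one_apply]
    split_ifs <;> simp
  · intro k
    show i ^ 4 = 1
    linear_combination (i * i - 1) * hi
  · intro k
    rfl
  · show i * i * i * i = 1
    linear_combination (i * i - 1) * hi

omit [Fintype F] in
theorem q3ptmem_gZ1 : PT ((gZ1 F : GL (Fin 4) F) : Matrix (Fin 4) (Fin 4) F) := by
  refine ⟨0, ![1, 1, -1, -1], ?_, ?_, ?_, ?_⟩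
  · intro j k
    show q3Z1 F j k = _
    fin_cases j <;> fin_cases k <;> simp [q3Z1, q3xor]
  · intro k
    fin_cases k <;> norm_num
  · intro k
    fin_cases k <;> norm_num
  · show (1 : F) * 1 * (-1) * (-1) = 1
    ring

omit [Fintype F] in
theorem q3ptmem_gZ2 : PT ((gZ2 F : GL (Fin 4) F) : Matrix (Fin 4) (Fin 4) F) := by
  refine ⟨0, ![1, -1, 1, -1], ?_, ?_, ?_, ?_⟩
  · intro j k
    show q3Z2 F j k = _
    fin_cases j <;> fin_cases k <;> simp [q3Z2, q3xor]
  · intro k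
    fin_cases k <;> norm_num
  · intro k
    fin_cases k <;> norm_num
  · show (1 : F) * (-1) * 1 * (-1) = 1
    ring

omit [Fintype F] in
theorem q3ptmem_gX1 : PT ((gX1 F : GL (Fin 4) F) : Matrix (Fin 4) (Fin 4) F) := by
  refine ⟨2, fun _ => 1, ?_, ?_, ?_, ?_⟩
  · intro j k
    show q3X1 F j k = _
    fin_cases j <;> fin_cases k <;> simp [q3X1, q3xor]
  · intro k
    show (1 : F) ^ 4 = 1
    rw [one_pow]
  · intro k
    rfl
  · show (1 : F) * 1 * 1 * 1 = 1
    rw [mul_one, mul_one, mul_one]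

omit [Fintype F] in
theorem q3ptmem_gX2 : PT ((gX2 F : GL (Fin 4) F) : Matrix (Fin 4) (Fin 4) F) := by
  refine ⟨1, fun _ => 1, ?_, ?_, ?_, ?_⟩
  · intro j k
    show q3X2 F j k = _
    fin_cases j <;> fin_cases k <;> simp [q3X2, q3xor]
  · intro k
    show (1 : F) ^ 4 = 1
    rw [one_pow]
  · intro k
    rfl
  · show (1 : F) * 1 * 1 * 1 = 1
    rw [mul_one, mul_one, mul_one]

theorem q3_ptmem (i : F) (hi : i * i = -1) (g : GL (Fin 4) F) (hg : g ∈ Rs i hi) :
    PT (g : Matrix (Fin 4) (Fin 4) F) := by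
  unfold Rs at hg
  induction hg using Subgroup.closure_induction with
  | mem x hx =>
    simp only [Set.mem_insert_iff, Set.mem_singleton_iff] at hx
    rcases hx with rfl | rfl | rfl | rfl | rfl
    · exact q3ptmem_gI i hi
    · exact q3ptmem_gZ1
    · exact q3ptmem_gZ2
    · exact q3ptmem_gX1
    · exact q3ptmem_gX2
  | one => exact q3ptmem_one
  | mul x y _ _ hx hy =>
    rw [Units.val_mul]
    exact q3ptmem_mul _ _ hx hy
  | inv x _ hx => exact q3ptmem_inv x hx

end Cfsg.Agent.Lib.Helper74.SU4Q3
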