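import Mathlib
import Cfsg.Agent.Lib.Helper74.LinDL

set_option autoImplicit false

/-! Lower bounds for derived lengths via regular wreath products and their induced
representations (helper74).

* `derivedSeries_succ_ne_bot`: if a subgroup of the commutator subgroup of `H` maps onto `D`,
  then `derivedSeries D i ≠ ⊥` gives `derivedSeries H (i + 1) ≠ ⊥`.
* `wreath_derivedSeries_ne_bot`: the case `H = D ≀ᵣ Q`, `Q` nontrivial.
* `wrRep`: the representation of `D ≀ᵣ Q` on `Q → W` induced from a representation of `D` on `W`.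
* `HasRep F p k d`: some finite `p`-group with nontrivial `k`-th derived subgroup has a faithful
  representation of dimension `d` over `F`.
* `sylow_derivedSeries_ne_bot`: transfer to Sylow subgroups.
-/

namespace Cfsg.Agent.Lib.Helper74.Wreath

open Cfsg.Agent.Lib.Helper74.LinDL

open scoped commutatorElement

universe u v

section Abstract

theorem injective_of_map_eq_one {G M : Type*} [Group G] [Monoid M] (f : G →* M)
    (h : ∀ a, f a = 1 → a = 1) : Function.Injective f := by
  intro a b hab
  have h1 : f (a⁻¹ * b) = 1 := by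
    rw [map_mul, ← hab, ← map_mul, inv_mul_cancel, map_one]
  exact inv_mul_eq_one.1 (h _ h1)

/-- Injective homomorphisms reflect triviality of terms of the derived series. -/
theorem derivedSeries_eq_bot_of_injective {A B : Type*} [Group A] [Group B] (f : A →* B)
    (hf : Function.Injective f) (k : ℕ) (h : derivedSeries B k = ⊥) :
    derivedSeries A k = ⊥ := by
  have h1 := map_derivedSeries_le_derivedSeries f k
  rw [h] at h1
  rw [eq_bot_iff]
  intro x hx
  have h2 : f x ∈ (⊥ : Subgroup B) := h1 (Subgroup.mem_map_of_mem f hx)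
  rw [Subgroup.mem_bot] at h2 ⊢
  exact hf (by rw [h2, map_one])

/-- If a subgroup of the commutator subgroup of `H` maps onto `D`, the derived length of `H`
exceeds that of `D`. -/
theorem derivedSeries_succ_ne_bot {H D : Type*} [Group H] [Group D] (D₁ : Subgroup H)
    (hD₁ : D₁ ≤ commutator H) (ψ : D₁ →* D) (hψ : Function.Surjective ψ) (i : ℕ)
    (h : derivedSeries D i ≠ ⊥) : derivedSeries H (i + 1) ≠ ⊥ := by
  have h1 : derivedSeries D₁ i ≠ ⊥ := by
    intro h0
    apply h
    rw [← map_derivedSeries_eq hψ i, h0, Subgroup.map_bot]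
  have h2 : ∀ j, (derivedSeries D₁ j).map D₁.subtype ≤ derivedSeries H (j + 1) := by
    intro j
    induction j with
    | zero =>
      rw [derivedSeries_zero, ← MonoidHom.range_eq_map, Subgroup.range_subtype,
        derivedSeries_succ, derivedSeries_zero]
      exact hD₁
    | succ j ih =>
      rw [derivedSeries_succ, Subgroup.map_commutator, derivedSeries_succ (G := H) (n := j + 1)]
      exact Subgroup.commutator_mono ih ih
  intro h0
  apply h1
  rw [eq_bot_iff]
  intro x hx
  have h3 : (x : H) ∈ derivedSeries H (i + 1) := h2 i (Subgroup.mem_map_of_mem _ hx)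
  rw [h0, Subgroup.mem_bot] at h3
  rw [Subgroup.mem_bot]
  exact Subtype.ext h3

open RegularWreathProduct in
/-- The derived length of `D ≀ᵣ Q` exceeds that of `D` when `Q` is nontrivial. -/
theorem wreath_derivedSeries_ne_bot {D Q : Type*} [Group D] [Group Q] [Nontrivial Q] (i : ℕ)
    (h : derivedSeries D i ≠ ⊥) : derivedSeries (D ≀ᵣ Q) (i + 1) ≠ ⊥ := by
  classical
  obtain ⟨q, hq⟩ := exists_ne (1 : Q)
  let D₁ : Subgroup (D ≀ᵣ Q) := commutator (D ≀ᵣ Q) ⊓ (rightHom (D := D) (Q := Q)).ker
  let ψ : D₁ →* D :=
    { toFun := fun a => a.1.left 1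
      map_one' := rfl
      map_mul' := by
        intro a b
        have ha : a.1.right = 1 := a.2.2
        simp [ha] }
  refine derivedSeries_succ_ne_bot D₁ inf_le_left ψ ?_ i h
  intro d
  have hc : ⁅(⟨Pi.mulSingle 1 d, 1⟩ : D ≀ᵣ Q), inl q⁆ ∈ D₁ := by
    refine ⟨?_, ?_⟩
    · rw [commutator_def]
      exact Subgroup.commutator_mem_commutator (Subgroup.mem_top _) (Subgroup.mem_top _)
    · show rightHom (D := D) (Q := Q) ⁅(⟨Pi.mulSingle 1 d, 1⟩ : D ≀ᵣ Q), inl q⁆ = 1
      rw [commutatorElement_def]
      simp
  refine ⟨⟨_, hc⟩, ?_⟩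
  show (⁅(⟨Pi.mulSingle 1 d, 1⟩ : D ≀ᵣ Q), inl q⁆).left 1 = d
  rw [commutatorElement_def]
  have hq' : q⁻¹ ≠ 1 := inv_ne_one.2 hq
  simp [Pi.mulSingle_apply, hq']

end Abstract

section WrRep

open RegularWreathProduct

variable {F : Type*} [Field F] {D Q W : Type*} [Group D] [Group Q] [AddCommGroup W] [Module F W]

/-- The representation of `D ≀ᵣ Q` on `Q → W` induced from a representation of `D` on `W`. -/
def wrRep (ρ : Representation F D W) : Representation F (D ≀ᵣ Q) (Q → W) where
  toFun a :=
    { toFun := fun v x => ρ (a.left x) (v (a.right⁻¹ * x))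
      map_add' := by
        intro v w
        funext x
        simp
      map_smul' := by
        intro c v
        funext x
        simp }
  map_one' := by
    refine LinearMap.ext fun v => funext fun x => ?_
    simp
  map_mul' a b := by
    refine LinearMap.ext fun v => funext fun x => ?_
    simp [mul_assoc]

theorem wrRep_apply (ρ : Representation F D W) (a : D ≀ᵣ Q) (v : Q → W) (x : Q) :
    wrRep ρ a v x = ρ (a.left x) (v (a.right⁻¹ * x)) := rfl

theorem wrRep_injective [Nontrivial W] (ρ : Representation F D W) (hρ : Function.Injective ρ) :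
    Function.Injective (wrRep (Q := Q) ρ) := by
  classical
  refine injective_of_map_eq_one _ fun a h => ?_
  obtain ⟨w, hw⟩ := exists_ne (0 : W)
  have hr : a.right = 1 := by
    by_contra hne
    have h1 := congrArg (fun f : Module.End F (Q → W) => f (Pi.single 1 w) 1) h
    have hne' : a.right⁻¹ ≠ 1 := inv_ne_one.2 hne
    simp [wrRep_apply, hne'] at h1
    exact hw h1.symm
  have hl : ∀ x, a.left x = 1 := by
    intro x
    apply hρ
    rw [map_one]
    refine LinearMap.ext fun w' => ?_
    have h1 := congrArg (fun f : Module.End F (Q → W) => f (Pi.single x w') x) h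
    simp [wrRep_apply, hr] at h1
    simpa using h1
  exact RegularWreathProduct.ext (funext hl) hr

end WrRep

section HasRep

open RegularWreathProduct

/-- Some finite `p`-group with nontrivial `k`-th derived subgroup has a faithful representation of
dimension `d > 0` over `F`. -/
def HasRep (F : Type u) [Field F] (p k d : ℕ) : Prop :=
  ∃ (T : Type u) (_ : Group T) (_ : Finite T) (W : Type u) (_ : AddCommGroup W)
    (_ : Module F W) (_ : Module.Finite F W) (ρ : Representation F T W),
    IsPGroup p T ∧ derivedSeries T k ≠ ⊥ ∧ Function.Injective ρ ∧ Module.finrank F W = d ∧ 0 < d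

theorem HasRep.step {F : Type u} [Field F] {p k d : ℕ} [Fact p.Prime] (h : HasRep F p k d) :
    HasRep F p (k + 1) (p * d) := by
  have hp : p.Prime := Fact.out
  obtain ⟨T, _, _, W, _, _, _, ρ, hT, hder, hinj, hfin, hd⟩ := h
  have hntQ : Nontrivial (Multiplicative (ZMod p)) := by
    have : Fact (1 < p) := ⟨hp.one_lt⟩
    infer_instance
  have hntW : Nontrivial W := Module.nontrivial_of_finrank_pos (R := F) (by rw [hfin]; exact hd)
  refine ⟨T ≀ᵣ Multiplicative (ZMod p), inferInstance, inferInstance,
    Multiplicative (ZMod p) → W, inferInstance, inferInstance, inferInstance,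
    wrRep ρ, ?_, wreath_derivedSeries_ne_bot k hder, wrRep_injective ρ hinj, ?_,
    Nat.mul_pos hp.pos hd⟩
  · obtain ⟨a, ha⟩ := IsPGroup.iff_card.1 hT
    have hc : Nat.card (T ≀ᵣ Multiplicative (ZMod p)) = p ^ (a * p + 1) := by
      rw [RegularWreathProduct.card, ha, Nat.card_eq_fintype_card]
      have : Fintype.card (Multiplicative (ZMod p)) = p := by
        rw [Fintype.card_multiplicative, ZMod.card]
      rw [this, ← pow_mul, pow_succ]
    exact IsPGroup.of_card hc
  · rw [Module.finrank_pi_fintype]
    simp only [hfin, Finset.sum_const, Finset.card_univ, smul_eq_mul]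
    rw [Fintype.card_multiplicative, ZMod.card]

theorem HasRep.iterate {F : Type u} [Field F] {p e : ℕ} [Fact p.Prime] (h : HasRep F p 0 e)
    (k : ℕ) : HasRep F p k (p ^ k * e) := by
  induction k with
  | zero => simpa using h
  | succ k ih =>
    have h1 := ih.step
    have h2 : p * (p ^ k * e) = p ^ (k + 1) * e := by ring
    rwa [h2] at h1

/-- An element of order `p` of `GL_e(F)` gives the base case. -/
theorem HasRep.base {F : Type u} [Field F] {p e : ℕ} [Fact p.Prime] (he : 0 < e)
    (c : Matrix.GeneralLinearGroup (Fin e) F) (hc : orderOf c = p) : HasRep F p 0 e := by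
  have hp : p.Prime := Fact.out
  have hcard : Nat.card (Subgroup.zpowers c) = p := by rw [Nat.card_zpowers, hc]
  have hfin : Finite (Subgroup.zpowers c) := by
    apply Nat.finite_of_card_ne_zero
    rw [hcard]; exact hp.ne_zero
  refine ⟨Subgroup.zpowers c, inferInstance, hfin, Fin e → F, inferInstance, inferInstance,
    inferInstance, matRep F (Subgroup.zpowers c).subtype, ?_, ?_, ?_, ?_, he⟩
  · exact IsPGroup.of_card (n := 1) (by rw [hcard, pow_one])
  · rw [derivedSeries_zero]
    have hnt : Nontrivial (Subgroup.zpowers c) := by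
      rw [← Finite.one_lt_card_iff_nontrivial, hcard]; exact hp.one_lt
    exact top_ne_bot
  · refine injective_of_map_eq_one _ fun a ha => ?_
    have h1 : a ∈ MonoidHom.ker (matRep F (Subgroup.zpowers c).subtype) := MonoidHom.mem_ker.2 ha
    rw [matRep_ker] at h1
    exact (Subgroup.zpowers c).subtype_injective (by rw [MonoidHom.mem_ker.1 h1, map_one])
  · rw [Module.finrank_fin_fun]

/-- A faithful representation of dimension `d ≤ n` gives an embedding into `GL_n(F)`. -/
theorem HasRep.exists_hom {F : Type u} [Field F] {p k d n : ℕ} (h : HasRep F p k d)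
    (hdn : d ≤ n) :
    ∃ (T : Type u) (_ : Group T) (_ : Finite T) (φ : T →* Matrix.GeneralLinearGroup (Fin n) F),
      IsPGroup p T ∧ derivedSeries T k ≠ ⊥ ∧ Function.Injective φ := by
  obtain ⟨T, _, _, W, _, _, _, ρ, hT, hder, hinj, hfin, hd⟩ := h
  let ρ' : Representation F T (W × (Fin (n - d) → F)) :=
    { toFun := fun g => LinearMap.prodMap (ρ g) LinearMap.id
      map_one' := by
        rw [map_one]
        exact LinearMap.prodMap_one
      map_mul' := by
        intro a b
        rw [map_mul]
        refine LinearMap.ext fun v => ?_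
        simp [Module.End.mul_apply] }
  have hfin' : Module.finrank F (W × (Fin (n - d) → F)) = n := by
    rw [Module.finrank_prod, hfin, Module.finrank_fin_fun]; omega
  let b := Module.finBasisOfFinrankEq F (W × (Fin (n - d) → F)) hfin'
  let φ : T →* Matrix.GeneralLinearGroup (Fin n) F :=
    (Units.map (MonoidHomClass.toMonoidHom (LinearMap.toMatrixAlgEquiv b))).comp ρ'.toHomUnits
  refine ⟨T, inferInstance, inferInstance, φ, hT, hder, ?_⟩
  intro x y hxy
  have h1 : (φ x : Matrix (Fin n) (Fin n) F) = φ y := by rw [hxy]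
  have h2 : LinearMap.toMatrixAlgEquiv b (ρ' x) = LinearMap.toMatrixAlgEquiv b (ρ' y) := h1
  have h3 : ρ' x = ρ' y := (LinearMap.toMatrixAlgEquiv b).injective h2
  apply hinj
  refine LinearMap.ext fun w => ?_
  have h4 := congrArg (fun f : Module.End F (W × (Fin (n - d) → F)) => (f (w, 0)).1) h3
  exact h4

end HasRep

section Sylow

open scoped Pointwise

/-- A finite `p`-group with nontrivial `k`-th derived subgroup embedded in `G` forces the `k`-th
derived subgroup of every Sylow `p`-subgroup of `G` to be nontrivial. -/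
theorem sylow_derivedSeries_ne_bot {G : Type*} [Group G] [Finite G] (p : ℕ) [Fact p.Prime]
    (P : Sylow p G) {T : Type*} [Group T] (hT : IsPGroup p T) (φ : T →* G)
    (hφ : Function.Injective φ) (k : ℕ) (h : derivedSeries T k ≠ ⊥) :
    derivedSeries (P : Subgroup G) k ≠ ⊥ := by
  have hr : IsPGroup p φ.range := by
    rw [MonoidHom.range_eq_map]
    exact (hT.to_subgroup ⊤).map φ
  obtain ⟨Q, hQ⟩ := hr.exists_le_sylow
  obtain ⟨g, hg⟩ := MulAction.exists_smul_eq G Q P
  have hmem : ∀ t, ((MulAut.conj g).toMonoidHom.comp φ) t ∈ (P : Subgroup G) := by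
    intro t
    have h1 : φ t ∈ (Q : Subgroup G) := hQ ⟨t, rfl⟩
    have h2 := Subgroup.smul_mem_pointwise_smul (φ t) (MulAut.conj g) (Q : Subgroup G) h1
    rw [← Sylow.coe_subgroup_smul, hg] at h2
    exact h2
  have hinj : Function.Injective (((MulAut.conj g).toMonoidHom.comp φ).codRestrict
      (P : Subgroup G) hmem) := by
    intro x y hxy
    have h1 := congrArg Subtype.val hxy
    have h2 : g * φ x * g⁻¹ = g * φ y * g⁻¹ := h1
    apply hφ
    have h3 : φ x = g⁻¹ * (g * φ x * g⁻¹) * g := by group
    rw [h3, h2]; group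
  intro h0
  exact h (derivedSeries_eq_bot_of_injective _ hinj k h0)

end Sylow

end Cfsg.Agent.Lib.Helper74.Wreath
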