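import Mathlib
import Cfsg.Agent.Lib.Helper74.Wreath

set_option autoImplicit false

/-! Finite `2`-groups of large derived length inside symplectic groups (helper74).

The standard symplectic form `om l` on `l ⊕ l → F`, a criterion for membership in
`Matrix.symplecticGroup`, and iterated regular wreath products of a quaternion group acting on
`F^(2·2^j)` preserving the form. -/

namespace Cfsg.Agent.Lib.Helper74.Symp

open Cfsg.Agent.Lib.Helper74.Wreath

open scoped commutatorElement

universe u

section Form

variable {F : Type*} [Field F]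

/-- The standard symplectic form on `l ⊕ l → F`. -/
def om (l : Type*) [Fintype l] (u v : l ⊕ l → F) : F :=
  ∑ i : l, (u (Sum.inr i) * v (Sum.inl i) - u (Sum.inl i) * v (Sum.inr i))

theorem toBilin_J (l : Type*) [Fintype l] [DecidableEq l] (u v : l ⊕ l → F) :
    Matrix.toBilin' (Matrix.J l F) u v = om l u v := by
  rw [Matrix.toBilin'_apply, om, Fintype.sum_sum_type]
  simp only [Fintype.sum_sum_type, Matrix.J, Matrix.fromBlocks_apply₁₁,
    Matrix.fromBlocks_apply₁₂, Matrix.fromBlocks_apply₂₁, Matrix.fromBlocks_apply₂₂,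
    Matrix.zero_apply, Matrix.neg_apply, Matrix.one_apply, mul_zero, zero_mul,
    Finset.sum_const_zero, zero_add, add_zero]
  simp only [mul_neg, mul_ite, mul_one, mul_zero, neg_mul, ite_mul, zero_mul,
    Finset.sum_neg_distrib, Finset.sum_ite_eq, Finset.mem_univ, if_true]
  rw [Finset.sum_sub_distrib]
  ring

/-- A matrix preserving the standard symplectic form is symplectic. -/
theorem mem_symp_of_pres (l : Type*) [Fintype l] [DecidableEq l]
    (A : Matrix (l ⊕ l) (l ⊕ l) F)
    (h : ∀ u v, om l (A.mulVec u) (A.mulVec v) = om l u v) :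
    A ∈ Matrix.symplecticGroup l F := by
  rw [SymplecticGroup.mem_iff']
  apply Matrix.toBilin'.injective
  rw [← Matrix.toBilin'_comp]
  refine LinearMap.ext₂ fun u v => ?_
  rw [LinearMap.BilinForm.comp_apply, Matrix.toLin'_apply, Matrix.toLin'_apply, toBilin_J,
    toBilin_J]
  exact h u v

/-- Transport of a form-preserving faithful representation along a linear equivalence. -/
theorem transport {T : Type*} [Group T] {l : Type*} [Fintype l] {X : Type*} [AddCommGroup X]
    [Module F X] (Ω : X → X → F) (E : (l ⊕ l → F) ≃ₗ[F] X)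
    (hE : ∀ u v, om l u v = Ω (E u) (E v)) (σ : Representation F T X)
    (hσ : ∀ g x y, Ω (σ g x) (σ g y) = Ω x y) (hinj : Function.Injective σ) :
    ∃ ρ : Representation F T (l ⊕ l → F), Function.Injective ρ ∧
      ∀ g u v, om l (ρ g u) (ρ g v) = om l u v := by
  refine ⟨{ toFun := fun g => E.symm.toLinearMap ∘ₗ σ g ∘ₗ E.toLinearMap
            map_one' := ?_
            map_mul' := ?_ }, ?_, ?_⟩
  · refine LinearMap.ext fun u => ?_
    simp
  · intro a b
    refine LinearMap.ext fun u => ?_
    simp
  · intro a b hab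
    apply hinj
    refine LinearMap.ext fun x => ?_
    have h1 := congrArg (fun f : Module.End F (l ⊕ l → F) => E (f (E.symm x))) hab
    simpa using h1
  · intro g u v
    show om l (E.symm (σ g (E u))) (E.symm (σ g (E v))) = om l u v
    rw [hE, hE, LinearEquiv.apply_symm_apply, LinearEquiv.apply_symm_apply, hσ]

end Form

section HasSp

open RegularWreathProduct

/-- Some finite `2`-group with nontrivial `k`-th derived subgroup acts faithfully on
`l ⊕ l → F`, `l` of cardinality `m`, preserving the standard symplectic form. -/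
def HasSp (F : Type u) [Field F] (k m : ℕ) : Prop :=
  ∃ (l : Type) (_ : Fintype l) (_ : Nonempty l) (T : Type u) (_ : Group T) (_ : Finite T)
    (ρ : Representation F T (l ⊕ l → F)),
    Fintype.card l = m ∧ IsPGroup 2 T ∧ derivedSeries T k ≠ ⊥ ∧ Function.Injective ρ ∧
      ∀ g u v, om l (ρ g u) (ρ g v) = om l u v

theorem HasSp.step {F : Type u} [Field F] {k m : ℕ} (h : HasSp F k m) :
    HasSp F (k + 1) (2 * m) := by
  obtain ⟨l, _, _, T, _, _, ρ, hcard, hT, hder, hinj, hpres⟩ := h
  have hntQ : Nontrivial (Multiplicative (ZMod 2)) := by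
    have : Fact (1 < 2) := ⟨by norm_num⟩
    infer_instance
  have hσinj := wrRep_injective (Q := Multiplicative (ZMod 2)) ρ hinj
  have hσpres : ∀ (a : T ≀ᵣ Multiplicative (ZMod 2))
      (x y : Multiplicative (ZMod 2) → (l ⊕ l → F)),
      (∑ q, om l (wrRep ρ a x q) (wrRep ρ a y q)) = ∑ q, om l (x q) (y q) := by
    intro a x y
    simp only [wrRep_apply, hpres]
    exact Equiv.sum_comp (Equiv.mulLeft a.right⁻¹) (fun q => om l (x q) (y q))
  obtain ⟨ρ', hinj', hpres'⟩ := transport (l := Multiplicative (ZMod 2) × l)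
    (fun x y : Multiplicative (ZMod 2) → (l ⊕ l → F) => ∑ q, om l (x q) (y q))
    ((LinearEquiv.funCongrLeft F F (Equiv.prodSumDistrib (Multiplicative (ZMod 2)) l l)).trans
      (LinearEquiv.curry F F (Multiplicative (ZMod 2)) (l ⊕ l)))
    (by
      intro u v
      simp only [om, Fintype.sum_prod_type]
      rfl)
    (wrRep ρ) hσpres hσinj
  refine ⟨Multiplicative (ZMod 2) × l, inferInstance, inferInstance,
    T ≀ᵣ Multiplicative (ZMod 2), inferInstance, inferInstance, ρ', ?_, ?_,
    wreath_derivedSeries_ne_bot k hder, hinj', hpres'⟩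
  · rw [Fintype.card_prod, Fintype.card_multiplicative, ZMod.card, hcard]
  · obtain ⟨a, ha⟩ := IsPGroup.iff_card.1 hT
    have hc : Nat.card (T ≀ᵣ Multiplicative (ZMod 2)) = 2 ^ (a * 2 + 1) := by
      rw [RegularWreathProduct.card, ha, Nat.card_eq_fintype_card]
      have : Fintype.card (Multiplicative (ZMod 2)) = 2 := by
        rw [Fintype.card_multiplicative, ZMod.card]
      rw [this, ← pow_mul, pow_succ]
    exact IsPGroup.of_card hc

theorem HasSp.iterate {F : Type u} [Field F] {k : ℕ} (h : HasSp F k 1) (j : ℕ) :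
    HasSp F (k + j) (2 ^ j) := by
  induction j with
  | zero => simpa using h
  | succ j ih =>
    have h1 := ih.step
    have h2 : 2 * 2 ^ j = 2 ^ (j + 1) := by ring
    rwa [h2] at h1

/-- Conversion to an embedding into the symplectic group of degree `2n`. -/
theorem HasSp.exists_hom {F : Type u} [Field F] {k m n : ℕ} (h : HasSp F k m) (hmn : m ≤ n) :
    ∃ (T : Type u) (_ : Group T) (_ : Finite T)
      (φ : T →* Matrix.symplecticGroup (Fin n) F),
      IsPGroup 2 T ∧ derivedSeries T k ≠ ⊥ ∧ Function.Injective φ := by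
  classical
  obtain ⟨l, _, _, T, _, _, ρ, hcard, hT, hder, hinj, hpres⟩ := h
  have hc : Fintype.card (l ⊕ Fin (n - m)) = n := by
    rw [Fintype.card_sum, hcard, Fintype.card_fin]; omega
  let e : l ⊕ Fin (n - m) ≃ Fin n := Fintype.equivFinOfCardEq hc
  let σ : Representation F T ((l ⊕ l → F) × (Fin (n - m) ⊕ Fin (n - m) → F)) :=
    { toFun := fun g => LinearMap.prodMap (ρ g) LinearMap.id
      map_one' := by
        rw [map_one]
        exact LinearMap.prodMap_one
      map_mul' := by
        intro a b
        rw [map_mul]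
        refine LinearMap.ext fun v => ?_
        simp [Module.End.mul_apply] }
  have hσinj : Function.Injective σ := by
    intro a b hab
    apply hinj
    refine LinearMap.ext fun w => ?_
    have h4 := congrArg (fun f : Module.End F ((l ⊕ l → F) ×
      (Fin (n - m) ⊕ Fin (n - m) → F)) => (f (w, 0)).1) hab
    exact h4
  obtain ⟨ρ', hinj', hpres'⟩ := transport (l := Fin n)
    (fun x y : (l ⊕ l → F) × (Fin (n - m) ⊕ Fin (n - m) → F) =>
      om l x.1 y.1 + om (Fin (n - m)) x.2 y.2)
    ((LinearEquiv.funCongrLeft F F ((Equiv.sumSumSumComm l l (Fin (n - m)) (Fin (n - m))).trans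
      (Equiv.sumCongr e e))).trans
      (LinearEquiv.sumArrowLequivProdArrow (l ⊕ l) (Fin (n - m) ⊕ Fin (n - m)) F F))
    (by
      intro u v
      simp only [om]
      rw [← Equiv.sum_comp e, Fintype.sum_sum_type]
      rfl)
    σ
    (by
      intro g x y
      show om l (ρ g x.1) (ρ g y.1) + om (Fin (n - m)) x.2 y.2 = _
      rw [hpres])
    hσinj
  have hmem : ∀ g, (MonoidHomClass.toMonoidHom (LinearMap.toMatrixAlgEquiv' (R := F)
      (n := Fin n ⊕ Fin n))).comp ρ' g ∈ Matrix.symplecticGroup (Fin n) F := by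
    intro g
    refine mem_symp_of_pres (Fin n) _ fun u v => ?_
    have h1 : ∀ w, (LinearMap.toMatrix' (ρ' g)).mulVec w = ρ' g w := by
      intro w
      rw [← Matrix.toLin'_apply, Matrix.toLin'_toMatrix']
    show om (Fin n) ((LinearMap.toMatrix' (ρ' g)).mulVec u)
      ((LinearMap.toMatrix' (ρ' g)).mulVec v) = _
    rw [h1, h1, hpres']
  refine ⟨T, inferInstance, inferInstance,
    ((MonoidHomClass.toMonoidHom (LinearMap.toMatrixAlgEquiv' (R := F)
      (n := Fin n ⊕ Fin n))).comp ρ').codRestrict _ hmem, hT, hder, ?_⟩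
  intro a b hab
  apply hinj'
  have h1 := congrArg Subtype.val hab
  exact (LinearMap.toMatrixAlgEquiv' (R := F) (n := Fin n ⊕ Fin n)).injective h1

end HasSp

end Cfsg.Agent.Lib.Helper74.Symp
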