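import Mathlib
import Cfsg.Agent.Lib.Helper74.Symp

set_option autoImplicit false

/-! The base case for `Symp.HasSp`: a quaternion group inside `SL₂(F)` (helper74). -/

namespace Cfsg.Agent.Lib.Helper74.SympBase

open Cfsg.Agent.Lib.Helper74.Wreath Cfsg.Agent.Lib.Helper74.Symp

open scoped commutatorElement

universe u

theorem isPGroup_zpowers_of_pow_eq_one {G : Type*} [Group G] (x : G) (p k : ℕ)
    (h : x ^ p ^ k = 1) : IsPGroup p (Subgroup.zpowers x) := by
  rintro ⟨g, hg⟩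
  obtain ⟨m, rfl⟩ := Subgroup.mem_zpowers_iff.1 hg
  refine ⟨k, Subtype.ext ?_⟩
  show (x ^ m) ^ (p ^ k) = 1
  rw [← zpow_natCast, ← zpow_mul, mul_comm, zpow_mul, zpow_natCast, h, one_zpow]

open Matrix in
/-- The base case: a quaternion group inside `SL₂(F)`, `F` a finite field of odd
characteristic. -/
theorem hasSp_base {F : Type u} [Field F] [Fintype F] (hodd : Odd (Fintype.card F)) :
    HasSp F 1 1 := by
  classical
  obtain ⟨ℓ, hℓ⟩ := CharP.exists F
  obtain ⟨r, hprime, hcard⟩ := FiniteField.card F ℓ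
  have hfact : Fact ℓ.Prime := ⟨hprime⟩
  have h2 : (2 : F) ≠ 0 := by
    intro h0
    have h1 : ((2 : ℕ) : F) = 0 := by exact_mod_cast h0
    have h3 : ℓ ∣ 2 := (CharP.cast_eq_zero_iff F ℓ 2).1 h1
    have h4 : ℓ = 2 := (Nat.prime_dvd_prime_iff_eq hprime Nat.prime_two).1 h3
    rw [hcard, h4] at hodd
    exact (Nat.not_even_iff_odd.2 hodd) (Nat.even_pow.2 ⟨even_two, r.ne_zero⟩)
  obtain ⟨a', b', hab'⟩ := CharP.sq_add_sq F ℓ (-1)
  obtain ⟨a, ha⟩ : ∃ a : F, a = (a' : F) := ⟨_, rfl⟩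
  obtain ⟨b, hb⟩ : ∃ b : F, b = (b' : F) := ⟨_, rfl⟩
  have hab : a ^ 2 + b ^ 2 = -1 := by
    rw [ha, hb, hab']; simp
  obtain ⟨Im, hIm⟩ : ∃ Im : Matrix (Fin 2) (Fin 2) F, Im = !![0, 1; -1, 0] := ⟨_, rfl⟩
  obtain ⟨Jm, hJm⟩ : ∃ Jm : Matrix (Fin 2) (Fin 2) F, Jm = !![a, b; b, -a] := ⟨_, rfl⟩
  have hII : Im * Im = -1 := by
    rw [hIm, Matrix.mul_fin_two]
    ext i j
    fin_cases i <;> fin_cases j <;> simp
  have hJJ : Jm * Jm = -1 := by
    rw [hJm, Matrix.mul_fin_two]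
    ext i j
    fin_cases i <;> fin_cases j <;> simp
    · linear_combination hab
    · ring
    · ring
    · linear_combination hab
  have hIJI : Im * Jm * Im = Jm := by
    rw [hIm, hJm, Matrix.mul_fin_two, Matrix.mul_fin_two]
    ext i j
    fin_cases i <;> fin_cases j <;> simp
  have hne : Im * Jm ≠ Jm * Im := by
    intro h
    rw [hIm, hJm, Matrix.mul_fin_two, Matrix.mul_fin_two] at h
    have h1 := congrFun (congrFun h 0) 0
    have h2' := congrFun (congrFun h 0) 1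
    simp at h1 h2'
    have hb0 : b = 0 := by
      have h3 : (2 : F) * b = 0 := by linear_combination h1
      rcases mul_eq_zero.1 h3 with h | h
      · exact absurd h h2
      · exact h
    have ha0 : a = 0 := by
      have h3 : (2 : F) * a = 0 := by linear_combination -h2'
      rcases mul_eq_zero.1 h3 with h | h
      · exact absurd h h2
      · exact h
    rw [ha0, hb0] at hab
    have h4 : (1 : F) = 0 := by linear_combination hab
    exact one_ne_zero h4
  have hdI : Im.det = 1 := by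
    rw [hIm, Matrix.det_fin_two]; simp
  have hdJ : Jm.det = 1 := by
    rw [hJm, Matrix.det_fin_two]; simp; linear_combination -hab
  obtain ⟨I, hI⟩ : ∃ I : SpecialLinearGroup (Fin 2) F, I.1 = Im := ⟨⟨Im, hdI⟩, rfl⟩
  obtain ⟨J, hJ⟩ : ∃ J : SpecialLinearGroup (Fin 2) F, J.1 = Jm := ⟨⟨Jm, hdJ⟩, rfl⟩
  have hI4 : I ^ 2 ^ 2 = 1 := by
    apply Subtype.ext
    have h1 : (I ^ 2 ^ 2 : SpecialLinearGroup (Fin 2) F).1 = I.1 ^ 4 :=
      Matrix.SpecialLinearGroup.coe_pow I 4
    have h3 : Im ^ 4 = (Im * Im) * (Im * Im) := by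
      rw [pow_succ, pow_succ, pow_succ, pow_one]; simp only [mul_assoc]
    rw [h1, hI, h3, hII]
    simp
  have hJ4 : J ^ 2 ^ 2 = 1 := by
    apply Subtype.ext
    have h1 : (J ^ 2 ^ 2 : SpecialLinearGroup (Fin 2) F).1 = J.1 ^ 4 :=
      Matrix.SpecialLinearGroup.coe_pow J 4
    have h3 : Jm ^ 4 = (Jm * Jm) * (Jm * Jm) := by
      rw [pow_succ, pow_succ, pow_succ, pow_one]; simp only [mul_assoc]
    rw [h1, hJ, h3, hJJ]
    simp
  have hIJI' : I * J * I = J := by
    apply Subtype.ext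
    show I.1 * J.1 * I.1 = J.1
    rw [hI, hJ, hIJI]
  have hneIJ : I * J ≠ J * I := by
    intro h
    apply hne
    have h1 := congrArg Subtype.val h
    have h3 : I.1 * J.1 = J.1 * I.1 := h1
    rw [hI, hJ] at h3
    exact h3
  -- conjugation by `J` inverts `I`
  have hconj : J * I * J⁻¹ = I⁻¹ := by
    have h1 : J * I = I⁻¹ * J := by
      rw [eq_inv_mul_iff_mul_eq, ← mul_assoc, hIJI']
    rw [h1]; group
  have hconj' : J⁻¹ * I * J = I⁻¹ := by
    have h1 : I = J⁻¹ * I⁻¹ * J := by rw [← hconj]; group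
    have h3 : I⁻¹ = (J⁻¹ * I⁻¹ * J)⁻¹ := by rw [← h1]
    rw [h3]; group
  have hnorm : Subgroup.zpowers J ≤ Subgroup.normalizer (Subgroup.zpowers I) := by
    rw [Subgroup.zpowers_le, Subgroup.mem_normalizer_iff]
    intro x
    constructor
    · intro hx
      obtain ⟨m, rfl⟩ := Subgroup.mem_zpowers_iff.1 hx
      have h1 : J * I ^ m * J⁻¹ = (I ^ m)⁻¹ := by
        rw [← conj_zpow, hconj, _root_.inv_zpow]
      rw [h1]
      exact (Subgroup.zpowers I).inv_mem (Subgroup.zpow_mem_zpowers I m)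
    · intro hx
      obtain ⟨m, hm⟩ := Subgroup.mem_zpowers_iff.1 hx
      have h1 : x = J⁻¹ * I ^ m * J⁻¹⁻¹ := by rw [hm]; group
      have h3 : J⁻¹ * I ^ m * J⁻¹⁻¹ = (I ^ m)⁻¹ := by
        rw [← conj_zpow, inv_inv, hconj', _root_.inv_zpow]
      rw [h1, h3]
      exact (Subgroup.zpowers I).inv_mem (Subgroup.zpow_mem_zpowers I m)
  obtain ⟨T, hTdef⟩ : ∃ T : Subgroup (SpecialLinearGroup (Fin 2) F),
      T = Subgroup.zpowers J ⊔ Subgroup.zpowers I := ⟨_, rfl⟩
  have hT : IsPGroup 2 T := by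
    rw [hTdef]
    exact IsPGroup.to_sup_of_normal_right' (isPGroup_zpowers_of_pow_eq_one J 2 2 hJ4)
      (isPGroup_zpowers_of_pow_eq_one I 2 2 hI4) hnorm
  have hIT : I ∈ T := by
    rw [hTdef]; exact (le_sup_right : Subgroup.zpowers I ≤ _) (Subgroup.mem_zpowers I)
  have hJT : J ∈ T := by
    rw [hTdef]; exact (le_sup_left : Subgroup.zpowers J ≤ _) (Subgroup.mem_zpowers J)
  have hder : derivedSeries T 1 ≠ ⊥ := by
    intro h0
    have h1 : ⁅(⟨I, hIT⟩ : T), ⟨J, hJT⟩⁆ ∈ derivedSeries T 1 := by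
      rw [derivedSeries_succ, derivedSeries_zero]
      exact Subgroup.commutator_mem_commutator (Subgroup.mem_top _) (Subgroup.mem_top _)
    rw [h0, Subgroup.mem_bot, commutatorElement_eq_one_iff_mul_comm] at h1
    exact hneIJ (congrArg Subtype.val h1)
  -- the representation on `Fin 2 → F`
  let σ : Representation F T (Fin 2 → F) :=
    { toFun := fun g => Matrix.toLin' (g.1.1)
      map_one' := by
        show Matrix.toLin' (1 : Matrix (Fin 2) (Fin 2) F) = 1
        rw [Matrix.toLin'_one]; rfl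
      map_mul' := by
        intro x y
        show Matrix.toLin' (x.1.1 * y.1.1) = _
        rw [Matrix.toLin'_mul]; rfl }
  have hσinj : Function.Injective σ := by
    intro x y hxy
    have h1 : Matrix.toLin' (x.1.1) = Matrix.toLin' (y.1.1) := hxy
    exact Subtype.ext (Subtype.ext (Matrix.toLin'.injective h1))
  have hσpres : ∀ (g : T) (x y : Fin 2 → F),
      σ g x 1 * σ g y 0 - σ g x 0 * σ g y 1 = x 1 * y 0 - x 0 * y 1 := by
    intro g x y
    have hdet : g.1.1 0 0 * g.1.1 1 1 - g.1.1 0 1 * g.1.1 1 0 = 1 := by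
      rw [← Matrix.det_fin_two]; exact g.1.2
    show (Matrix.toLin' (g.1.1) x) 1 * (Matrix.toLin' (g.1.1) y) 0 -
      (Matrix.toLin' (g.1.1) x) 0 * (Matrix.toLin' (g.1.1) y) 1 = _
    simp only [Matrix.toLin'_apply, Matrix.mulVec, dotProduct, Fin.sum_univ_two]
    linear_combination (x 1 * y 0 - x 0 * y 1) * hdet
  obtain ⟨ρ, hinj, hpres⟩ := transport (l := Unit)
    (fun x y : Fin 2 → F => x 1 * y 0 - x 0 * y 1)
    (LinearEquiv.funCongrLeft F F (finTwoEquiv.trans Equiv.boolEquivPUnitSumPUnit))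
    (by
      intro u v
      simp only [om, Finset.univ_unique, Finset.sum_singleton]
      rfl)
    σ hσpres hσinj
  exact ⟨Unit, inferInstance, inferInstance, T, inferInstance, inferInstance, ρ,
    Fintype.card_unit, hT, hder, hinj, hpres⟩

end Cfsg.Agent.Lib.Helper74.SympBase
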