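import Mathlib

set_option autoImplicit false

/-!
Traces of products of conjugates in `SL_n(F)`: for non-scalar `A`, `B` (at least three indices)
every element of `F` is the trace of some `A' * B'` with `A'`, `B'` conjugate to `A`, `B`.
-/

namespace Cfsg.Agent.Lib.Helper74.TraceConj

open Matrix

variable {ι : Type*} [Fintype ι] [DecidableEq ι] {F : Type*} [Field F]

/-- Trace of `X` times a transvection conjugate of `Y`: a quadratic polynomial in the parameter. -/
theorem trace_mul_conj_single (X Y : Matrix ι ι F) (i j : ι) (s : F) :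
    trace (X * ((1 + single i j s) * Y * (1 + single i j (-s)))) =
      trace (X * Y) + s * ((Y * X) j i - (X * Y) j i) - s * s * (X j i * Y j i) := by
  have e : X * ((1 + single i j s) * Y * (1 + single i j (-s))) =
      X * Y + X * (single i j s * Y) + X * Y * single i j (-s) +
        X * (single i j s * Y * single i j (-s)) := by
    noncomm_ring
  rw [e, trace_add, trace_add, trace_add, trace_mul_comm X (single i j s * Y), mul_assoc,
    trace_single_mul, trace_mul_single, single_mul_mul_single, trace_mul_single]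
  simp only [smul_eq_mul, MulOpposite.smul_eq_mul_unop, MulOpposite.unop_op]
  ring

/-- A non-scalar matrix has a vector which is not an eigenvector. -/
theorem exists_not_eigen (M : Matrix ι ι F) (hM : ∀ c : F, M ≠ Matrix.scalar ι c) :
    ∃ u : ι → F, ∀ c : F, M *ᵥ u ≠ c • u := by
  by_contra hcon
  push Not at hcon
  choose c hc using fun i : ι => hcon (Pi.single i 1)
  have hcol : ∀ i a : ι, M a i = if a = i then c i else 0 := by
    intro i a
    have h1 := congrFun (hc i) a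
    rw [mulVec_single_one] at h1
    rw [Pi.smul_apply, Pi.single_apply, smul_eq_mul, mul_ite, mul_one, mul_zero] at h1
    exact h1
  have hconst : ∀ i j : ι, c i = c j := by
    intro i j
    by_cases hij : i = j
    · rw [hij]
    obtain ⟨e, he⟩ := hcon (Pi.single i 1 + Pi.single j 1)
    rw [mulVec_add, hc i, hc j] at he
    have h1 := congrFun he i
    have h2 := congrFun he j
    simp only [Pi.add_apply, Pi.smul_apply, Pi.single_apply, smul_eq_mul] at h1 h2
    have hji : ¬ j = i := fun h => hij h.symm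
    simp only [if_true, if_neg hij, if_neg hji, mul_one, mul_zero, add_zero, zero_add] at h1 h2
    rw [h1, h2]
  rcases isEmpty_or_nonempty ι with hι | ⟨⟨i₀⟩⟩
  · apply hM 0
    ext a
    exact (hι.false a).elim
  · apply hM (c i₀)
    ext a i
    rw [hcol i a, Matrix.scalar_apply, Matrix.diagonal_apply, hconst i i₀]

/-- Normal form of a column: a non-scalar element of `SL` has a conjugate whose `i₀`-th column
is a non-zero multiple of the `j`-th basis vector, for any `j ≠ i₀`. -/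
theorem exists_conj_col (M : Matrix.SpecialLinearGroup ι F)
    (hM : ∀ c : F, (M : Matrix ι ι F) ≠ Matrix.scalar ι c) (i₀ j : ι) (hj : j ≠ i₀) :
    ∃ K : Matrix.SpecialLinearGroup ι F, ∃ c : F, c ≠ 0 ∧
      ∀ a, (↑(K * M * K⁻¹) : Matrix ι ι F) a i₀ = if a = j then c else 0 := by
  obtain ⟨u, hu⟩ := exists_not_eigen (M : Matrix ι ι F) hM
  have hu0 : u ≠ 0 := by
    intro h
    apply hu 0
    rw [h, mulVec_zero, smul_zero]
  have hMu0 : (M : Matrix ι ι F) *ᵥ u ≠ 0 := by
    intro h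
    apply hu 0
    rw [h, zero_smul]
  have he0 : (Pi.single i₀ 1 : ι → F) ≠ 0 := by
    intro h
    have := congrFun h i₀
    simp at this
  have hej : (Pi.single j 1 : ι → F) ≠ 0 := by
    intro h
    have := congrFun h j
    simp at this
  have hD : Projectivization.mk F u hu0 ≠ Projectivization.mk F ((M : Matrix ι ι F) *ᵥ u) hMu0 := by
    intro h
    rw [Projectivization.mk_eq_mk_iff] at h
    obtain ⟨a, ha⟩ := h
    apply hu ((a⁻¹ : Fˣ) : F)
    have ha' : (a : F) • ((M : Matrix ι ι F) *ᵥ u) = u := ha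
    calc (M : Matrix ι ι F) *ᵥ u
        = ((a⁻¹ : Fˣ) : F) • ((a : F) • ((M : Matrix ι ι F) *ᵥ u)) := by
          rw [smul_smul, Units.inv_mul, one_smul]
      _ = ((a⁻¹ : Fˣ) : F) • u := by rw [ha']
  have hE : Projectivization.mk F (Pi.single i₀ 1 : ι → F) he0 ≠
      Projectivization.mk F (Pi.single j 1 : ι → F) hej := by
    intro h
    rw [Projectivization.mk_eq_mk_iff] at h
    obtain ⟨a, ha⟩ := h
    have := congrFun ha i₀
    simp [hj.symm] at this
  have h2 : MulAction.IsMultiplyPretransitive (Matrix.SpecialLinearGroup ι F)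
      (Projectivization F (ι → F)) 2 := inferInstance
  rw [MulAction.is_two_pretransitive_iff] at h2
  obtain ⟨K, hK1, hK2⟩ := h2 hD hE
  rw [Projectivization.smul_mk, Projectivization.mk_eq_mk_iff] at hK1 hK2
  obtain ⟨a, ha⟩ := hK1
  obtain ⟨b, hb⟩ := hK2
  have ha' : (K : Matrix ι ι F) *ᵥ u = (a : F) • Pi.single i₀ 1 := ha.symm
  have hb' : (K : Matrix ι ι F) *ᵥ ((M : Matrix ι ι F) *ᵥ u) = (b : F) • Pi.single j 1 := hb.symm
  have hKinv : (↑(K⁻¹) : Matrix ι ι F) *ᵥ (Pi.single i₀ 1 : ι → F) = ((a⁻¹ : Fˣ) : F) • u := by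
    have h1 : (↑(K⁻¹) : Matrix ι ι F) *ᵥ ((K : Matrix ι ι F) *ᵥ u) = u := by
      rw [mulVec_mulVec, ← Matrix.SpecialLinearGroup.coe_mul, inv_mul_cancel,
        Matrix.SpecialLinearGroup.coe_one, one_mulVec]
    rw [ha', mulVec_smul] at h1
    rw [← h1, smul_smul, Units.inv_mul, one_smul]
  refine ⟨K, ((a⁻¹ : Fˣ) : F) * (b : F), mul_ne_zero (Units.ne_zero _) (Units.ne_zero _), ?_⟩
  intro x
  have h3 : (↑(K * M * K⁻¹) : Matrix ι ι F) *ᵥ (Pi.single i₀ 1 : ι → F) =
      (((a⁻¹ : Fˣ) : F) * (b : F)) • Pi.single j 1 := by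
    rw [Matrix.SpecialLinearGroup.coe_mul, Matrix.SpecialLinearGroup.coe_mul, ← mulVec_mulVec,
      ← mulVec_mulVec, hKinv, mulVec_smul, mulVec_smul, hb', smul_smul]
  have h4 := congrFun h3 x
  rw [mulVec_single_one] at h4
  rw [Pi.smul_apply, Pi.single_apply, smul_eq_mul, mul_ite, mul_one, mul_zero] at h4
  exact h4

/-- Conjugating `Y` by `x_{i₀ i₂}(δ)` keeps the `i₀`-th column (a multiple of `e_{i₁}`). -/
theorem conj_col_keep (Y : Matrix ι ι F) (i₀ i₁ i₂ : ι) (h01 : i₀ ≠ i₁) (h02 : i₀ ≠ i₂)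
    (h12 : i₁ ≠ i₂) (y δ : F) (hY : ∀ a, Y a i₀ = if a = i₁ then y else 0) (a : ι) :
    ((1 + single i₀ i₂ (-δ)) * Y * (1 + single i₀ i₂ δ)) a i₀ = if a = i₁ then y else 0 := by
  have e : (1 + single i₀ i₂ (-δ)) * Y * (1 + single i₀ i₂ δ) =
      Y + single i₀ i₂ (-δ) * Y + Y * single i₀ i₂ δ +
        single i₀ i₂ (-δ) * Y * single i₀ i₂ δ := by
    noncomm_ring
  rw [e, single_mul_mul_single, Matrix.add_apply, Matrix.add_apply, Matrix.add_apply,
    mul_single_apply_of_ne _ _ _ _ _ h02, single_apply_of_col_ne _ _ h02.symm, add_zero, add_zero]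
  by_cases ha : a = i₀
  · subst ha
    rw [single_mul_apply_same, hY i₂, if_neg h12.symm, mul_zero, add_zero]
    exact hY a
  · rw [single_mul_apply_of_ne _ _ _ _ _ ha, add_zero]
    exact hY a

/-- Conjugating `Y` by `x_{i₀ i₂}(δ)` shifts the `(i₁, i₂)` entry by `δ y`. -/
theorem conj_entry_shift (Y : Matrix ι ι F) (i₀ i₁ i₂ : ι) (h01 : i₀ ≠ i₁)
    (y δ : F) (hY : ∀ a, Y a i₀ = if a = i₁ then y else 0) :
    ((1 + single i₀ i₂ (-δ)) * Y * (1 + single i₀ i₂ δ)) i₁ i₂ = Y i₁ i₂ + y * δ := by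
  have e : (1 + single i₀ i₂ (-δ)) * Y * (1 + single i₀ i₂ δ) =
      Y + single i₀ i₂ (-δ) * Y + Y * single i₀ i₂ δ +
        single i₀ i₂ (-δ) * Y * single i₀ i₂ δ := by
    noncomm_ring
  rw [e, single_mul_mul_single, Matrix.add_apply, Matrix.add_apply, Matrix.add_apply,
    single_mul_apply_of_ne _ _ _ _ _ h01.symm, single_apply_of_row_ne h01, mul_single_apply_same,
    hY i₁, if_pos rfl, add_zero, add_zero]

/-- Every trace is attained: if the `i₀`-th column of `X` is `x e_{i₂}` and that of `Y` is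
`y e_{i₁}` (`x, y ≠ 0`, three distinct indices), then for every `τ` some `SL`-conjugate `Y'` of
`Y` has `tr (X Y') = τ`. -/
theorem exists_trace_eq (X Y : Matrix ι ι F) (i₀ i₁ i₂ : ι) (h01 : i₀ ≠ i₁) (h02 : i₀ ≠ i₂)
    (h12 : i₁ ≠ i₂) (x y : F) (hx : x ≠ 0) (hy : y ≠ 0)
    (hX : ∀ a, X a i₀ = if a = i₂ then x else 0) (hY : ∀ a, Y a i₀ = if a = i₁ then y else 0)
    (τ : F) :
    ∃ T : Matrix.SpecialLinearGroup ι F,
      trace (X * ((T : Matrix ι ι F) * Y * (↑(T⁻¹) : Matrix ι ι F))) = τ := by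
  set δ : F := (1 - (Y i₁ i₂ * x - X i₁ i₁ * y)) / (x * y) with hδ
  set Y2 : Matrix ι ι F := (1 + single i₀ i₂ (-δ)) * Y * (1 + single i₀ i₂ δ) with hY2
  have hcol : ∀ a, Y2 a i₀ = if a = i₁ then y else 0 :=
    conj_col_keep Y i₀ i₁ i₂ h01 h02 h12 y δ hY
  have hent : Y2 i₁ i₂ = Y i₁ i₂ + y * δ := conj_entry_shift Y i₀ i₁ i₂ h01 y δ hY
  set s : F := τ - trace (X * Y2) with hs
  refine ⟨Matrix.SpecialLinearGroup.transvection h01 s *
      Matrix.SpecialLinearGroup.transvection h02 (-δ), ?_⟩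
  have hT : (↑(Matrix.SpecialLinearGroup.transvection h01 s *
      Matrix.SpecialLinearGroup.transvection h02 (-δ)) : Matrix ι ι F) =
      (1 + single i₀ i₁ s) * (1 + single i₀ i₂ (-δ)) := rfl
  have hTi : (↑((Matrix.SpecialLinearGroup.transvection h01 s *
      Matrix.SpecialLinearGroup.transvection h02 (-δ))⁻¹) : Matrix ι ι F) =
      (1 + single i₀ i₂ δ) * (1 + single i₀ i₁ (-s)) := by
    rw [_root_.mul_inv_rev, Matrix.SpecialLinearGroup.transvection_inv,
      Matrix.SpecialLinearGroup.transvection_inv, neg_neg]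
    rfl
  have e : (1 + single i₀ i₁ s) * (1 + single i₀ i₂ (-δ)) * Y *
      ((1 + single i₀ i₂ δ) * (1 + single i₀ i₁ (-s))) =
      (1 + single i₀ i₁ s) * Y2 * (1 + single i₀ i₁ (-s)) := by
    rw [hY2]
    simp only [mul_assoc]
  rw [hT, hTi, e, trace_mul_conj_single]
  have h1 : (Y2 * X) i₁ i₀ = Y2 i₁ i₂ * x := by
    rw [Matrix.mul_apply, Finset.sum_eq_single i₂]
    · rw [hX i₂, if_pos rfl]
    · intro b _ hb
      rw [hX b, if_neg hb, mul_zero]
    · intro h
      exact (h (Finset.mem_univ _)).elim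
  have h2 : (X * Y2) i₁ i₀ = X i₁ i₁ * y := by
    rw [Matrix.mul_apply, Finset.sum_eq_single i₁]
    · rw [hcol i₁, if_pos rfl]
    · intro b _ hb
      rw [hcol b, if_neg hb, mul_zero]
    · intro h
      exact (h (Finset.mem_univ _)).elim
  have h3 : X i₁ i₀ = 0 := by rw [hX i₁, if_neg h12]
  rw [h1, h2, h3, hent, zero_mul, mul_zero, sub_zero]
  have h4 : (Y i₁ i₂ + y * δ) * x - X i₁ i₁ * y = 1 := by
    rw [hδ]
    field_simp
    ring
  rw [h4, mul_one, hs]
  ring

end Cfsg.Agent.Lib.Helper74.TraceConj
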